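import Cfsg.Agent.LargeExtra.W2.LFour.TwistK
import Cfsg.Agent.Transfer.ThompsonTransfer

/-!
# S1759, case `9aa`, case I: fusion, part A: `y` is conjugate to `z` (helper221)
-/

set_option autoImplicit false

namespace Cfsg.Agent.LargeExtra.W2.LFour.Fusion

open Cfsg.Agent.LargeExtra.W2 Cfsg.Agent.SmallExtra438.ModelA Cfsg.Agent.SmallExtra438.FrameA
open Cfsg.Agent.SmallExtra438.ClassA Cfsg.Agent.LargeExtra.W2.LFour.TwistK

/-! ### a Sylow argument -/

/-- A `p`-subgroup `T` of `H` containing its normaliser is a Sylow subgroup, so all `p`-subgroups of `H` are conjugate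
into `T`. -/
theorem exists_conj_mem {G : Type*} [Group G] [Finite G] {p : ℕ} [Fact p.Prime] {H T P : Subgroup G}
    (hTH : T ≤ H) (hPH : P ≤ H) (hT : IsPGroup p T) (hP : IsPGroup p P)
    (hN : ∀ n ∈ H, (∀ x ∈ T, n * x * n⁻¹ ∈ T) → n ∈ T) : ∃ h ∈ H, ∀ x ∈ P, h * x * h⁻¹ ∈ T := by
  classical
  have hT' : IsPGroup p (T.subgroupOf H) :=
    hT.of_injective ((Subgroup.subgroupOfEquivOfLe hTH).toMonoidHom) (Subgroup.subgroupOfEquivOfLe hTH).injective
  have hP' : IsPGroup p (P.subgroupOf H) :=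
    hP.of_injective ((Subgroup.subgroupOfEquivOfLe hPH).toMonoidHom) (Subgroup.subgroupOfEquivOfLe hPH).injective
  obtain ⟨S, hS⟩ := hT'.exists_le_sylow
  obtain ⟨R, hR⟩ := hP'.exists_le_sylow
  have hST : (S : Subgroup H) ≤ T.subgroupOf H := by
    by_contra hnot
    have hlt : (T.subgroupOf H).subgroupOf (S : Subgroup H) < ⊤ := by
      rw [lt_top_iff_ne_top]
      intro htop
      exact hnot (Subgroup.subgroupOf_eq_top.1 htop)
    have hnil : Group.IsNilpotent (S : Subgroup H) := S.2.isNilpotent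
    have h1 := Group.normalizerCondition_of_isNilpotent (G := (S : Subgroup H)) _ hlt
    obtain ⟨n, hn, hn2⟩ := SetLike.exists_of_lt h1
    apply hn2
    rw [Subgroup.mem_subgroupOf, Subgroup.mem_subgroupOf]
    apply hN _ (n : H).2
    intro x hx
    have hxS : (⟨x, hTH hx⟩ : H) ∈ (S : Subgroup H) := hS (Subgroup.mem_subgroupOf.2 hx)
    have h2 := (Subgroup.mem_normalizer_iff.1 hn ⟨⟨x, hTH hx⟩, hxS⟩).1
      (Subgroup.mem_subgroupOf.2 (Subgroup.mem_subgroupOf.2 hx))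
    exact h2
  obtain ⟨g, hg⟩ := MulAction.exists_smul_eq H R S
  refine ⟨g, g.2, fun x hx => ?_⟩
  have h1 : (⟨x, hPH hx⟩ : H) ∈ R := hR (Subgroup.mem_subgroupOf.2 hx)
  have h2 : g * ⟨x, hPH hx⟩ * g⁻¹ ∈ (S : Subgroup H) := by
    rw [← hg]
    exact Sylow.smul_def (g := g) (P := R) ▸ Subgroup.smul_mem_pointwise_smul _ (MulAut.conj g) _ h1
  exact Subgroup.mem_subgroupOf.1 (hST h2)

/-! ### class representatives -/

/-- the representative of the class of an involution -/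
def rp (m : ℕ) : ℕ := ((cls0.find? (fun x => x.1 == m)).map (fun x => x.2.2)).getD 0

theorem rp_ok : ∀ x ∈ cls0, rp x.1 = x.2.2 := by decide +kernel

section

variable {G : Type*} [Group G] [Finite G] {Q : Subgroup G} {z i j k l x₁ x₂ y s : G}
variable (h : Case9aa Q z i j k l x₁ x₂ y s)

omit [Finite G] in
theorem F_592 : F z i j k l x₁ x₂ y s 592 = z * s := by
  simp [F, Cfsg.Agent.SmallExtra438.Frame.L_16, kap]
omit [Finite G] in
theorem F_864 : F z i j k l x₁ x₂ y s 864 = y * s := by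
  simp [F, Cfsg.Agent.SmallExtra438.Frame.L_0, kap]
omit [Finite G] in
theorem F_880 : F z i j k l x₁ x₂ y s 880 = z * (y * s) := by
  simp [F, Cfsg.Agent.SmallExtra438.Frame.L_16, kap]

include h

theorem isConj_rp (ht : Tw 0 z y s) {m : ℕ} (hm : m < 1152) (hmm : mm 0 m m = 0) (h0 : m ≠ 0) :
    IsConj (F z i j k l x₁ x₂ y s m) (F z i j k l x₁ x₂ y s (rp m)) ∧
      rp m ∈ ([16, 5, 288, 576, 592, 864, 880] : List ℕ) := by
  rcases cls0_all m hm hmm with h1 | h3
  · exact absurd h1 h0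
  · obtain ⟨⟨m', c, r⟩, h4, h5⟩ := List.mem_map.1 h3
    change m' = m at h5
    subst h5
    obtain ⟨-, h7, h8, h9⟩ := cls0_ok _ h4
    have h10 := rp_ok _ h4
    change rp m' = r at h10
    rw [h10]
    have hr : r < 1152 := by
      have : ∀ r ∈ ([16, 5, 288, 576, 592, 864, 880] : List ℕ), r < 1152 := by decide
      exact this r h8
    exact ⟨isConj_of h ht h7 hm hr h9, h8⟩

variable (hw : ∀ g, g * z * g⁻¹ ∈ Q → g * z * g⁻¹ = z)
include hw

omit [Finite G] h in
theorem eq_of_conj {x : G} (hx : x ∈ Q) (hc : IsConj z x) : x = z := by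
  obtain ⟨g, rfl⟩ := isConj_iff.1 hc
  exact hw g hx

theorem not_conj_5 : ¬ IsConj z (F z i j k l x₁ x₂ y s 5) := by
  intro hc
  have h1 := eq_of_conj hw ((mem_Q_iff h (by norm_num)).2 (by norm_num)) hc
  have h2 := F_inj h (m := 5) (n := 16) (by norm_num) (by norm_num) (by rw [h1, F_16])
  omega

end

/-! ### `y` is not conjugate to `i k` unless it is conjugate to `z` -/

theorem dec_E2 : ∀ m < 1152, mm 0 m 288 = mm 0 288 m → mm 0 m m = 0 := by decide +kernel

/-- codes of `E = C_G(z) ∩ C_G(y)` -/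
def listE : List ℕ := [0, 15, 16, 31, 288, 303, 304, 319, 576, 591, 592, 607, 864, 879, 880, 895]

theorem dec_E : ∀ m < 1152, mm 0 m 288 = mm 0 288 m → m ∈ listE := by decide +kernel

theorem listE_comm : ∀ m ∈ listE, ∀ n ∈ listE, mm 0 m n = mm 0 n m := by decide +kernel

theorem listE_lt : ∀ m ∈ listE, m < 1152 := by decide +kernel

theorem dec_T8 : ∀ m < 1152, mm 0 m 5 = mm 0 5 m →
    (mm 0 (mm 0 (mm 0 m m) (mm 0 m m)) (mm 0 (mm 0 m m) (mm 0 m m))) = 0 := by decide +kernel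

theorem dec_ZT : ∀ m < 1152, (mm 0 m 5 = mm 0 5 m ∧ mm 0 m 1 = mm 0 1 m ∧ mm 0 m 544 = mm 0 544 m) →
    m ∈ ([0, 5, 16, 21] : List ℕ) := by decide +kernel

theorem dec_bad : ∀ m < 1152, (mm 0 m 5 = mm 0 5 m ∧ mm 0 m m = 0 ∧ 32 ≤ m ∧ rp m ≠ 288) →
    (mm 0 m 554 = mm 0 554 m ∧ mm 0 m 586 = mm 0 586 m) ∨ (mm 0 m 555 = mm 0 555 m ∧ mm 0 m 576 = mm 0 576 m) := by
  decide +kernel

section

variable {G : Type*} [Group G] [Finite G] {Q : Subgroup G} {z i j k l x₁ x₂ y s : G}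
variable (h : Case9aa Q z i j k l x₁ x₂ y s) (ht : Tw 0 z y s)
include h ht

/-- `E = C_G(z) ∩ C_G(y)` is elementary abelian -/
theorem E_sq {a : G} (haz : a * z = z * a) (hay : a * y = y * a) : a * a = 1 := by
  obtain ⟨m, hm, rfl⟩ := exists_code h haz
  rw [sq_iff h ht hm]
  apply dec_E2 m hm
  rw [← comm_iff h ht hm (by norm_num), F_288]
  exact hay

theorem exists_code_E {a : G} (haz : a * z = z * a) (hay : a * y = y * a) :
    ∃ m ∈ listE, F z i j k l x₁ x₂ y s m = a := by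
  obtain ⟨m, hm, rfl⟩ := exists_code h haz
  refine ⟨m, dec_E m hm ?_, rfl⟩
  rw [← comm_iff h ht hm (by norm_num), F_288]
  exact hay

theorem E_comm {a b : G} (haz : a * z = z * a) (hay : a * y = y * a) (hbz : b * z = z * b)
    (hby : b * y = y * b) : a * b = b * a := by
  obtain ⟨m, hm, rfl⟩ := exists_code_E h ht haz hay
  obtain ⟨n, hn, rfl⟩ := exists_code_E h ht hbz hby
  rw [comm_iff h ht (listE_lt m hm) (listE_lt n hn)]
  exact listE_comm m hm n hn

theorem not_conj_u (hw : ∀ g, g * z * g⁻¹ ∈ Q → g * z * g⁻¹ = z) (hnz : ¬ IsConj z y) :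
    ¬ IsConj y (i * k) := by
  classical
  intro hc
  obtain ⟨g, hg⟩ := isConj_iff.1 hc
  have : Fact (Nat.Prime 2) := ⟨Nat.prime_two⟩
  have hzz := h.large.z_sq
  have hyz : y * z = z * y := by
    have := F_comm h 288; rwa [F_288] at this
  set u := i * k with hu
  have hu5 : F z i j k l x₁ x₂ y s 5 = u := F_5
  have huz : u * z = z * u := by
    have := F_comm h 5; rwa [F_5] at this
  set H := Subgroup.centralizer ({u} : Set G) with hH
  set T := H ⊓ Subgroup.centralizer ({z} : Set G) with hT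
  set E := Subgroup.centralizer ({y} : Set G) ⊓ Subgroup.centralizer ({z} : Set G) with hE
  have hET : ∀ x, x ∈ E ↔ x * y = y * x ∧ x * z = z * x := fun x => by
    rw [hE, Subgroup.mem_inf, Subgroup.mem_centralizer_singleton_iff, Subgroup.mem_centralizer_singleton_iff]
  have hTT : ∀ x, x ∈ T ↔ x * u = u * x ∧ x * z = z * x := fun x => by
    rw [hT, hH, Subgroup.mem_inf, Subgroup.mem_centralizer_singleton_iff, Subgroup.mem_centralizer_singleton_iff]
  have hTcode : ∀ x ∈ T, ∃ m < 1152, mm 0 m 5 = mm 0 5 m ∧ F z i j k l x₁ x₂ y s m = x := by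
    intro x hx
    obtain ⟨h1, h2⟩ := (hTT x).1 hx
    obtain ⟨m, hm, rfl⟩ := exists_code h h2
    refine ⟨m, hm, ?_, rfl⟩
    rw [← comm_iff h ht hm (by norm_num), hu5]; exact h1
  have hcodeT : ∀ m < 1152, mm 0 m 5 = mm 0 5 m → F z i j k l x₁ x₂ y s m ∈ T := by
    intro m hm h1
    rw [hTT]
    refine ⟨?_, F_comm h m⟩
    rw [← hu5, comm_iff h ht hm (by norm_num)]; exact h1
  have hpT : IsPGroup 2 T := by
    rintro ⟨x, hx⟩
    obtain ⟨m, hm, h1, rfl⟩ := hTcode x hx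
    refine ⟨3, Subtype.ext ?_⟩
    change F z i j k l x₁ x₂ y s m ^ (2 ^ 3) = 1
    have h2 := dec_T8 m hm h1
    have a1 := mm_lt (t := 0) hm hm
    have a2 := mm_lt (t := 0) a1 a1
    have h3 : F z i j k l x₁ x₂ y s (mm 0 (mm 0 (mm 0 m m) (mm 0 m m)) (mm 0 (mm 0 m m) (mm 0 m m))) = 1 := by
      rw [h2, F_0]
    rw [F_mul h ht a2 a2, F_mul h ht a1 a1, F_mul h ht hm hm] at h3
    rw [← h3]
    simp only [pow_succ, pow_zero, one_mul, mul_assoc, show 2 ^ 3 = 8 from rfl]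
  have hpE : IsPGroup 2 (E.map (MulAut.conj g).toMonoidHom) := by
    apply IsPGroup.map
    rintro ⟨x, hx⟩
    refine ⟨1, Subtype.ext ?_⟩
    change x ^ (2 ^ 1) = 1
    rw [hET] at hx
    rw [pow_one, pow_two]
    exact E_sq h ht hx.2 hx.1
  have hTH : T ≤ H := inf_le_left
  have hPH : E.map (MulAut.conj g).toMonoidHom ≤ H := by
    rintro _ ⟨x, hx, rfl⟩
    rw [hH, Subgroup.mem_centralizer_singleton_iff]
    change g * x * g⁻¹ * u = u * (g * x * g⁻¹)
    have h1 := ((hET x).1 hx).1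
    rw [← hg]
    calc g * x * g⁻¹ * (g * y * g⁻¹) = g * (x * y) * g⁻¹ := by group
      _ = g * (y * x) * g⁻¹ := by rw [h1]
      _ = _ := by group
  have hzT : z ∈ T := (hTT z).2 ⟨huz.symm, rfl⟩
  have hN : ∀ n ∈ H, (∀ x ∈ T, n * x * n⁻¹ ∈ T) → n ∈ T := by
    intro n hn hnT
    have hnT' : ∀ x ∈ T, n⁻¹ * x * n ∈ T := by
      have h1 : T.map (MulAut.conj n).toMonoidHom ≤ T := by
        rintro _ ⟨x, hx, rfl⟩; exact hnT x hx
      have h2 : Nat.card (T.map (MulAut.conj n).toMonoidHom) = Nat.card T :=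
        Nat.card_congr (T.equivMapOfInjective _ (MulAut.conj n).injective).toEquiv.symm
      have h3 : T.map (MulAut.conj n).toMonoidHom = T := Subgroup.eq_of_le_of_card_ge h1 h2.ge
      intro x hx
      rw [← h3] at hx
      obtain ⟨x', hx', rfl⟩ := hx
      have : n⁻¹ * (MulAut.conj n).toMonoidHom x' * n = x' := by
        change n⁻¹ * (n * x' * n⁻¹) * n = x'
        group
      rw [this]; exact hx'
    obtain ⟨m, hm, h1, h2⟩ := hTcode _ (hnT z hzT)
    have hcz : ∀ c ∈ T, (n * z * n⁻¹) * c = c * (n * z * n⁻¹) := by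
      intro c hc
      have h3 := ((hTT _).1 (hnT' c hc)).2
      calc (n * z * n⁻¹) * c = n * (z * (n⁻¹ * c * n)) * n⁻¹ := by group
        _ = n * ((n⁻¹ * c * n) * z) * n⁻¹ := by rw [h3]
        _ = _ := by group
    have c1 := hcz _ (hcodeT 1 (by norm_num) (by decide +kernel))
    have c2 := hcz _ (hcodeT 544 (by norm_num) (by decide +kernel))
    rw [← h2, comm_iff h ht hm (by norm_num)] at c1 c2
    have h3 := dec_ZT m hm ⟨h1, c1, c2⟩
    have hmQ : F z i j k l x₁ x₂ y s m ∈ Q := by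
      rw [mem_Q_iff h hm]
      simp only [List.mem_cons, List.not_mem_nil, or_false] at h3
      omega
    rw [h2] at hmQ
    have h4 := hw n hmQ
    rw [hTT]
    refine ⟨?_, ?_⟩
    · rw [hH, Subgroup.mem_centralizer_singleton_iff] at hn; exact hn
    · calc n * z = (n * z * n⁻¹) * n := by group
        _ = z * n := by rw [h4]
  obtain ⟨a, haH, ha⟩ := exists_conj_mem hTH hPH hpT hpE hN
  -- `b = a g` maps `y` to `u` and `E` into `T`
  set b := a * g with hb
  have hbu : b * y * b⁻¹ = u := by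
    rw [hH, Subgroup.mem_centralizer_singleton_iff] at haH
    calc b * y * b⁻¹ = a * (g * y * g⁻¹) * a⁻¹ := by rw [hb]; group
      _ = a * u * a⁻¹ := by rw [hg]
      _ = u := by rw [haH]; group
  have hbT : ∀ x ∈ E, b * x * b⁻¹ ∈ T := by
    intro x hx
    have h1 := ha (g * x * g⁻¹) ⟨x, hx, rfl⟩
    have e : b * x * b⁻¹ = a * (g * x * g⁻¹) * a⁻¹ := by rw [hb]; group
    rw [e]; exact h1
  have hzE : z ∈ E := (hET z).2 ⟨hyz.symm, rfl⟩
  obtain ⟨m, hm, h1, h2⟩ := hTcode _ (hbT z hzE)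
  have hyQ : y ∉ Q := by
    have := mem_Q_iff h (m := 288) (by norm_num)
    rw [F_288] at this
    rw [this]; norm_num
  have huQ : u ∈ Q := by
    rw [← hu5, mem_Q_iff h (by norm_num)]; norm_num
  have hmQ : 32 ≤ m := by
    by_contra hlt
    have h3 := (mem_Q_iff h hm).2 (by omega : m < 32)
    rw [h2] at h3
    have h4 := hw b h3
    have h5 : b⁻¹ * z = z * b⁻¹ := by
      calc b⁻¹ * z = b⁻¹ * (b * z * b⁻¹) := by rw [h4]
        _ = z * b⁻¹ := by group
    apply hyQ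
    have h6 := h.large.conj_mem _ h5 _ huQ
    have e : b⁻¹ * u * b⁻¹⁻¹ = y := by rw [← hbu]; group
    rwa [e] at h6
  have hzb : (b * z * b⁻¹) * (b * z * b⁻¹) = 1 := by
    calc (b * z * b⁻¹) * (b * z * b⁻¹) = b * (z * z) * b⁻¹ := by group
      _ = 1 := by rw [hzz]; group
  have hmm : mm 0 m m = 0 := by
    rw [← sq_iff h ht hm, h2]; exact hzb
  have hrp : rp m ≠ 288 := by
    intro hr
    have h3 := (isConj_rp h ht hm hmm (by omega)).1
    rw [hr, F_288, h2] at h3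
    exact hnz ((isConj_iff.2 ⟨b, rfl⟩ : IsConj z (b * z * b⁻¹)).trans h3)
  -- two elements of `T` commuting with `z' = b z b⁻¹` commute
  have hcomm : ∀ p < 1152, ∀ q < 1152, mm 0 p 5 = mm 0 5 p → mm 0 q 5 = mm 0 5 q → mm 0 m p = mm 0 p m →
      mm 0 m q = mm 0 q m → mm 0 p q = mm 0 q p := by
    intro p hp q hq p5 q5 pm qm
    have key : ∀ r < 1152, mm 0 r 5 = mm 0 5 r → mm 0 m r = mm 0 r m →
        (b⁻¹ * F z i j k l x₁ x₂ y s r * b) * z = z * (b⁻¹ * F z i j k l x₁ x₂ y s r * b) ∧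
        (b⁻¹ * F z i j k l x₁ x₂ y s r * b) * y = y * (b⁻¹ * F z i j k l x₁ x₂ y s r * b) := by
      intro r hr r5 rm
      rw [← comm_iff h ht hm hr, h2] at rm
      rw [← comm_iff h ht hr (by norm_num), hu5, ← hbu] at r5
      generalize F z i j k l x₁ x₂ y s r = R at rm r5 ⊢
      constructor
      · calc (b⁻¹ * R * b) * z = b⁻¹ * (R * (b * z * b⁻¹)) * b := by group
          _ = b⁻¹ * ((b * z * b⁻¹) * R) * b := by rw [rm]
          _ = _ := by group
      · calc (b⁻¹ * R * b) * y = b⁻¹ * (R * (b * y * b⁻¹)) * b := by group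
          _ = b⁻¹ * ((b * y * b⁻¹) * R) * b := by rw [r5]
          _ = _ := by group
    obtain ⟨p1, p2⟩ := key p hp p5 pm
    obtain ⟨q1, q2⟩ := key q hq q5 qm
    have h3 := E_comm h ht p1 p2 q1 q2
    rw [← comm_iff h ht hp hq]
    generalize F z i j k l x₁ x₂ y s p = P at h3 ⊢
    generalize F z i j k l x₁ x₂ y s q = R at h3 ⊢
    calc P * R = b * ((b⁻¹ * P * b) * (b⁻¹ * R * b)) * b⁻¹ := by group
      _ = b * ((b⁻¹ * R * b) * (b⁻¹ * P * b)) * b⁻¹ := by rw [h3]
      _ = _ := by group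
  rcases dec_bad m hm ⟨h1, hmm, hmQ, hrp⟩ with ⟨h3, h4⟩ | ⟨h3, h4⟩
  · have := hcomm 554 (by norm_num) 586 (by norm_num) (by decide +kernel) (by decide +kernel) h3 h4
    revert this; decide +kernel
  · have := hcomm 555 (by norm_num) 576 (by norm_num) (by decide +kernel) (by decide +kernel) h3 h4
    revert this; decide +kernel

end

end Cfsg.Agent.LargeExtra.W2.LFour.Fusion
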