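import Cfsg.Agent.LargeExtra.W2.LFour.Bridge
import Cfsg.Agent.WeakTI.Four2
import Mathlib.GroupTheory.FixedPointFree

/-!
# S1759, `L₄(3)`: `C_G(d)` normalises `⟨v⟩`, `v = y i k` (helper156)
-/

set_option autoImplicit false
set_option linter.unusedSimpArgs false

namespace Cfsg.Agent.LargeExtra.W2.LFour.CentD

open Cfsg.Agent.LargeExtra.W2 Cfsg.Agent.LargeExtra.W2.LFour.TwoT DihedralGroup
open Cfsg.Agent.LargeExtra.W2.LFour.ElemN Cfsg.Agent.LargeExtra.W2.LFour.Bridge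
open Cfsg.Agent.LargeExtra.W2.LFour.PresDef
open Cfsg.Agent.SmallExtra438.ModelA Cfsg.Agent.SmallExtra438.FrameA
open Cfsg.Agent.SmallExtra438.ClassA

variable {G : Type*} [Group G] {Q : Subgroup G} {z i j k l x₁ x₂ y s θ w w' : G}

/-! ### The model -/

theorem tu_v : ∀ m < 1152, mm 0 m 15 = mm 0 15 m → mm 0 m 298 = mm 0 298 m ∨ mm 0 m 298 = mm 0 293 m := by
  decide +kernel

theorem tu_pow : ∀ m < 1152, mm 0 m 15 = mm 0 15 m →
    mm 0 (mm 0 (mm 0 m m) (mm 0 m m)) (mm 0 (mm 0 m m) (mm 0 m m)) = 0 := by decide +kernel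

theorem tu_center : ∀ m < 1152, (mm 0 m 15 = mm 0 15 m ∧ mm 0 m 3 = mm 0 3 m) ∧
    (mm 0 m 5 = mm 0 5 m ∧ mm 0 m 288 = mm 0 288 m ∧ mm 0 m 576 = mm 0 576 m) →
    m ∈ ([0, 15, 16, 31] : List ℕ) := by
  decide +kernel

section

variable (W : W7 z i j k l y s)
include W

theorem v_sq : y * (i * k) * (y * (i * k)) = i * j * k * l := by simp only [mul_assoc, W.ii, W.ii_, W.zi, W.zi_, W.jj, W.jj_, W.zj, W.zj_, W.kk, W.kk_, W.zk, W.zk_, W.ll, W.ll_, W.zl, W.zl_, W.zz, W.zz_, W.ji, W.ji_, W.ki, W.ki_, W.li, W.li_, W.kj, W.kj_, W.lj, W.lj_, W.lk, W.lk_, W.yi, W.yi_, W.yj, W.yj_, W.yk, W.yk_, W.yl, W.yl_, W.yz, W.yz_, W.yy, W.yy_, W.si, W.si_, W.sj, W.sj_, W.sk, W.sk_, W.sl, W.sl_, W.sz, W.sz_, W.sy, W.sy_, W.ss, W.ss_, mul_inv_rev, W.inv_i, W.inv_j, W.inv_k, W.inv_l, W.inv_z, W.inv_y, W.inv_s, mul_one, one_mul]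

theorem v_eq : y * (i * k) = s * y * (s * (i * k)) := by simp only [mul_assoc, W.ii, W.ii_, W.zi, W.zi_, W.jj, W.jj_, W.zj, W.zj_, W.kk, W.kk_, W.zk, W.zk_, W.ll, W.ll_, W.zl, W.zl_, W.zz, W.zz_, W.ji, W.ji_, W.ki, W.ki_, W.li, W.li_, W.kj, W.kj_, W.lj, W.lj_, W.lk, W.lk_, W.yi, W.yi_, W.yj, W.yj_, W.yk, W.yk_, W.yl, W.yl_, W.yz, W.yz_, W.yy, W.yy_, W.si, W.si_, W.sj, W.sj_, W.sk, W.sk_, W.sl, W.sl_, W.sz, W.sz_, W.sy, W.sy_, W.ss, W.ss_, mul_inv_rev, W.inv_i, W.inv_j, W.inv_k, W.inv_l, W.inv_z, W.inv_y, W.inv_s, mul_one, one_mul]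

theorem v_eq' : y * (i * k) = i * (s * (i * l * (i * j * k * l) * s * y)) * i⁻¹ := by
  simp only [mul_assoc, W.ii, W.ii_, W.zi, W.zi_, W.jj, W.jj_, W.zj, W.zj_, W.kk, W.kk_, W.zk, W.zk_, W.ll, W.ll_, W.zl, W.zl_, W.zz, W.zz_, W.ji, W.ji_, W.ki, W.ki_, W.li, W.li_, W.kj, W.kj_, W.lj, W.lj_, W.lk, W.lk_, W.yi, W.yi_, W.yj, W.yj_, W.yk, W.yk_, W.yl, W.yl_, W.yz, W.yz_, W.yy, W.yy_, W.si, W.si_, W.sj, W.sj_, W.sk, W.sk_, W.sl, W.sl_, W.sz, W.sz_, W.sy, W.sy_, W.ss, W.ss_, mul_inv_rev, W.inv_i, W.inv_j, W.inv_k, W.inv_l, W.inv_z, W.inv_y, W.inv_s, mul_one, one_mul]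

theorem s_v : s * (y * (i * k)) = y * (i * k) * s := by simp only [mul_assoc, W.ii, W.ii_, W.zi, W.zi_, W.jj, W.jj_, W.zj, W.zj_, W.kk, W.kk_, W.zk, W.zk_, W.ll, W.ll_, W.zl, W.zl_, W.zz, W.zz_, W.ji, W.ji_, W.ki, W.ki_, W.li, W.li_, W.kj, W.kj_, W.lj, W.lj_, W.lk, W.lk_, W.yi, W.yi_, W.yj, W.yj_, W.yk, W.yk_, W.yl, W.yl_, W.yz, W.yz_, W.yy, W.yy_, W.si, W.si_, W.sj, W.sj_, W.sk, W.sk_, W.sl, W.sl_, W.sz, W.sz_, W.sy, W.sy_, W.ss, W.ss_, mul_inv_rev, W.inv_i, W.inv_j, W.inv_k, W.inv_l, W.inv_z, W.inv_y, W.inv_s, mul_one, one_mul]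

theorem T_v : i * (s * y) * i⁻¹ * (y * (i * k)) = y * (i * k) * (i * (s * y) * i⁻¹) := by
  simp only [mul_assoc, W.ii, W.ii_, W.zi, W.zi_, W.jj, W.jj_, W.zj, W.zj_, W.kk, W.kk_, W.zk, W.zk_, W.ll, W.ll_, W.zl, W.zl_, W.zz, W.zz_, W.ji, W.ji_, W.ki, W.ki_, W.li, W.li_, W.kj, W.kj_, W.lj, W.lj_, W.lk, W.lk_, W.yi, W.yi_, W.yj, W.yj_, W.yk, W.yk_, W.yl, W.yl_, W.yz, W.yz_, W.yy, W.yy_, W.si, W.si_, W.sj, W.sj_, W.sk, W.sk_, W.sl, W.sl_, W.sz, W.sz_, W.sy, W.sy_, W.ss, W.ss_, mul_inv_rev, W.inv_i, W.inv_j, W.inv_k, W.inv_l, W.inv_z, W.inv_y, W.inv_s, mul_one, one_mul]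

theorem z_v : z * (y * (i * k)) = y * (i * k) * z := by simp only [mul_assoc, W.ii, W.ii_, W.zi, W.zi_, W.jj, W.jj_, W.zj, W.zj_, W.kk, W.kk_, W.zk, W.zk_, W.ll, W.ll_, W.zl, W.zl_, W.zz, W.zz_, W.ji, W.ji_, W.ki, W.ki_, W.li, W.li_, W.kj, W.kj_, W.lj, W.lj_, W.lk, W.lk_, W.yi, W.yi_, W.yj, W.yj_, W.yk, W.yk_, W.yl, W.yl_, W.yz, W.yz_, W.yy, W.yy_, W.si, W.si_, W.sj, W.sj_, W.sk, W.sk_, W.sl, W.sl_, W.sz, W.sz_, W.sy, W.sy_, W.ss, W.ss_, mul_inv_rev, W.inv_i, W.inv_j, W.inv_k, W.inv_l, W.inv_z, W.inv_y, W.inv_s, mul_one, one_mul]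

theorem z_d : z * (i * j * k * l) = i * j * k * l * z := by simp only [mul_assoc, W.ii, W.ii_, W.zi, W.zi_, W.jj, W.jj_, W.zj, W.zj_, W.kk, W.kk_, W.zk, W.zk_, W.ll, W.ll_, W.zl, W.zl_, W.zz, W.zz_, W.ji, W.ji_, W.ki, W.ki_, W.li, W.li_, W.kj, W.kj_, W.lj, W.lj_, W.lk, W.lk_, W.yi, W.yi_, W.yj, W.yj_, W.yk, W.yk_, W.yl, W.yl_, W.yz, W.yz_, W.yy, W.yy_, W.si, W.si_, W.sj, W.sj_, W.sk, W.sk_, W.sl, W.sl_, W.sz, W.sz_, W.sy, W.sy_, W.ss, W.ss_, mul_inv_rev, W.inv_i, W.inv_j, W.inv_k, W.inv_l, W.inv_z, W.inv_y, W.inv_s, mul_one, one_mul]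

theorem d_sq : i * j * k * l * (i * j * k * l) = 1 := by simp only [mul_assoc, W.ii, W.ii_, W.zi, W.zi_, W.jj, W.jj_, W.zj, W.zj_, W.kk, W.kk_, W.zk, W.zk_, W.ll, W.ll_, W.zl, W.zl_, W.zz, W.zz_, W.ji, W.ji_, W.ki, W.ki_, W.li, W.li_, W.kj, W.kj_, W.lj, W.lj_, W.lk, W.lk_, W.yi, W.yi_, W.yj, W.yj_, W.yk, W.yk_, W.yl, W.yl_, W.yz, W.yz_, W.yy, W.yy_, W.si, W.si_, W.sj, W.sj_, W.sk, W.sk_, W.sl, W.sl_, W.sz, W.sz_, W.sy, W.sy_, W.ss, W.ss_, mul_inv_rev, W.inv_i, W.inv_j, W.inv_k, W.inv_l, W.inv_z, W.inv_y, W.inv_s, mul_one, one_mul]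

theorem v_inv : (y * (i * k))⁻¹ = y * (i * k) * (i * j * k * l) := by simp only [mul_assoc, W.ii, W.ii_, W.zi, W.zi_, W.jj, W.jj_, W.zj, W.zj_, W.kk, W.kk_, W.zk, W.zk_, W.ll, W.ll_, W.zl, W.zl_, W.zz, W.zz_, W.ji, W.ji_, W.ki, W.ki_, W.li, W.li_, W.kj, W.kj_, W.lj, W.lj_, W.lk, W.lk_, W.yi, W.yi_, W.yj, W.yj_, W.yk, W.yk_, W.yl, W.yl_, W.yz, W.yz_, W.yy, W.yy_, W.si, W.si_, W.sj, W.sj_, W.sk, W.sk_, W.sl, W.sl_, W.sz, W.sz_, W.sy, W.sy_, W.ss, W.ss_, mul_inv_rev, W.inv_i, W.inv_j, W.inv_k, W.inv_l, W.inv_z, W.inv_y, W.inv_s, mul_one, one_mul]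

theorem sy_v : s * y * (y * (i * k)) * (s * y)⁻¹ = (y * (i * k))⁻¹ := by simp only [mul_assoc, W.ii, W.ii_, W.zi, W.zi_, W.jj, W.jj_, W.zj, W.zj_, W.kk, W.kk_, W.zk, W.zk_, W.ll, W.ll_, W.zl, W.zl_, W.zz, W.zz_, W.ji, W.ji_, W.ki, W.ki_, W.li, W.li_, W.kj, W.kj_, W.lj, W.lj_, W.lk, W.lk_, W.yi, W.yi_, W.yj, W.yj_, W.yk, W.yk_, W.yl, W.yl_, W.yz, W.yz_, W.yy, W.yy_, W.si, W.si_, W.sj, W.sj_, W.sk, W.sk_, W.sl, W.sl_, W.sz, W.sz_, W.sy, W.sy_, W.ss, W.ss_, mul_inv_rev, W.inv_i, W.inv_j, W.inv_k, W.inv_l, W.inv_z, W.inv_y, W.inv_s, mul_one, one_mul]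

theorem sy_d : s * y * (i * j * k * l) = i * j * k * l * (s * y) := by simp only [mul_assoc, W.ii, W.ii_, W.zi, W.zi_, W.jj, W.jj_, W.zj, W.zj_, W.kk, W.kk_, W.zk, W.zk_, W.ll, W.ll_, W.zl, W.zl_, W.zz, W.zz_, W.ji, W.ji_, W.ki, W.ki_, W.li, W.li_, W.kj, W.kj_, W.lj, W.lj_, W.lk, W.lk_, W.yi, W.yi_, W.yj, W.yj_, W.yk, W.yk_, W.yl, W.yl_, W.yz, W.yz_, W.yy, W.yy_, W.si, W.si_, W.sj, W.sj_, W.sk, W.sk_, W.sl, W.sl_, W.sz, W.sz_, W.sy, W.sy_, W.ss, W.ss_, mul_inv_rev, W.inv_i, W.inv_j, W.inv_k, W.inv_l, W.inv_z, W.inv_y, W.inv_s, mul_one, one_mul]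

theorem ij_d : i * j * (i * j * k * l) = i * j * k * l * (i * j) := by simp only [mul_assoc, W.ii, W.ii_, W.zi, W.zi_, W.jj, W.jj_, W.zj, W.zj_, W.kk, W.kk_, W.zk, W.zk_, W.ll, W.ll_, W.zl, W.zl_, W.zz, W.zz_, W.ji, W.ji_, W.ki, W.ki_, W.li, W.li_, W.kj, W.kj_, W.lj, W.lj_, W.lk, W.lk_, W.yi, W.yi_, W.yj, W.yj_, W.yk, W.yk_, W.yl, W.yl_, W.yz, W.yz_, W.yy, W.yy_, W.si, W.si_, W.sj, W.sj_, W.sk, W.sk_, W.sl, W.sl_, W.sz, W.sz_, W.sy, W.sy_, W.ss, W.ss_, mul_inv_rev, W.inv_i, W.inv_j, W.inv_k, W.inv_l, W.inv_z, W.inv_y, W.inv_s, mul_one, one_mul]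
theorem ik_d : i * k * (i * j * k * l) = i * j * k * l * (i * k) := by simp only [mul_assoc, W.ii, W.ii_, W.zi, W.zi_, W.jj, W.jj_, W.zj, W.zj_, W.kk, W.kk_, W.zk, W.zk_, W.ll, W.ll_, W.zl, W.zl_, W.zz, W.zz_, W.ji, W.ji_, W.ki, W.ki_, W.li, W.li_, W.kj, W.kj_, W.lj, W.lj_, W.lk, W.lk_, W.yi, W.yi_, W.yj, W.yj_, W.yk, W.yk_, W.yl, W.yl_, W.yz, W.yz_, W.yy, W.yy_, W.si, W.si_, W.sj, W.sj_, W.sk, W.sk_, W.sl, W.sl_, W.sz, W.sz_, W.sy, W.sy_, W.ss, W.ss_, mul_inv_rev, W.inv_i, W.inv_j, W.inv_k, W.inv_l, W.inv_z, W.inv_y, W.inv_s, mul_one, one_mul]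
theorem y_d : y * (i * j * k * l) = i * j * k * l * y := by simp only [mul_assoc, W.ii, W.ii_, W.zi, W.zi_, W.jj, W.jj_, W.zj, W.zj_, W.kk, W.kk_, W.zk, W.zk_, W.ll, W.ll_, W.zl, W.zl_, W.zz, W.zz_, W.ji, W.ji_, W.ki, W.ki_, W.li, W.li_, W.kj, W.kj_, W.lj, W.lj_, W.lk, W.lk_, W.yi, W.yi_, W.yj, W.yj_, W.yk, W.yk_, W.yl, W.yl_, W.yz, W.yz_, W.yy, W.yy_, W.si, W.si_, W.sj, W.sj_, W.sk, W.sk_, W.sl, W.sl_, W.sz, W.sz_, W.sy, W.sy_, W.ss, W.ss_, mul_inv_rev, W.inv_i, W.inv_j, W.inv_k, W.inv_l, W.inv_z, W.inv_y, W.inv_s, mul_one, one_mul]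
theorem s_d : s * (i * j * k * l) = i * j * k * l * s := by simp only [mul_assoc, W.ii, W.ii_, W.zi, W.zi_, W.jj, W.jj_, W.zj, W.zj_, W.kk, W.kk_, W.zk, W.zk_, W.ll, W.ll_, W.zl, W.zl_, W.zz, W.zz_, W.ji, W.ji_, W.ki, W.ki_, W.li, W.li_, W.kj, W.kj_, W.lj, W.lj_, W.lk, W.lk_, W.yi, W.yi_, W.yj, W.yj_, W.yk, W.yk_, W.yl, W.yl_, W.yz, W.yz_, W.yy, W.yy_, W.si, W.si_, W.sj, W.sj_, W.sk, W.sk_, W.sl, W.sl_, W.sz, W.sz_, W.sy, W.sy_, W.ss, W.ss_, mul_inv_rev, W.inv_i, W.inv_j, W.inv_k, W.inv_l, W.inv_z, W.inv_y, W.inv_s, mul_one, one_mul]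

end

section

variable (h : Elem2 Q z i j k l x₁ x₂ y s θ w w')
include h

theorem w7h : W7 z i j k l y s := w7' h.toFus

theorem w_v : w * (y * (i * k)) = y * (i * k) * w := by
  rw [v_eq (w7h h)]
  have c1 : Commute w (s * y) := h.w_sy
  have c2 : Commute w (s * (i * k)) := h.w_z1
  exact (c1.mul_right c2).eq

theorem b_v : i * w' * i⁻¹ * (y * (i * k)) = y * (i * k) * (i * w' * i⁻¹) := by
  have c1 : Commute w' s := h.w'_s
  have c2 : Commute w' (i * l * (i * j * k * l) * s * y) := h.w'_z2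
  have c3 := (c1.mul_right c2).eq
  rw [v_eq' (w7h h)]
  calc i * w' * i⁻¹ * (i * (s * (i * l * (i * j * k * l) * s * y)) * i⁻¹)
      = i * (w' * (s * (i * l * (i * j * k * l) * s * y))) * i⁻¹ := by group
    _ = i * ((s * (i * l * (i * j * k * l) * s * y)) * w') * i⁻¹ := by rw [c3]
    _ = _ := by group

/-- `M` centralises `v` -/
theorem M_v {a : G} (ha : a ∈ Subgroup.closure ({s, i * (s * y) * i⁻¹, w, i * w' * i⁻¹} : Set G)) :
    a * (y * (i * k)) = y * (i * k) * a := by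
  have h1 : Subgroup.closure ({s, i * (s * y) * i⁻¹, w, i * w' * i⁻¹} : Set G) ≤
      Subgroup.centralizer {y * (i * k)} := by
    rw [Subgroup.closure_le]
    intro g hg
    simp only [Set.mem_insert_iff, Set.mem_singleton_iff] at hg
    rw [SetLike.mem_coe, Subgroup.mem_centralizer_singleton_iff]
    rcases hg with rfl | rfl | rfl | rfl
    · exact s_v (w7h h)
    · exact T_v (w7h h)
    · exact w_v h
    · exact b_v h
  exact Subgroup.mem_centralizer_singleton_iff.1 (h1 ha)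

theorem comm_d_of_v {a : G} (ha : a * (y * (i * k)) = y * (i * k) * a) :
    a * (i * j * k * l) = i * j * k * l * a := by
  rw [← v_sq (w7h h)]
  have c : Commute a (y * (i * k)) := ha
  exact (c.mul_right c).eq

/-- conjugation by elements of `T_u = C_C(d)` -/
theorem tu_cases [Finite G] {c : G} (h1 : c * z = z * c) (h2 : c * (i * j * k * l) = i * j * k * l * c) :
    c * (y * (i * k)) * c⁻¹ = y * (i * k) ∨ c * (y * (i * k)) * c⁻¹ = (y * (i * k))⁻¹ := by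
  have hC := h.toCase9aa
  have ht := tw0 (z := z) h.y_sq h.s_sq h.s_y
  have hv : F z i j k l x₁ x₂ y s 298 = y * (i * k) := by
    rw [show 298 = mm 0 288 5 by decide +kernel, F_mul hC ht (by norm_num) (by norm_num), F_288, F_5]
  have hvi : F z i j k l x₁ x₂ y s 293 = (y * (i * k))⁻¹ := by
    rw [← hv]
    symm
    exact F_inv hC ht (by norm_num) (by norm_num) (by decide +kernel)
  obtain ⟨m, hm, rfl⟩ := exists_code hC h1
  rw [← F_15 (z := z) (i := i) (j := j) (k := k) (l := l) (x₁ := x₁) (x₂ := x₂) (y := y) (s := s),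
    comm_iff hC ht hm (by norm_num)] at h2
  rcases tu_v m hm h2 with h3 | h3
  · left
    rw [← hv]
    exact (conj_eq_iff hC ht hm (by norm_num) (by norm_num)).2 h3
  · right
    rw [← hvi, ← hv]
    exact (conj_eq_iff hC ht hm (by norm_num) (by norm_num)).2 h3

theorem tu_pow8 [Finite G] {c : G} (h1 : c * z = z * c) (h2 : c * (i * j * k * l) = i * j * k * l * c) :
    c ^ 8 = 1 := by
  have hC := h.toCase9aa
  have ht := tw0 (z := z) h.y_sq h.s_sq h.s_y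
  obtain ⟨m, hm, rfl⟩ := exists_code hC h1
  rw [← F_15 (z := z) (i := i) (j := j) (k := k) (l := l) (x₁ := x₁) (x₂ := x₂) (y := y) (s := s),
    comm_iff hC ht hm (by norm_num)] at h2
  have h3 := tu_pow m hm h2
  have m2 := mm_lt (t := 0) hm hm
  have m4 := mm_lt (t := 0) m2 m2
  have h4 := congrArg (F z i j k l x₁ x₂ y s) h3
  rw [F_mul hC ht m4 m4, F_mul hC ht m2 m2, F_mul hC ht hm hm, F_0] at h4
  rw [← h4]
  simp only [pow_succ, pow_zero, one_mul, mul_assoc]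

theorem tu_cent [Finite G] {c : G} (h1 : c * z = z * c) (h2 : c * (i * j * k * l) = i * j * k * l * c)
    (h3 : c * (i * j) = i * j * c) (h4 : c * (i * k) = i * k * c) (h5 : c * y = y * c)
    (h6 : c * s = s * c) : c = 1 ∨ c = i * j * k * l ∨ c = z ∨ c = i * j * k * l * z := by
  have hC := h.toCase9aa
  have ht := tw0 (z := z) h.y_sq h.s_sq h.s_y
  obtain ⟨m, hm, rfl⟩ := exists_code hC h1
  rw [← F_15 (z := z) (i := i) (j := j) (k := k) (l := l) (x₁ := x₁) (x₂ := x₂) (y := y) (s := s),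
    comm_iff hC ht hm (by norm_num)] at h2
  rw [← F_3 (z := z) (i := i) (j := j) (k := k) (l := l) (x₁ := x₁) (x₂ := x₂) (y := y) (s := s),
    comm_iff hC ht hm (by norm_num)] at h3
  rw [← F_5 (z := z) (i := i) (j := j) (k := k) (l := l) (x₁ := x₁) (x₂ := x₂) (y := y) (s := s),
    comm_iff hC ht hm (by norm_num)] at h4
  have e5 := (comm_iff hC ht hm (n := 288) (by norm_num)).1 (by rw [F_288]; exact h5)
  have e6 := (comm_iff hC ht hm (n := 576) (by norm_num)).1 (by rw [F_576]; exact h6)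
  have h7 := tu_center m hm ⟨⟨h2, h3⟩, h4, e5, e6⟩
  simp only [List.mem_cons, List.not_mem_nil, or_false] at h7
  rcases h7 with rfl | rfl | rfl | rfl
  · exact Or.inl F_0
  · exact Or.inr (Or.inl F_15)
  · exact Or.inr (Or.inr (Or.inl F_16))
  · right; right; right
    rw [show 31 = mm 0 15 16 by decide +kernel, F_mul hC ht (by norm_num) (by norm_num), F_15, F_16]

end

/-! ### The claim -/

/-- the hypotheses on `M = ⟨s, T, w, b⟩` -/
structure HM (i s y w w' : G) (v dz : G) : Prop where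
  hv : ∀ g, g * v = v * g → ∃ n : ℤ, ∃ a ∈ Subgroup.closure ({s, i * (s * y) * i⁻¹, w, i * w' * i⁻¹} : Set G),
    g = v ^ n * a
  hconj : ∀ a ∈ Subgroup.closure ({s, i * (s * y) * i⁻¹, w, i * w' * i⁻¹} : Set G), a * a = 1 → a ≠ 1 →
    ∃ g ∈ Subgroup.closure ({s, i * (s * y) * i⁻¹, w, i * w' * i⁻¹} : Set G), g * a * g⁻¹ = dz

section

variable (h : Elem2 Q z i j k l x₁ x₂ y s θ w w')
include h

theorem claim [Finite G] (hM : HM i s y w w' (y * (i * k)) (i * j * k * l * z)) {g : G}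
    (hg : g * (i * j * k * l) = i * j * k * l * g)
    (hc : g * (y * (i * k)) * g⁻¹ * z = z * (g * (y * (i * k)) * g⁻¹)) :
    g * (y * (i * k)) * g⁻¹ = y * (i * k) ∨ g * (y * (i * k)) * g⁻¹ = (y * (i * k))⁻¹ := by
  have W := w7h h
  have hvv := v_sq W
  have hdd := d_sq W
  have h1 : g⁻¹ * z * g * (y * (i * k)) = y * (i * k) * (g⁻¹ * z * g) := by
    calc g⁻¹ * z * g * (y * (i * k)) = g⁻¹ * (z * (g * (y * (i * k)) * g⁻¹)) * g := by group
      _ = g⁻¹ * (g * (y * (i * k)) * g⁻¹ * z) * g := by rw [hc]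
      _ = _ := by group
  obtain ⟨n, a, ha, he⟩ := hM.hv _ h1
  have hav := M_v h ha
  have cav : Commute a (y * (i * k)) := hav
  -- `v ^ (2 n) ∈ {1, d}`
  have hpow : ∀ n : ℤ, (y * (i * k)) ^ n * (y * (i * k)) ^ n = 1 ∨
      (y * (i * k)) ^ n * (y * (i * k)) ^ n = i * j * k * l := by
    intro n
    have e1 : (y * (i * k)) ^ n * (y * (i * k)) ^ n = (i * j * k * l) ^ n := by
      rw [← zpow_add, ← two_mul, zpow_mul, zpow_two, hvv]
    rw [e1]
    rcases Int.even_or_odd' n with ⟨m, rfl | rfl⟩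
    · left; rw [zpow_mul, zpow_two, hdd, one_zpow]
    · right; rw [zpow_add, zpow_mul, zpow_two, hdd, one_zpow, one_mul, zpow_one]
  -- `d ∉ M`
  have hdM : i * j * k * l ∉ Subgroup.closure ({s, i * (s * y) * i⁻¹, w, i * w' * i⁻¹} : Set G) := by
    intro hd
    obtain ⟨m, hm, em⟩ := hM.hconj _ hd hdd (by
      intro h0
      have h2 := i_d W
      rw [h0, mul_one, mul_inv_cancel, one_mul] at h2
      exact h.large.z_ne h2.symm)
    have h2 := comm_d_of_v h (M_v h hm)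
    rw [h2, mul_inv_cancel_right] at em
    apply h.large.z_ne
    have h3 : i * j * k * l * 1 = i * j * k * l * z := by rw [mul_one]; exact em
    exact (mul_left_cancel h3).symm
  have hsq : (y * (i * k)) ^ n * (y * (i * k)) ^ n * (a * a) = 1 := by
    have e1 : g⁻¹ * z * g * (g⁻¹ * z * g) = 1 := by
      calc g⁻¹ * z * g * (g⁻¹ * z * g) = g⁻¹ * (z * z) * g := by group
        _ = 1 := by rw [h.large.z_sq]; group
    rw [he] at e1
    have c2 : Commute a ((y * (i * k)) ^ n) := cav.zpow_right n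
    rw [← e1]
    calc (y * (i * k)) ^ n * (y * (i * k)) ^ n * (a * a)
        = (y * (i * k)) ^ n * ((y * (i * k)) ^ n * a) * a := by simp only [mul_assoc]
      _ = (y * (i * k)) ^ n * (a * (y * (i * k)) ^ n) * a := by rw [c2.eq]
      _ = _ := by simp only [mul_assoc]
  have haa : a * a = 1 ∧ (y * (i * k)) ^ n * (y * (i * k)) ^ n = 1 := by
    rcases hpow n with h2 | h2
    · rw [h2, one_mul] at hsq
      exact ⟨hsq, h2⟩
    · exfalso
      rw [h2] at hsq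
      apply hdM
      have e1 : a * a = i * j * k * l := by
        rw [← mul_one (i * j * k * l), ← hsq, ← mul_assoc, hdd, one_mul]
      rw [← e1]
      exact mul_mem ha ha
  have hn : (y * (i * k)) ^ n = 1 ∨ (y * (i * k)) ^ n = i * j * k * l := by
    rcases Int.even_or_odd' n with ⟨m, hm | hm⟩
    · rw [hm, zpow_mul, zpow_two, hvv]
      rcases Int.even_or_odd' m with ⟨m', rfl | rfl⟩
      · left; rw [zpow_mul, zpow_two, hdd, one_zpow]
      · right; rw [zpow_add, zpow_mul, zpow_two, hdd, one_zpow, one_mul, zpow_one]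
    · exfalso
      have e1 := haa.2
      rw [← zpow_add, ← two_mul, zpow_mul, zpow_two, hvv, hm, zpow_add, zpow_mul, zpow_two, hdd,
        one_zpow, one_mul, zpow_one] at e1
      have h2 := i_d W
      rw [e1, mul_one, mul_inv_cancel, one_mul] at h2
      exact h.large.z_ne h2.symm
  have hzc : ∀ b : G, IsConj (g⁻¹ * z * g) b → IsConj z b := by
    intro b hb
    refine IsConj.trans (isConj_iff.2 ⟨g⁻¹, ?_⟩) hb
    group
  have ha1 : a ≠ 1 := by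
    rintro rfl
    rw [mul_one] at he
    rcases hn with h2 | h2
    · rw [h2] at he
      have := hzc 1 (by rw [he])
      rw [isConj_one_left] at this
      exact h.large.z_ne this
    · rw [h2] at he
      exact h.nc (hzc _ (by rw [he]))
  obtain ⟨m, hm, em⟩ := hM.hconj a ha haa.1 ha1
  have hmv := M_v h hm
  have cmv : Commute m (y * (i * k)) := hmv
  have e2 : m * (g⁻¹ * z * g) * m⁻¹ = (y * (i * k)) ^ n * (i * j * k * l * z) := by
    rw [he, ← em]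
    have c2 := (cmv.zpow_right n).eq
    calc m * ((y * (i * k)) ^ n * a) * m⁻¹ = m * (y * (i * k)) ^ n * a * m⁻¹ := by
          simp only [mul_assoc]
      _ = (y * (i * k)) ^ n * m * a * m⁻¹ := by rw [c2]
      _ = _ := by simp only [mul_assoc]
  have e3 : m * (g⁻¹ * z * g) * m⁻¹ = z := by
    rcases hn with h2 | h2
    · exfalso
      rw [h2, one_mul] at e2
      have h3 : IsConj z (i * j * k * l * z) := hzc _ (isConj_iff.2 ⟨m, e2⟩)
      exact h.nc (h3.trans (d_dz h.toFus).symm)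
    · rw [e2, h2, ← mul_assoc, hdd, one_mul]
  have c1 : (g * m⁻¹) * z = z * (g * m⁻¹) := by
    have e5 : (g * m⁻¹)⁻¹ * z * (g * m⁻¹) = z := by
      calc (g * m⁻¹)⁻¹ * z * (g * m⁻¹) = m * (g⁻¹ * z * g) * m⁻¹ := by group
        _ = z := e3
    calc (g * m⁻¹) * z = (g * m⁻¹) * ((g * m⁻¹)⁻¹ * z * (g * m⁻¹)) := by rw [e5]
      _ = _ := by group
  have c2 : (g * m⁻¹) * (i * j * k * l) = i * j * k * l * (g * m⁻¹) := by
    have a1 : Commute g (i * j * k * l) := hg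
    have a2 : Commute m (i * j * k * l) := comm_d_of_v h hmv
    exact (a1.mul_left a2.inv_left).eq
  have e4 : g * m⁻¹ * (y * (i * k)) * (g * m⁻¹)⁻¹ = g * (y * (i * k)) * g⁻¹ := by
    calc g * m⁻¹ * (y * (i * k)) * (g * m⁻¹)⁻¹ = g * m⁻¹ * (y * (i * k) * m) * g⁻¹ := by group
      _ = g * m⁻¹ * (m * (y * (i * k))) * g⁻¹ := by rw [hmv]
      _ = _ := by group
  rw [← e4]
  exact tu_cases h c1 c2

end

/-! ### `T_u` is a Sylow 2-subgroup of `C_G(d)` -/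

/-- `T_u = C_G({z, d})` as a subgroup of `H = C_G(d)` -/
def Tu (d z : G) : Subgroup ↥(Subgroup.centralizer ({d} : Set G)) :=
  (Subgroup.centralizer ({z} : Set G)).subgroupOf _

theorem mem_Tu {d z : G} {c : ↥(Subgroup.centralizer ({d} : Set G))} :
    c ∈ Tu d z ↔ (c : G) * z = z * c := by
  unfold Tu
  rw [Subgroup.mem_subgroupOf, Subgroup.mem_centralizer_singleton_iff]

section

variable (h : Elem2 Q z i j k l x₁ x₂ y s θ w w')
include h

theorem tu_pgroup [Finite G] : IsPGroup 2 (Tu (i * j * k * l) z) := by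
  rintro ⟨c, hc⟩
  refine ⟨3, ?_⟩
  apply Subtype.ext
  apply Subtype.ext
  exact tu_pow8 h (mem_Tu.1 hc) (Subgroup.mem_centralizer_singleton_iff.1 c.2)

theorem tu_normalizer [Finite G] :
    Subgroup.normalizer (Tu (i * j * k * l) z : Set ↥(Subgroup.centralizer ({i * j * k * l} : Set G))) ≤
      Tu (i * j * k * l) z := by
  have W := w7h h
  intro n hn
  rw [mem_Tu]
  have key : ∀ t : G, ∀ (ht1 : t * z = z * t) (ht2 : t * (i * j * k * l) = i * j * k * l * t),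
      (n : G) * z * (n : G)⁻¹ * t = t * ((n : G) * z * (n : G)⁻¹) := by
    intro t ht1 ht2
    have h1 : (⟨t, Subgroup.mem_centralizer_singleton_iff.2 ht2⟩ :
        ↥(Subgroup.centralizer ({i * j * k * l} : Set G))) ∈ Tu (i * j * k * l) z := mem_Tu.2 ht1
    have h2 := (Subgroup.mem_normalizer_iff''.1 hn _).1 h1
    have h3 : (n : G)⁻¹ * t * n * z = z * ((n : G)⁻¹ * t * n) := mem_Tu.1 h2
    calc (n : G) * z * (n : G)⁻¹ * t = n * (z * ((n : G)⁻¹ * t * n)) * (n : G)⁻¹ := by group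
      _ = n * ((n : G)⁻¹ * t * n * z) * (n : G)⁻¹ := by rw [h3]
      _ = _ := by group
  have hnd : (n : G) * (i * j * k * l) = i * j * k * l * n :=
    Subgroup.mem_centralizer_singleton_iff.1 n.2
  have hzd := z_d W
  have k1 := key z rfl hzd
  have k2 := key (i * j * k * l) hzd.symm rfl
  have kij := key (i * j) (by simp only [mul_assoc, W.ii, W.ii_, W.zi, W.zi_, W.jj, W.jj_, W.zj, W.zj_, W.kk, W.kk_, W.zk, W.zk_, W.ll, W.ll_, W.zl, W.zl_, W.zz, W.zz_, W.ji, W.ji_, W.ki, W.ki_, W.li, W.li_, W.kj, W.kj_, W.lj, W.lj_, W.lk, W.lk_, W.yi, W.yi_, W.yj, W.yj_, W.yk, W.yk_, W.yl, W.yl_, W.yz, W.yz_, W.yy, W.yy_, W.si, W.si_, W.sj, W.sj_, W.sk, W.sk_, W.sl, W.sl_, W.sz, W.sz_, W.sy, W.sy_, W.ss, W.ss_, mul_inv_rev, W.inv_i, W.inv_j, W.inv_k, W.inv_l, W.inv_z, W.inv_y, W.inv_s, mul_one, one_mul]) (ij_d W)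
  have kik := key (i * k) (by simp only [mul_assoc, W.ii, W.ii_, W.zi, W.zi_, W.jj, W.jj_, W.zj, W.zj_, W.kk, W.kk_, W.zk, W.zk_, W.ll, W.ll_, W.zl, W.zl_, W.zz, W.zz_, W.ji, W.ji_, W.ki, W.ki_, W.li, W.li_, W.kj, W.kj_, W.lj, W.lj_, W.lk, W.lk_, W.yi, W.yi_, W.yj, W.yj_, W.yk, W.yk_, W.yl, W.yl_, W.yz, W.yz_, W.yy, W.yy_, W.si, W.si_, W.sj, W.sj_, W.sk, W.sk_, W.sl, W.sl_, W.sz, W.sz_, W.sy, W.sy_, W.ss, W.ss_, mul_inv_rev, W.inv_i, W.inv_j, W.inv_k, W.inv_l, W.inv_z, W.inv_y, W.inv_s, mul_one, one_mul]) (ik_d W)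
  have ky := key y (by simp only [mul_assoc, W.ii, W.ii_, W.zi, W.zi_, W.jj, W.jj_, W.zj, W.zj_, W.kk, W.kk_, W.zk, W.zk_, W.ll, W.ll_, W.zl, W.zl_, W.zz, W.zz_, W.ji, W.ji_, W.ki, W.ki_, W.li, W.li_, W.kj, W.kj_, W.lj, W.lj_, W.lk, W.lk_, W.yi, W.yi_, W.yj, W.yj_, W.yk, W.yk_, W.yl, W.yl_, W.yz, W.yz_, W.yy, W.yy_, W.si, W.si_, W.sj, W.sj_, W.sk, W.sk_, W.sl, W.sl_, W.sz, W.sz_, W.sy, W.sy_, W.ss, W.ss_, mul_inv_rev, W.inv_i, W.inv_j, W.inv_k, W.inv_l, W.inv_z, W.inv_y, W.inv_s, mul_one, one_mul]) (y_d W)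
  have ks := key s (by simp only [mul_assoc, W.ii, W.ii_, W.zi, W.zi_, W.jj, W.jj_, W.zj, W.zj_, W.kk, W.kk_, W.zk, W.zk_, W.ll, W.ll_, W.zl, W.zl_, W.zz, W.zz_, W.ji, W.ji_, W.ki, W.ki_, W.li, W.li_, W.kj, W.kj_, W.lj, W.lj_, W.lk, W.lk_, W.yi, W.yi_, W.yj, W.yj_, W.yk, W.yk_, W.yl, W.yl_, W.yz, W.yz_, W.yy, W.yy_, W.si, W.si_, W.sj, W.sj_, W.sk, W.sk_, W.sl, W.sl_, W.sz, W.sz_, W.sy, W.sy_, W.ss, W.ss_, mul_inv_rev, W.inv_i, W.inv_j, W.inv_k, W.inv_l, W.inv_z, W.inv_y, W.inv_s, mul_one, one_mul]) (s_d W)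
  have hc : IsConj z ((n : G) * z * (n : G)⁻¹) := isConj_iff.2 ⟨n, rfl⟩
  rcases tu_cent h k1 k2 kij kik ky ks with h1 | h1 | h1 | h1
  · exfalso
    rw [h1, isConj_one_left] at hc
    exact h.large.z_ne hc
  · exfalso
    rw [h1] at hc
    exact h.nc hc
  · rw [mul_inv_eq_iff_eq_mul] at h1
    exact h1
  · exfalso
    rw [h1] at hc
    exact h.nc (hc.trans (d_dz h.toFus).symm)

/-- every 2-subgroup of `C_G(d)` is conjugate into `T_u` -/
theorem exists_conj_tu [Finite G] {R : Subgroup ↥(Subgroup.centralizer ({i * j * k * l} : Set G))}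
    (hR : IsPGroup 2 R) : ∃ n : ↥(Subgroup.centralizer ({i * j * k * l} : Set G)),
      ∀ x ∈ R, n * x * n⁻¹ ∈ Tu (i * j * k * l) z := by
  have : Fact (Nat.Prime 2) := ⟨Nat.prime_two⟩
  have hp := tu_pgroup h
  obtain ⟨e, he⟩ := IsPGroup.iff_card.1 hp
  have h1 := Sylow.card_quotient_normalizer_modEq_card_quotient (p := 2) he
  have h2 : Subgroup.comap (Subgroup.normalizer (Tu (i * j * k * l) z :
      Set ↥(Subgroup.centralizer ({i * j * k * l} : Set G)))).subtype (Tu (i * j * k * l) z) = ⊤ := by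
    rw [eq_top_iff]
    intro g _
    exact tu_normalizer h g.2
  rw [h2] at h1
  have h3 : Nat.card (↥(Subgroup.normalizer (Tu (i * j * k * l) z :
      Set ↥(Subgroup.centralizer ({i * j * k * l} : Set G)))) ⧸
      (⊤ : Subgroup ↥(Subgroup.normalizer (Tu (i * j * k * l) z :
      Set ↥(Subgroup.centralizer ({i * j * k * l} : Set G)))))) = 1 := by
    have := (⊤ : Subgroup ↥(Subgroup.normalizer (Tu (i * j * k * l) z :
      Set ↥(Subgroup.centralizer ({i * j * k * l} : Set G))))).index_eq_card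
    rw [Subgroup.index_top] at this
    exact this.symm
  rw [h3, ← Subgroup.index_eq_card] at h1
  have hnd : ¬ 2 ∣ (Tu (i * j * k * l) z).index := by
    intro h4
    have h5 : (Tu (i * j * k * l) z).index % 2 = 1 := h1.symm
    omega
  let P : Sylow 2 ↥(Subgroup.centralizer ({i * j * k * l} : Set G)) := hp.toSylow hnd
  obtain ⟨S, hS⟩ := hR.exists_le_sylow
  obtain ⟨n, hn⟩ := MulAction.exists_smul_eq ↥(Subgroup.centralizer ({i * j * k * l} : Set G)) S P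
  refine ⟨n, fun x hx => ?_⟩
  have h5 : n * x * n⁻¹ ∈ ((n • S : Sylow 2 _) : Subgroup _) := by
    rw [Sylow.smul_def, Sylow.pointwise_smul_def]
    exact Subgroup.smul_mem_pointwise_smul x (MulAut.conj n) _ (hS hx)
  rw [hn] at h5
  exact h5

/-- commuting conjugates of `v` modulo `⟨d⟩` -/
theorem iso_v [Finite G] (hM : HM i s y w w' (y * (i * k)) (i * j * k * l * z)) {g : G}
    (hg : g * (i * j * k * l) = i * j * k * l * g)
    (hc : y * (i * k) * (g * (y * (i * k)) * g⁻¹) * (y * (i * k))⁻¹ * (g * (y * (i * k)) * g⁻¹)⁻¹ = 1 ∨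
      y * (i * k) * (g * (y * (i * k)) * g⁻¹) * (y * (i * k))⁻¹ * (g * (y * (i * k)) * g⁻¹)⁻¹ =
        i * j * k * l) :
    (y * (i * k))⁻¹ * (g * (y * (i * k)) * g⁻¹) = 1 ∨
      (y * (i * k))⁻¹ * (g * (y * (i * k)) * g⁻¹) = i * j * k * l := by
  have W := w7h h
  have hvv := v_sq W
  have hvi := v_inv W
  set v := y * (i * k) with hv
  set d := i * j * k * l with hd
  have hvd : v * d = d * v := by rw [← hvv]; simp only [mul_assoc]
  have hud : g * v * g⁻¹ * d = d * (g * v * g⁻¹) := by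
    have c1 : Commute g d := hg
    have c2 : Commute v d := hvd
    exact ((c1.mul_left c2).mul_left c1.inv_left).eq
  set u := g * v * g⁻¹ with hu
  have huu : u * u = d := by
    calc u * u = g * (v * v) * g⁻¹ := by rw [hu]; group
      _ = d := by rw [hvv, hg, mul_inv_cancel_right]
  -- `u` normalises `⟨v⟩`
  have huv : u * v * u⁻¹ ∈ Subgroup.zpowers v := by
    have hdv : d ∈ Subgroup.zpowers v := by
      rw [← hvv]; exact mul_mem (Subgroup.mem_zpowers v) (Subgroup.mem_zpowers v)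
    have e1 : u * v * u⁻¹ = (v * u * v⁻¹ * u⁻¹)⁻¹ * v := by group
    rw [e1]
    apply mul_mem _ (Subgroup.mem_zpowers v)
    apply inv_mem
    rcases hc with h1 | h1
    · rw [h1]; exact one_mem _
    · rw [h1]; exact hdv
  -- the 2-group `⟨u⟩⟨v⟩`
  let H := Subgroup.centralizer ({d} : Set G)
  let v' : H := ⟨v, Subgroup.mem_centralizer_singleton_iff.2 hvd⟩
  let u' : H := ⟨u, Subgroup.mem_centralizer_singleton_iff.2 hud⟩
  have hdd : d * d = 1 := d_sq W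
  have pz : ∀ a : H, (a : G) * a = d → IsPGroup 2 (Subgroup.zpowers a) := by
    rintro a ha ⟨x, hx⟩
    obtain ⟨n, rfl⟩ := Subgroup.mem_zpowers_iff.1 hx
    refine ⟨2, Subtype.ext ?_⟩
    have ha4 : a ^ 4 = 1 := by
      apply Subtype.ext
      show (a : G) ^ 4 = 1
      calc (a : G) ^ 4 = (a : G) * a * ((a : G) * a) := by
            simp only [pow_succ, pow_zero, one_mul, mul_assoc]
        _ = 1 := by rw [ha, hdd]
    show (a ^ n) ^ (2 ^ 2) = 1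
    rw [← zpow_natCast, ← zpow_mul, mul_comm, zpow_mul, zpow_natCast]
    norm_num
    rw [ha4, one_zpow]
  have hle : Subgroup.zpowers u' ≤ Subgroup.normalizer (Subgroup.zpowers v' : Set H) := by
    rw [Subgroup.zpowers_le]
    apply Subgroup.mem_normalizer_fintype
    intro x hx
    obtain ⟨n, rfl⟩ := Subgroup.mem_zpowers_iff.1 (SetLike.mem_coe.1 hx)
    obtain ⟨e, he⟩ := Subgroup.mem_zpowers_iff.1 huv
    have h1 : u' * v' * u'⁻¹ = v' ^ e := by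
      apply Subtype.ext
      push_cast
      exact he.symm
    have h2 : u' * v' ^ n * u'⁻¹ = (v' ^ e) ^ n := by
      rw [← h1]
      exact (conj_zpow (a := u') (b := v') (i := n)).symm
    rw [h2]
    exact Subgroup.zpow_mem _ (Subgroup.zpow_mem _ (Subgroup.mem_zpowers v') e) n
  have hR : IsPGroup 2 (Subgroup.zpowers u' ⊔ Subgroup.zpowers v' : Subgroup H) :=
    IsPGroup.to_sup_of_normal_right' (pz u' huu) (pz v' hvv) hle
  obtain ⟨n, hn⟩ := exists_conj_tu h hR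
  have n1 := mem_Tu.1 (hn v' (Subgroup.mem_sup_right (Subgroup.mem_zpowers v')))
  have n2 := mem_Tu.1 (hn u' (Subgroup.mem_sup_left (Subgroup.mem_zpowers u')))
  have hnd : (n : G) * d = d * n := Subgroup.mem_centralizer_singleton_iff.1 n.2
  have c1 := claim h hM (g := n) hnd n1
  have c2 := claim h hM (g := n * g) (by
    have a1 : Commute (n : G) d := hnd
    have a2 : Commute g d := hg
    exact (a1.mul_left a2).eq) (by
    have e1 : (n : G) * g * v * ((n : G) * g)⁻¹ = n * u * (n : G)⁻¹ := by rw [hu]; group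
    rw [← hv, e1]; exact n2)
  have e1 : (n : G) * g * v * ((n : G) * g)⁻¹ = n * u * (n : G)⁻¹ := by rw [hu]; group
  rw [← hv, e1] at c2
  rw [← hv] at c1
  have hvid : v⁻¹ * v⁻¹ = d := by
    rw [← mul_inv_rev, hvv]
    exact inv_eq_of_mul_eq_one_left hdd
  have e2 : (n : G) * (v⁻¹ * u) * (n : G)⁻¹ = 1 ∨ (n : G) * (v⁻¹ * u) * (n : G)⁻¹ = d := by
    have e3 : (n : G) * (v⁻¹ * u) * (n : G)⁻¹ = (n * v * (n : G)⁻¹)⁻¹ * (n * u * (n : G)⁻¹) := by
      group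
    rw [e3]
    rcases c1 with c1 | c1 <;> rcases c2 with c2 | c2 <;> rw [c1, c2]
    · left; rw [inv_mul_cancel]
    · right; exact hvid
    · right; rw [inv_inv, hvv]
    · left; rw [inv_mul_cancel]
  have e4 : v⁻¹ * u = (n : G)⁻¹ * (n * (v⁻¹ * u) * (n : G)⁻¹) * n := by group
  rcases e2 with e2 | e2
  · left; rw [e4, e2]; group
  · right; rw [e4, e2, mul_assoc, ← hnd, ← mul_assoc, inv_mul_cancel, one_mul]

/-- `z` inverts every normal subgroup of odd order of `C_G(d)` -/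
theorem z_inverts [Finite G] {O : Subgroup ↥(Subgroup.centralizer ({i * j * k * l} : Set G))}
    [hO : O.Normal] (hodd : (Nat.card O).Coprime 2) {o : ↥(Subgroup.centralizer ({i * j * k * l} : Set G))}
    (ho : o ∈ O) : z * (o : G) * z⁻¹ = (o : G)⁻¹ := by
  have W := w7h h
  let z' : ↥(Subgroup.centralizer ({i * j * k * l} : Set G)) :=
    ⟨z, Subgroup.mem_centralizer_singleton_iff.2 (z_d W)⟩
  have hzz : z' * z' = 1 := Subtype.ext h.large.z_sq
  let φ : MulAut O := MulAut.conjNormal z'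
  have hφ : ∀ x : O, ((φ x : O) : ↥(Subgroup.centralizer ({i * j * k * l} : Set G))) = z' * x * z'⁻¹ :=
    fun x => MulAut.conjNormal_apply z' x
  have hfix : MonoidHom.FixedPointFree (φ : O → O) := by
    intro x hx
    have h1 : z' * (x : ↥(Subgroup.centralizer ({i * j * k * l} : Set G))) * z'⁻¹ = x := by
      rw [← hφ, hx]
    have h2 : ((x : ↥(Subgroup.centralizer ({i * j * k * l} : Set G))) : G) * z =
        z * ((x : ↥(Subgroup.centralizer ({i * j * k * l} : Set G))) : G) := by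
      have h3 := congrArg Subtype.val h1
      change z * ((x : ↥(Subgroup.centralizer ({i * j * k * l} : Set G))) : G) * z⁻¹ =
        ((x : ↥(Subgroup.centralizer ({i * j * k * l} : Set G))) : G) at h3
      rw [mul_inv_eq_iff_eq_mul] at h3
      exact h3.symm
    have h4 := tu_pow8 h h2 (Subgroup.mem_centralizer_singleton_iff.1
      (x : ↥(Subgroup.centralizer ({i * j * k * l} : Set G))).2)
    have h5 : x ^ 8 = 1 := Subtype.ext (Subtype.ext h4)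
    have h6 : orderOf x ∣ 8 := orderOf_dvd_of_pow_eq_one h5
    have h7 : orderOf x ∣ Nat.card O := orderOf_dvd_natCard x
    have h8 : (Nat.card O).Coprime 8 := by
      rw [show (8 : ℕ) = 2 ^ 3 by norm_num]
      exact Nat.Coprime.pow_right 3 hodd
    have h9 : orderOf x ∣ 1 := by
      have := Nat.dvd_gcd h7 h6
      rwa [h8] at this
    exact orderOf_eq_one_iff.1 (Nat.dvd_one.1 h9)
  have hinv : Function.Involutive (φ : O → O) := by
    intro x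
    apply Subtype.ext
    rw [hφ, hφ]
    calc z' * (z' * (x : ↥(Subgroup.centralizer ({i * j * k * l} : Set G))) * z'⁻¹) * z'⁻¹
        = (z' * z') * x * (z' * z')⁻¹ := by group
      _ = x := by rw [hzz]; group
  have h1 := congrFun (MonoidHom.FixedPointFree.coe_eq_inv_of_involutive hfix hinv) ⟨o, ho⟩
  have h2 := congrArg Subtype.val h1
  rw [hφ] at h2
  exact congrArg Subtype.val h2

/-- `C_G(d)` has no normal subgroup of odd order -/
theorem odd_trivial [Finite G] {O : Subgroup ↥(Subgroup.centralizer ({i * j * k * l} : Set G))}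
    [hO : O.Normal] (hodd : (Nat.card O).Coprime 2) {o : ↥(Subgroup.centralizer ({i * j * k * l} : Set G))}
    (ho : o ∈ O) : o = 1 := by
  have W := w7h h
  have hwd : w * (i * j * k * l) = i * j * k * l * w := h.w_d
  let w₀ : ↥(Subgroup.centralizer ({i * j * k * l} : Set G)) :=
    ⟨w, Subgroup.mem_centralizer_singleton_iff.2 hwd⟩
  -- `w z w⁻¹ = s z`
  have e1 : w * z * w⁻¹ = s * z := by
    have h1 : z = i * j * k * l * (i * j * k * l * z) := by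
      rw [← mul_assoc, d_sq W, one_mul]
    have h2 : w * z * w⁻¹ = w * (i * j * k * l) * w⁻¹ * (w * (i * j * k * l * z) * w⁻¹) := by
      nth_rewrite 1 [h1]; group
    rw [h2, hwd, mul_inv_cancel_right, h.w_dz]
    simp only [mul_assoc, W.ii, W.ii_, W.zi, W.zi_, W.jj, W.jj_, W.zj, W.zj_, W.kk, W.kk_, W.zk, W.zk_, W.ll, W.ll_, W.zl, W.zl_, W.zz, W.zz_, W.ji, W.ji_, W.ki, W.ki_, W.li, W.li_, W.kj, W.kj_, W.lj, W.lj_, W.lk, W.lk_, W.yi, W.yi_, W.yj, W.yj_, W.yk, W.yk_, W.yl, W.yl_, W.yz, W.yz_, W.yy, W.yy_, W.si, W.si_, W.sj, W.sj_, W.sk, W.sk_, W.sl, W.sl_, W.sz, W.sz_, W.sy, W.sy_, W.ss, W.ss_, mul_inv_rev, W.inv_i, W.inv_j, W.inv_k, W.inv_l, W.inv_z, W.inv_y, W.inv_s, mul_one, one_mul]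
  have e2 : w * (s * z) * w⁻¹ = s * (i * j * k * l) := by
    have h2 : w * (s * z) * w⁻¹ = w * s * w⁻¹ * (w * z * w⁻¹) := by group
    rw [h2, e1, h.w_s]
    simp only [mul_assoc, W.ii, W.ii_, W.zi, W.zi_, W.jj, W.jj_, W.zj, W.zj_, W.kk, W.kk_, W.zk, W.zk_, W.ll, W.ll_, W.zl, W.zl_, W.zz, W.zz_, W.ji, W.ji_, W.ki, W.ki_, W.li, W.li_, W.kj, W.kj_, W.lj, W.lj_, W.lk, W.lk_, W.yi, W.yi_, W.yj, W.yj_, W.yk, W.yk_, W.yl, W.yl_, W.yz, W.yz_, W.yy, W.yy_, W.si, W.si_, W.sj, W.sj_, W.sk, W.sk_, W.sl, W.sl_, W.sz, W.sz_, W.sy, W.sy_, W.ss, W.ss_, mul_inv_rev, W.inv_i, W.inv_j, W.inv_k, W.inv_l, W.inv_z, W.inv_y, W.inv_s, mul_one, one_mul]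
  have inv1 : ∀ x : ↥(Subgroup.centralizer ({i * j * k * l} : Set G)), x ∈ O →
      z * (x : G) * z⁻¹ = (x : G)⁻¹ := fun x hx => z_inverts h hodd hx
  have conjw : ∀ (u : G), (∀ x : ↥(Subgroup.centralizer ({i * j * k * l} : Set G)), x ∈ O →
      u * (x : G) * u⁻¹ = (x : G)⁻¹) → ∀ x : ↥(Subgroup.centralizer ({i * j * k * l} : Set G)), x ∈ O →
      (w * u * w⁻¹) * (x : G) * (w * u * w⁻¹)⁻¹ = (x : G)⁻¹ := by
    intro u hu x hx
    have h1 : w₀⁻¹ * x * w₀⁻¹⁻¹ ∈ O := hO.conj_mem x hx w₀⁻¹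
    have h2 := hu _ h1
    change u * (w⁻¹ * (x : G) * w⁻¹⁻¹) * u⁻¹ = (w⁻¹ * (x : G) * w⁻¹⁻¹)⁻¹ at h2
    calc (w * u * w⁻¹) * (x : G) * (w * u * w⁻¹)⁻¹ = w * (u * (w⁻¹ * (x : G) * w⁻¹⁻¹) * u⁻¹) * w⁻¹ := by
          group
      _ = w * (w⁻¹ * (x : G) * w⁻¹⁻¹)⁻¹ * w⁻¹ := by rw [h2]
      _ = (x : G)⁻¹ := by group
  have inv2 := conjw z inv1
  rw [e1] at inv2
  have inv3 := conjw _ inv2
  rw [e2] at inv3
  have hoi : o⁻¹ ∈ O := inv_mem ho
  have h1 := inv1 o ho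
  have h2 := inv2 o⁻¹ hoi
  have h3 := inv3 o ho
  change s * z * (o : G)⁻¹ * (s * z)⁻¹ = (o : G)⁻¹⁻¹ at h2
  -- `z (s z) (s d) = d`
  have hd : s * (i * j * k * l) * (s * z) * z = i * j * k * l := by simp only [mul_assoc, W.ii, W.ii_, W.zi, W.zi_, W.jj, W.jj_, W.zj, W.zj_, W.kk, W.kk_, W.zk, W.zk_, W.ll, W.ll_, W.zl, W.zl_, W.zz, W.zz_, W.ji, W.ji_, W.ki, W.ki_, W.li, W.li_, W.kj, W.kj_, W.lj, W.lj_, W.lk, W.lk_, W.yi, W.yi_, W.yj, W.yj_, W.yk, W.yk_, W.yl, W.yl_, W.yz, W.yz_, W.yy, W.yy_, W.si, W.si_, W.sj, W.sj_, W.sk, W.sk_, W.sl, W.sl_, W.sz, W.sz_, W.sy, W.sy_, W.ss, W.ss_, mul_inv_rev, W.inv_i, W.inv_j, W.inv_k, W.inv_l, W.inv_z, W.inv_y, W.inv_s, mul_one, one_mul]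
  have hod : (o : G) * (i * j * k * l) = i * j * k * l * o := Subgroup.mem_centralizer_singleton_iff.1 o.2
  have key : ∀ g d : G, s * d * (s * z) * z = d → g * d = d * g → z * g * z⁻¹ = g⁻¹ →
      s * z * g⁻¹ * (s * z)⁻¹ = g⁻¹⁻¹ → s * d * g * (s * d)⁻¹ = g⁻¹ → g = g⁻¹ := by
    intro g d hd hod h1 h2 h3
    calc g = d * g * d⁻¹ := by rw [← hod, mul_inv_cancel_right]
      _ = (s * d * (s * z) * z) * g * (s * d * (s * z) * z)⁻¹ := by rw [hd]
      _ = (s * d) * ((s * z) * (z * g * z⁻¹) * (s * z)⁻¹) * (s * d)⁻¹ := by group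
      _ = (s * d) * g * (s * d)⁻¹ := by rw [h1, h2, inv_inv]
      _ = g⁻¹ := h3
  have h4 : (o : G) = (o : G)⁻¹ := key _ _ hd hod h1 h2 h3
  have h5 : (⟨o, ho⟩ : O) ^ 2 = 1 := by
    apply Subtype.ext
    apply Subtype.ext
    show (o : G) ^ 2 = 1
    rw [pow_two]
    nth_rewrite 1 [h4]
    exact inv_mul_cancel _
  have h6 : orderOf (⟨o, ho⟩ : O) ∣ 2 := orderOf_dvd_of_pow_eq_one h5
  have h7 : orderOf (⟨o, ho⟩ : O) ∣ Nat.card O := orderOf_dvd_natCard _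
  have h9 : orderOf (⟨o, ho⟩ : O) ∣ 1 := by
    have := Nat.dvd_gcd h7 h6
    rwa [hodd] at this
  have h10 := orderOf_eq_one_iff.1 (Nat.dvd_one.1 h9)
  exact congrArg Subtype.val h10

theorem norm_v [Finite G] (hM : HM i s y w w' (y * (i * k)) (i * j * k * l * z)) {g : G}
    (hg : g * (i * j * k * l) = i * j * k * l * g) :
    g * (y * (i * k)) * g⁻¹ = y * (i * k) ∨ g * (y * (i * k)) * g⁻¹ = (y * (i * k))⁻¹ := by
  have W := w7h h
  have hvv := v_sq W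
  have hdd := d_sq W
  have hvd : y * (i * k) * (i * j * k * l) = i * j * k * l * (y * (i * k)) :=
    comm_d_of_v h rfl
  let d' : ↥(Subgroup.centralizer ({i * j * k * l} : Set G)) :=
    ⟨i * j * k * l, Subgroup.mem_centralizer_singleton_iff.2 rfl⟩
  let v' : ↥(Subgroup.centralizer ({i * j * k * l} : Set G)) :=
    ⟨y * (i * k), Subgroup.mem_centralizer_singleton_iff.2 hvd⟩
  have hd' : ∀ x : ↥(Subgroup.centralizer ({i * j * k * l} : Set G)), x * d' = d' * x := fun x =>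
    Subtype.ext (Subgroup.mem_centralizer_singleton_iff.1 x.2)
  have hdd' : d' * d' = 1 := Subtype.ext hdd
  let A : Subgroup ↥(Subgroup.centralizer ({i * j * k * l} : Set G)) := Subgroup.zpowers d'
  have hAmem : ∀ x, x ∈ A ↔ x = 1 ∨ x = d' := by
    intro x
    constructor
    · intro hx
      obtain ⟨n, rfl⟩ := Subgroup.mem_zpowers_iff.1 hx
      rcases Int.even_or_odd' n with ⟨m, rfl | rfl⟩
      · left; rw [zpow_mul, zpow_two, hdd', one_zpow]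
      · right; rw [zpow_add, zpow_mul, zpow_two, hdd', one_zpow, one_mul, zpow_one]
    · rintro (rfl | rfl)
      · exact one_mem _
      · exact Subgroup.mem_zpowers _
  have hA : A.Normal := by
    refine ⟨fun x hx g => ?_⟩
    rcases (hAmem x).1 hx with rfl | rfl
    · rw [mul_one, mul_inv_cancel]; exact one_mem _
    · rw [hd', mul_inv_cancel_right]; exact hx
  have hd1 : i * j * k * l ≠ 1 := by
    intro h1
    have h2 := i_d W
    rw [h1, mul_one, mul_inv_cancel, one_mul] at h2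
    exact h.large.z_ne h2.symm
  obtain ⟨N, hN, hAN, hodd, hcomm⟩ := Cfsg.Agent.WeakTI.Four2.zstar_mod A v'
    ((hAmem _).2 (Or.inr (Subtype.ext hvv)))
    (by
      intro hv
      rcases (hAmem _).1 hv with h1 | h1
      · have h2 : y * (i * k) = 1 := congrArg Subtype.val h1
        rw [h2, one_mul] at hvv
        exact hd1 hvv.symm
      · have h2 : y * (i * k) = i * j * k * l := congrArg Subtype.val h1
        rw [h2, hdd] at hvv
        exact hd1 hvv.symm)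
    (by
      intro x hx
      have hxd : (x : G) * (i * j * k * l) = i * j * k * l * x :=
        Subgroup.mem_centralizer_singleton_iff.1 x.2
      have h1 := iso_v h hM hxd (by
        rcases (hAmem _).1 hx with h1 | h1
        · left; exact congrArg Subtype.val h1
        · right; exact congrArg Subtype.val h1)
      apply (hAmem _).2
      rcases h1 with h1 | h1
      · left; exact Subtype.ext h1
      · right; exact Subtype.ext h1)
  have hrel : Odd (A.relIndex N) := by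
    have h2 : Nat.card (N.map (QuotientGroup.mk' A)) = A.relIndex N := by
      rw [← Subgroup.relIndex_ker, QuotientGroup.ker_mk']
    rw [← h2]; exact hodd
  have hA2 : IsPGroup 2 A := by
    rintro ⟨x, hx⟩
    refine ⟨1, Subtype.ext ?_⟩
    show x ^ (2 ^ 1) = 1
    rw [pow_one, pow_two]
    rcases (hAmem x).1 hx with rfl | rfl
    · exact one_mul 1
    · exact hdd'
  let O : Subgroup ↥(Subgroup.centralizer ({i * j * k * l} : Set G)) :=
    (Cfsg.pPrimeCore 2 N).map N.subtype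
  have hOn : O.Normal := by
    have h1 := Cfsg.Agent.OddOrderLocal.NilParts.normalizer_le_of_characteristic (X := N) _
      (Cfsg.Agent.Lib.Cores.pPrimeCore_characteristic (G := N) 2)
    rw [Subgroup.normalizer_eq_top_iff.2 hN, top_le_iff, Subgroup.normalizer_eq_top_iff] at h1
    exact h1
  have hOc : (Nat.card O).Coprime 2 := Cfsg.Agent.Lib.LocalCore.card_map_pPrimeCore_coprime 2 N
  have hg' : ∀ g' : ↥(Subgroup.centralizer ({i * j * k * l} : Set G)), v' * g' * v'⁻¹ * g'⁻¹ = 1 ∨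
      v' * g' * v'⁻¹ * g'⁻¹ = d' := by
    intro g'
    obtain ⟨x, hx, o, ho, he⟩ := Cfsg.Agent.WeakTI.Four2.central_split hAN hA2
      (fun x hx y _ => by
        rcases (hAmem x).1 hx with rfl | rfl
        · rw [one_mul, mul_one]
        · exact (hd' y).symm) hrel _ (hcomm g')
    have ho1 := odd_trivial h (O := O) hOc ho
    rw [he, ho1, mul_one]
    exact (hAmem x).1 hx
  have h3 := hg' ⟨g, Subgroup.mem_centralizer_singleton_iff.2 hg⟩
  have hvi := v_inv W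
  rcases h3 with h3 | h3
  · left
    have h4 : y * (i * k) * g * (y * (i * k))⁻¹ * g⁻¹ = 1 := congrArg Subtype.val h3
    have h5 : g * (y * (i * k)) * g⁻¹ = (y * (i * k) * g * (y * (i * k))⁻¹ * g⁻¹)⁻¹ * (y * (i * k)) := by
      group
    rw [h5, h4, inv_one, one_mul]
  · right
    have h4 : y * (i * k) * g * (y * (i * k))⁻¹ * g⁻¹ = i * j * k * l := congrArg Subtype.val h3
    have h5 : g * (y * (i * k)) * g⁻¹ = (y * (i * k) * g * (y * (i * k))⁻¹ * g⁻¹)⁻¹ * (y * (i * k)) := by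
      group
    rw [h5, h4, hvi, inv_eq_of_mul_eq_one_left hdd, hvd]

theorem gen [Finite G] (hM : HM i s y w w' (y * (i * k)) (i * j * k * l * z)) :
    Subgroup.centralizer ({i * j * k * l} : Set G) ≤
      Subgroup.closure {i * j, k * l, i * k, y, s, w, i * w' * i⁻¹} := by
  have W := w7h h
  intro g hg
  rw [Subgroup.mem_centralizer_singleton_iff] at hg
  set K := Subgroup.closure ({i * j, k * l, i * k, y, s, w, i * w' * i⁻¹} : Set G) with hK
  have mij : i * j ∈ K := Subgroup.subset_closure (by simp)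
  have mkl : k * l ∈ K := Subgroup.subset_closure (by simp)
  have mik : i * k ∈ K := Subgroup.subset_closure (by simp)
  have my : y ∈ K := Subgroup.subset_closure (by simp)
  have ms : s ∈ K := Subgroup.subset_closure (by simp)
  have mw : w ∈ K := Subgroup.subset_closure (by simp)
  have mb : i * w' * i⁻¹ ∈ K := Subgroup.subset_closure (by simp)
  have mz : z ∈ K := by
    have h1 : i * j * (i * j) = z := by simp only [mul_assoc, W.ii, W.ii_, W.zi, W.zi_, W.jj, W.jj_, W.zj, W.zj_, W.kk, W.kk_, W.zk, W.zk_, W.ll, W.ll_, W.zl, W.zl_, W.zz, W.zz_, W.ji, W.ji_, W.ki, W.ki_, W.li, W.li_, W.kj, W.kj_, W.lj, W.lj_, W.lk, W.lk_, W.yi, W.yi_, W.yj, W.yj_, W.yk, W.yk_, W.yl, W.yl_, W.yz, W.yz_, W.yy, W.yy_, W.si, W.si_, W.sj, W.sj_, W.sk, W.sk_, W.sl, W.sl_, W.sz, W.sz_, W.sy, W.sy_, W.ss, W.ss_, mul_inv_rev, W.inv_i, W.inv_j, W.inv_k, W.inv_l, W.inv_z, W.inv_y, W.inv_s, mul_one, one_mul]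
    rw [← h1]; exact mul_mem mij mij
  have mT : i * (s * y) * i⁻¹ ∈ K := by
    have h1 : i * (s * y) * i⁻¹ = s * y * (i * k) * (k * l) * z := by simp only [mul_assoc, W.ii, W.ii_, W.zi, W.zi_, W.jj, W.jj_, W.zj, W.zj_, W.kk, W.kk_, W.zk, W.zk_, W.ll, W.ll_, W.zl, W.zl_, W.zz, W.zz_, W.ji, W.ji_, W.ki, W.ki_, W.li, W.li_, W.kj, W.kj_, W.lj, W.lj_, W.lk, W.lk_, W.yi, W.yi_, W.yj, W.yj_, W.yk, W.yk_, W.yl, W.yl_, W.yz, W.yz_, W.yy, W.yy_, W.si, W.si_, W.sj, W.sj_, W.sk, W.sk_, W.sl, W.sl_, W.sz, W.sz_, W.sy, W.sy_, W.ss, W.ss_, mul_inv_rev, W.inv_i, W.inv_j, W.inv_k, W.inv_l, W.inv_z, W.inv_y, W.inv_s, mul_one, one_mul]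
    rw [h1]
    exact mul_mem (mul_mem (mul_mem (mul_mem ms my) mik) mkl) mz
  have hMK : Subgroup.closure ({s, i * (s * y) * i⁻¹, w, i * w' * i⁻¹} : Set G) ≤ K := by
    rw [Subgroup.closure_le]
    intro x hx
    simp only [Set.mem_insert_iff, Set.mem_singleton_iff] at hx
    rcases hx with rfl | rfl | rfl | rfl
    · exact ms
    · exact mT
    · exact mw
    · exact mb
  have hv : ∀ x, x * (y * (i * k)) = y * (i * k) * x → x ∈ K := by
    intro x hx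
    obtain ⟨n, a, ha, rfl⟩ := hM.hv x hx
    exact mul_mem (Subgroup.zpow_mem _ (mul_mem my mik) n) (hMK ha)
  rcases norm_v h hM hg with h1 | h1
  · apply hv
    rw [mul_inv_eq_iff_eq_mul] at h1
    exact h1
  · have h2 : g * (s * y) ∈ K := by
      apply hv
      have h3 := sy_v W
      have h4 : g * (s * y) * (y * (i * k)) * (g * (s * y))⁻¹ = y * (i * k) := by
        calc g * (s * y) * (y * (i * k)) * (g * (s * y))⁻¹
            = g * (s * y * (y * (i * k)) * (s * y)⁻¹) * g⁻¹ := by group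
          _ = (g * (y * (i * k)) * g⁻¹)⁻¹ := by rw [h3]; group
          _ = y * (i * k) := by rw [h1, inv_inv]
      rw [mul_inv_eq_iff_eq_mul] at h4
      exact h4
    have h5 : g = g * (s * y) * (s * y)⁻¹ := by group
    rw [h5]
    exact mul_mem h2 (inv_mem (mul_mem ms my))

end

end Cfsg.Agent.LargeExtra.W2.LFour.CentD
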