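import Cfsg.Agent.LargeExtra.W2.LFour.PresDef
import Cfsg.Agent.SmallExtra438.FrameA

/-!
# S1759, `L₄(3)`: the group `M = ⟨s, T, w, i w' i⁻¹⟩` does not have order `168` (helper125)
-/

set_option autoImplicit false

namespace Cfsg.Agent.LargeExtra.W2.LFour.Kill168

open Subgroup
open scoped commutatorElement

section abs

variable {M : Type*} [Group M]

/-- relations in `M`; `α` is conjugation by `s i k`, `u = d z`. -/
structure Rel (α : MulAut M) (s T w b u : M) : Prop where
  s2 : s * s = 1
  T2 : T * T = 1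
  u2 : u * u = 1
  w3 : w ^ 3 = 1
  b3 : b ^ 3 = 1
  su : s * u = u * s
  Tu : T * u = u * T
  ws : w * s * w⁻¹ = u
  wu : w * u * w⁻¹ = u * s
  bu : b * u * b⁻¹ = u * T
  Tw : T * w * T⁻¹ = w⁻¹
  sb : s * b * s⁻¹ = b⁻¹
  hT : T ≠ 1
  hu : u ≠ 1
  hs : s ≠ 1
  αs : α s = s
  αT : α T = T
  αu : α u = u
  αw : α w = w
  α2 : α * α = 1
  αb : α b = T * b
  gen : closure {s, T, w, b} = ⊤

variable {α : MulAut M} {s T w b u : M} (h : Rel α s T w b u)

include h

theorem Rel.perfect : commutator M = ⊤ := by
  have iu : u⁻¹ = u := inv_eq_of_mul_eq_one_right h.u2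
  have mem : ∀ x y : M, x * y * x⁻¹ * y⁻¹ ∈ commutator M := fun x y =>
    commutator_mem_commutator (mem_top x) (mem_top y)
  have m1 : s ∈ commutator M := by
    have := mem w u
    rw [h.wu, iu, mul_assoc, h.su, ← mul_assoc, h.u2, one_mul] at this
    exact this
  have m2 : T ∈ commutator M := by
    have := mem b u
    rw [h.bu, iu, mul_assoc, h.Tu, ← mul_assoc, h.u2, one_mul] at this
    exact this
  have m3 : w ∈ commutator M := by
    have := mem T w
    rw [h.Tw] at this
    have h1 : w⁻¹ * w⁻¹ = w := by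
      have h2 : w * w * w = 1 := by rw [← h.w3, pow_succ, pow_succ, pow_one]
      calc w⁻¹ * w⁻¹ = w⁻¹ * w⁻¹ * (w * w * w) := by rw [h2, mul_one]
        _ = w := by group
    rwa [h1] at this
  have m4 : b ∈ commutator M := by
    have := mem s b
    rw [h.sb] at this
    have h1 : b⁻¹ * b⁻¹ = b := by
      have h2 : b * b * b = 1 := by rw [← h.b3, pow_succ, pow_succ, pow_one]
      calc b⁻¹ * b⁻¹ = b⁻¹ * b⁻¹ * (b * b * b) := by rw [h2, mul_one]
        _ = b := by group
    rwa [h1] at this
  rw [eq_top_iff, ← h.gen, closure_le]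
  rintro x (rfl | rfl | rfl | rfl)
  · exact m1
  · exact m2
  · exact m3
  · exact m4

omit h in
/-- a perfect group of order 168 has 8 Sylow 7-subgroups -/
theorem card_sylow [Finite M] (hM : Nat.card M = 168) (hp : commutator M = ⊤) : Nat.card (Sylow 7 M) = 8 := by
  have : Fact (Nat.Prime 7) := ⟨by norm_num⟩
  obtain ⟨P⟩ : Nonempty (Sylow 7 M) := inferInstance
  have hP : Nat.card P = 7 := by
    have h1 := P.card_eq_multiplicity
    rw [hM] at h1
    have h2 : Nat.factorization 168 7 = 1 := by
      have : (168 : ℕ) = 7 ^ 1 * 24 := by norm_num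
      rw [this, Nat.factorization_mul (by norm_num) (by norm_num), Finsupp.add_apply,
        (by norm_num : Nat.Prime 7).factorization_pow, Finsupp.single_eq_same,
        Nat.factorization_eq_zero_of_not_dvd (by norm_num : ¬ 7 ∣ 24)]
    rw [h2, pow_one] at h1
    exact h1
  have hi : (P : Subgroup M).index = 24 := by
    have h1 := (P : Subgroup M).card_mul_index
    have h2 : Nat.card (P : Subgroup M) = 7 := hP
    rw [h2, hM] at h1
    omega
  have h1 := P.card_dvd_index
  rw [hi] at h1
  have h2 := card_sylow_modEq_one 7 M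
  have h3 : Nat.card (Sylow 7 M) ≤ 24 := Nat.le_of_dvd (by norm_num) h1
  have h4 : Nat.card (Sylow 7 M) % 7 = 1 := h2
  have h5 : Nat.card (Sylow 7 M) = 1 ∨ Nat.card (Sylow 7 M) = 8 := by
    generalize Nat.card (Sylow 7 M) = n at *
    interval_cases n <;> omega
  rcases h5 with h5 | h5
  · exfalso
    -- the Sylow 7-subgroup is normal
    have hsub : Subsingleton (Sylow 7 M) := (Nat.card_eq_one_iff_unique.1 h5).1
    have hN : (P : Subgroup M).Normal := Sylow.normal_of_subsingleton P
    have hcyc : IsCyclic (P : Subgroup M) := isCyclic_of_prime_card (p := 7) hP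
    let f : M →* MulAut (P : Subgroup M) := MulAut.conjNormal
    let g : M →* (ZMod (Nat.card (P : Subgroup M)))ˣ := (IsCyclic.mulAutMulEquiv (P : Subgroup M)).toMonoidHom.comp f
    have hker : commutator M ≤ g.ker := by
      rw [commutator_def, commutator_le]
      intro x _ y _
      rw [MonoidHom.mem_ker, map_commutatorElement, commutatorElement_eq_one_iff_commute]
      exact Commute.all _ _
    rw [hp] at hker
    have hcent : ∀ x : M, ∀ p ∈ (P : Subgroup M), x * p = p * x := by
      intro x p hp'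
      have h6 : g x = 1 := hker (mem_top x)
      have h7 : f x = 1 := (IsCyclic.mulAutMulEquiv (P : Subgroup M)).injective (by rw [map_one]; exact h6)
      have h8 := congrArg (fun φ : MulAut (P : Subgroup M) => ((φ ⟨p, hp'⟩ : (P : Subgroup M)) : M)) h7
      simp only [f, MulAut.conjNormal_apply, MulAut.one_apply] at h8
      exact mul_inv_eq_iff_eq_mul.1 h8
    obtain ⟨K, hK⟩ := Subgroup.exists_right_complement'_of_coprime (N := (P : Subgroup M)) (by
      rw [hi]
      have : Nat.card (P : Subgroup M) = 7 := hP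
      rw [this]; norm_num)
    have hKt : K = ⊤ := by
      rw [eq_top_iff, ← hp, commutator_def, commutator_le]
      intro x _ y _
      obtain ⟨⟨⟨p, hp1⟩, ⟨k, hk1⟩⟩, hx⟩ := hK.2 x
      obtain ⟨⟨⟨p', hp1'⟩, ⟨k', hk1'⟩⟩, hy⟩ := hK.2 y
      simp only at hx hy
      have e1 := hcent k' p hp1
      have e2 := hcent k p' hp1'
      have e3 := hcent p p' hp1'
      have h6 : ⁅x, y⁆ = k * k' * k⁻¹ * k'⁻¹ := by
        rw [← hx, ← hy, commutatorElement_def]
        have e4 : p * k * (p' * k') = (p * p') * (k * k') := by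
          calc p * k * (p' * k') = p * (k * p') * k' := by group
            _ = _ := by rw [e2]; group
        have e5 : p' * k' * (p * k) = (p * p') * (k' * k) := by
          calc p' * k' * (p * k) = p' * (k' * p) * k := by group
            _ = (p' * p) * (k' * k) := by rw [e1]; group
            _ = _ := by rw [e3]
        have e6 : p * k * (p' * k') * (p * k)⁻¹ * (p' * k')⁻¹ =
            (p * k * (p' * k')) * (p' * k' * (p * k))⁻¹ := by group
        have e7 := hcent (k * k' * k⁻¹ * k'⁻¹) (p * p') (mul_mem hp1 hp1')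
        rw [e6, e4, e5]
        calc p * p' * (k * k') * (p * p' * (k' * k))⁻¹ = (p * p') * (k * k' * k⁻¹ * k'⁻¹) * (p * p')⁻¹ := by group
          _ = _ := by rw [← e7]; group
      rw [h6]
      exact mul_mem (mul_mem (mul_mem hk1 hk1') (inv_mem hk1)) (inv_mem hk1')
    have h9 := hK.card_mul_card
    have h10 : Nat.card (P : Subgroup M) = 7 := hP
    rw [h10, hKt, card_top, hM] at h9
    omega
  · exact h5

/-! ### the action on the Sylow 7-subgroups -/

omit h in
theorem conj_comm {m : M} (hm : α m = m) : α * MulAut.conj m = MulAut.conj m * α := by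
  ext x
  simp only [MulAut.mul_apply, MulAut.conj_apply, map_mul, map_inv, hm]

theorem Rel.conj_b : MulAut.conj b * α * (MulAut.conj b)⁻¹ = α * MulAut.conj T := by
  have iT : T⁻¹ = T := inv_eq_of_mul_eq_one_right h.T2
  ext x
  simp only [MulAut.mul_apply, MulAut.conj_apply, map_mul, map_inv, h.αT, h.αb, MulAut.conj_inv_apply]
  calc _ = T⁻¹ * α x * T := by group
    _ = T * α x * T⁻¹ := by rw [iT]

omit h in
/-- 2-elements have no fixed points -/
theorem fix_free [Finite M] (hM : Nat.card M = 168) (h8 : Nat.card (Sylow 7 M) = 8) {m : M} (hm : m * m = 1)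
    (P : Sylow 7 M) (hf : MulAut.conj m • P = P) : m = 1 := by
  have : Fact (Nat.Prime 7) := ⟨by norm_num⟩
  have h1 : m ∈ normalizer (P : Set M) := Sylow.smul_eq_iff_mem_normalizer.1 hf
  have h2 := (normalizer (P : Set M)).card_mul_index
  rw [← P.card_eq_index_normalizer, h8, hM] at h2
  have h3 : Nat.card (normalizer (P : Set M)) = 21 := by omega
  have h4 : orderOf m ∣ 21 := by
    rw [← h3]
    have := orderOf_dvd_natCard (⟨m, h1⟩ : normalizer (P : Set M))
    rwa [Subgroup.orderOf_mk] at this
  have h5 : orderOf m ∣ 2 := orderOf_dvd_of_pow_eq_one (by rw [pow_two, hm])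
  exact orderOf_eq_one_iff.1 (Nat.eq_one_of_dvd_coprimes (by norm_num : Nat.Coprime 21 2) h4 h5)

theorem Rel.false [Finite M] (hM : Nat.card M = 168) : False := by
  classical
  have : Fact (Nat.Prime 7) := ⟨by norm_num⟩
  have h8 := card_sylow hM h.perfect
  have : Fintype (Sylow 7 M) := Fintype.ofFinite _
  have h8' : Fintype.card (Sylow 7 M) = 8 := by rw [← Nat.card_eq_fintype_card]; exact h8
  have ff : ∀ m : M, m * m = 1 → m ≠ 1 → ∀ P : Sylow 7 M, MulAut.conj m • P ≠ P := fun m hm hm1 P hP =>
    hm1 (fix_free hM h8 hm P hP)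
  have cs := conj_comm h.αs
  have cu := conj_comm h.αu
  have cT := conj_comm h.αT
  have cw := conj_comm h.αw
  have cb := h.conj_b
  have hsu2 : (s * u) * (s * u) = 1 := by
    calc (s * u) * (s * u) = s * (u * s) * u := by group
      _ = (s * s) * (u * u) := by rw [← h.su]; group
      _ = 1 := by rw [h.s2, h.u2, one_mul]
  have hsu1 : s * u ≠ 1 := by
    intro h1
    have h2 : s = u := by
      calc s = s * u * u := by rw [mul_assoc, h.u2, mul_one]
        _ = u := by rw [h1, one_mul]
    have h3 := h.wu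
    rw [h2, h.u2] at h3
    apply h.hu
    calc u = w⁻¹ * (w * u * w⁻¹) * w := by group
      _ = 1 := by rw [h3]; group
  have hTu2 : (T * u) * (T * u) = 1 := by
    calc (T * u) * (T * u) = T * (u * T) * u := by group
      _ = (T * T) * (u * u) := by rw [← h.Tu]; group
      _ = 1 := by rw [h.T2, h.u2, one_mul]
  -- `α` has no fixed points
  have key1 : ∀ P : Sylow 7 M, α • P ≠ P := by
    intro P0 hP0
    let A : Finset (Sylow 7 M) := Finset.univ.filter (fun P => α • P = P)
    have hA : ∀ P, P ∈ A ↔ α • P = P := fun P => by simp [A]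
    have hmul : ∀ m : M, α * MulAut.conj m = MulAut.conj m * α → ∀ P ∈ A, MulAut.conj m • P ∈ A := by
      intro m hm P hP
      rw [hA] at hP ⊢
      rw [← mul_smul, hm, mul_smul, hP]
    -- four elements of `A`
    have hA4 : 4 ≤ A.card := by
      have hsP := hmul s cs P0 ((hA _).2 hP0)
      have huP := hmul u cu P0 ((hA _).2 hP0)
      have hsuP := hmul s cs _ huP
      have e1 : P0 ≠ MulAut.conj s • P0 := (ff s h.s2 h.hs P0).symm
      have e2 : P0 ≠ MulAut.conj u • P0 := (ff u h.u2 h.hu P0).symm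
      have e3 : P0 ≠ MulAut.conj s • MulAut.conj u • P0 := by
        rw [← mul_smul, ← map_mul]
        exact (ff _ hsu2 hsu1 P0).symm
      have e4 : MulAut.conj s • P0 ≠ MulAut.conj u • P0 := by
        intro h1
        apply ff _ hsu2 hsu1 P0
        rw [map_mul, mul_smul, ← h1, ← mul_smul, ← map_mul, h.s2, map_one, one_smul]
      have e5 : MulAut.conj s • P0 ≠ MulAut.conj s • MulAut.conj u • P0 := fun h1 =>
        e2 (MulAction.injective _ h1)
      have e6 : MulAut.conj u • P0 ≠ MulAut.conj s • MulAut.conj u • P0 := (ff s h.s2 h.hs _).symm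
      have hsub : ({P0, MulAut.conj s • P0, MulAut.conj u • P0, MulAut.conj s • MulAut.conj u • P0} :
          Finset (Sylow 7 M)) ⊆ A := by
        intro P hP
        simp only [Finset.mem_insert, Finset.mem_singleton] at hP
        rcases hP with rfl | rfl | rfl | rfl
        · exact (hA _).2 hP0
        · exact hsP
        · exact huP
        · exact hsuP
      have hcard : ({P0, MulAut.conj s • P0, MulAut.conj u • P0, MulAut.conj s • MulAut.conj u • P0} :
          Finset (Sylow 7 M)).card = 4 := by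
        rw [Finset.card_insert_of_notMem, Finset.card_insert_of_notMem, Finset.card_insert_of_notMem,
          Finset.card_singleton]
        · simp only [Finset.mem_singleton]; exact e6
        · simp only [Finset.mem_insert, Finset.mem_singleton]
          rintro (h1 | h1)
          · exact e4 h1
          · exact e5 h1
        · simp only [Finset.mem_insert, Finset.mem_singleton]
          rintro (h1 | h1 | h1)
          · exact e1 h1
          · exact e2 h1
          · exact e3 h1
      rw [← hcard]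
      exact Finset.card_le_card hsub
    -- the translates of `A` by `b`
    let c := MulAut.conj b
    let f : Sylow 7 M → Sylow 7 M := fun P => c • P
    have hf : Function.Injective f := fun P P' hP => MulAction.injective c hP
    have hB : ∀ P, P ∈ A.image f → (α * MulAut.conj T) • P = P := by
      intro P hP
      obtain ⟨R, hR, rfl⟩ := Finset.mem_image.1 hP
      rw [hA] at hR
      show (α * MulAut.conj T) • (c • R) = c • R
      rw [← cb]
      show (c * α * c⁻¹) • (c • R) = c • R
      rw [← mul_smul, inv_mul_cancel_right, mul_smul, hR]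
    have d1 : Disjoint A (A.image f) := by
      rw [Finset.disjoint_left]
      intro P hP hP'
      have h1 := hB P hP'
      rw [hA] at hP
      rw [cT, mul_smul, hP] at h1
      exact ff T h.T2 h.hT P h1
    have d2 : Disjoint (A.image f) ((A.image f).image f) := by
      rw [Finset.disjoint_left]
      intro P hP hP'
      obtain ⟨R, hR, rfl⟩ := Finset.mem_image.1 hP
      obtain ⟨R', hR', h1⟩ := Finset.mem_image.1 hP'
      have h2 := hf h1
      rw [h2] at hR'
      exact (Finset.disjoint_left.1 d1) hR hR'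
    have d3 : Disjoint A ((A.image f).image f) := by
      rw [Finset.disjoint_left]
      intro P hP hP'
      obtain ⟨R, hR, rfl⟩ := Finset.mem_image.1 hP'
      -- apply `f` once more: `f^3 = 1`
      obtain ⟨R', hR', rfl⟩ := Finset.mem_image.1 hR
      have h3 : f (f (f R')) = R' := by
        show c • (c • (c • R')) = R'
        rw [← mul_smul, ← mul_smul]
        have : c * (c * c) = 1 := by
          show MulAut.conj b * (MulAut.conj b * MulAut.conj b) = 1
          rw [← map_mul, ← map_mul]
          have h4 : b * (b * b) = 1 := by rw [← h.b3, pow_succ, pow_succ, pow_one, mul_assoc]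
          rw [h4, map_one]
        have h5 : c * c * c = 1 := by rw [mul_assoc, this]
        rw [h5, one_smul]
      have h4 : f (f (f R')) ∈ A.image f := Finset.mem_image_of_mem f hP
      rw [h3] at h4
      exact (Finset.disjoint_left.1 d1) hR' h4
    have c1 : (A.image f).card = A.card := Finset.card_image_of_injective _ hf
    have c2 : ((A.image f).image f).card = A.card := by rw [Finset.card_image_of_injective _ hf, c1]
    have c3 : (A ∪ A.image f ∪ (A.image f).image f).card ≤ 8 := by
      rw [← h8', ← Finset.card_univ]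
      exact Finset.card_le_card (Finset.subset_univ _)
    rw [Finset.card_union_of_disjoint (Finset.disjoint_union_left.2 ⟨d3, d2⟩), Finset.card_union_of_disjoint d1,
      c1, c2] at c3
    omega
  have key2 : ∀ P : Sylow 7 M, (α * MulAut.conj T) • P ≠ P := by
    intro P hP
    rw [← cb, mul_smul, mul_smul] at hP
    apply key1 ((MulAut.conj b)⁻¹ • P)
    rw [smul_eq_iff_eq_inv_smul] at hP
    exact hP
  -- the fixed points of `w`
  let B : Finset (Sylow 7 M) := Finset.univ.filter (fun P => MulAut.conj w • P = P)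
  have hBm : ∀ P, P ∈ B ↔ MulAut.conj w • P = P := fun P => by simp [B]
  have hB3 : 8 % 3 = B.card % 3 := by
    have : Fact (Nat.Prime 3) := ⟨Nat.prime_three⟩
    have hp3 : IsPGroup 3 (zpowers (MulAut.conj w)) := by
      have h1 : orderOf (MulAut.conj w) ∣ 3 := orderOf_dvd_of_pow_eq_one (by rw [← map_pow, h.w3, map_one])
      rcases (Nat.dvd_prime Nat.prime_three).1 h1 with h2 | h2
      · refine IsPGroup.of_card (n := 0) ?_
        rw [Nat.card_zpowers, h2, pow_zero]
      · refine IsPGroup.of_card (n := 1) ?_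
        rw [Nat.card_zpowers, h2, pow_one]
    have h1 := hp3.card_modEq_card_fixedPoints (α := Sylow 7 M)
    rw [h8] at h1
    have h2 : MulAction.fixedPoints (zpowers (MulAut.conj w)) (Sylow 7 M) = (B : Set (Sylow 7 M)) := by
      ext P
      rw [MulAction.mem_fixedPoints, Finset.mem_coe, hBm]
      constructor
      · intro h3
        exact h3 ⟨MulAut.conj w, mem_zpowers _⟩
      · rintro h3 ⟨g, hg⟩
        show g • P = P
        rw [← MulAction.mem_stabilizer_iff] at h3 ⊢
        exact (zpowers_le.2 h3) hg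
    rw [h2, Nat.card_coe_set_eq, Set.ncard_coe_finset] at h1
    exact h1
  have hBT : ∀ P ∈ B, MulAut.conj T • P ∈ B := by
    intro P hP
    rw [hBm] at hP ⊢
    have h1 : w * T = T * w⁻¹ := by
      rw [← h.Tw]
      have iT : T⁻¹ = T := inv_eq_of_mul_eq_one_right h.T2
      rw [iT]
      calc w * T = (T * T) * w * T := by rw [h.T2, one_mul]
        _ = T * (T * w * T) := by group
    rw [← mul_smul, ← map_mul, h1, map_mul, mul_smul, map_inv, smul_eq_iff_eq_inv_smul, inv_smul_smul,
      inv_smul_eq_iff, hP]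
  have hBα : ∀ P ∈ B, α • P ∈ B := by
    intro P hP
    rw [hBm] at hP ⊢
    rw [← mul_smul, ← cw, mul_smul, hP]
  have hTT : ∀ P : Sylow 7 M, MulAut.conj T • MulAut.conj T • P = P := by
    intro P
    rw [← mul_smul, ← map_mul, h.T2, map_one, one_smul]
  -- parity
  have hB2 : 2 ∣ B.card := by
    have h1 : ∑ x ∈ B, (1 : ZMod 2) = 0 := by
      refine Finset.sum_involution (fun P _ => MulAut.conj T • P) ?_ ?_ ?_ ?_
      · intro P _; decide
      · intro P hP _; exact ff T h.T2 h.hT P
      · intro P hP; exact hBT P hP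
      · intro P hP; exact hTT P
    rw [Finset.sum_const, nsmul_eq_mul, mul_one] at h1
    exact (ZMod.natCast_eq_zero_iff _ 2).1 h1
  have hne : B.Nonempty := by
    rw [Finset.nonempty_iff_ne_empty]
    intro h1
    rw [h1] at hB3
    simp at hB3
  obtain ⟨P, hP⟩ := hne
  have hB4 : 4 ≤ B.card := by
    have e1 : P ≠ MulAut.conj T • P := (ff T h.T2 h.hT P).symm
    have e2 : P ≠ α • P := (key1 P).symm
    have e3 : P ≠ α • MulAut.conj T • P := by
      rw [← mul_smul]; exact (key2 P).symm
    have e4 : MulAut.conj T • P ≠ α • P := by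
      intro h1
      apply key2 P
      rw [mul_smul, h1, ← mul_smul, h.α2, one_smul]
    have e5 : MulAut.conj T • P ≠ α • MulAut.conj T • P := (key1 _).symm
    have e6 : α • P ≠ α • MulAut.conj T • P := fun h1 => e1 (MulAction.injective _ h1)
    have hsub : ({P, MulAut.conj T • P, α • P, α • MulAut.conj T • P} : Finset (Sylow 7 M)) ⊆ B := by
      intro R hR
      simp only [Finset.mem_insert, Finset.mem_singleton] at hR
      rcases hR with rfl | rfl | rfl | rfl
      · exact hP
      · exact hBT _ hP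
      · exact hBα _ hP
      · exact hBα _ (hBT _ hP)
    have hcard : ({P, MulAut.conj T • P, α • P, α • MulAut.conj T • P} : Finset (Sylow 7 M)).card = 4 := by
      rw [Finset.card_insert_of_notMem, Finset.card_insert_of_notMem, Finset.card_insert_of_notMem,
        Finset.card_singleton]
      · simp only [Finset.mem_singleton]; exact e6
      · simp only [Finset.mem_insert, Finset.mem_singleton]
        rintro (h1 | h1)
        · exact e4 h1
        · exact e5 h1
      · simp only [Finset.mem_insert, Finset.mem_singleton]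
        rintro (h1 | h1 | h1)
        · exact e1 h1
        · exact e2 h1
        · exact e3 h1
    rw [← hcard]
    exact Finset.card_le_card hsub
  have hB8 : B.card ≤ 8 := by
    rw [← h8', ← Finset.card_univ]
    exact Finset.card_le_card (Finset.subset_univ _)
  have hB : B.card = 8 := by omega
  have hBu : B = Finset.univ := Finset.eq_univ_of_card _ (by rw [hB, h8'])
  have hw : ∀ R : Sylow 7 M, MulAut.conj w • R = R := fun R => (hBm R).1 (by rw [hBu]; exact Finset.mem_univ _)
  apply ff _ hsu2 hsu1 P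
  have h1 : MulAut.conj u • P = MulAut.conj s • P := by
    rw [← h.ws, map_mul, map_mul, mul_smul, mul_smul, map_inv]
    have h2 : (MulAut.conj w)⁻¹ • P = P := by rw [inv_smul_eq_iff, hw]
    rw [h2, hw]
  rw [map_mul, mul_smul, h1, ← mul_smul, ← map_mul, h.s2, map_one, one_smul]

end abs

section conc

open Cfsg.Agent.SmallExtra438.FrameA Cfsg.Agent.SmallExtra438.ModelA

variable {G : Type*} [Group G] {Q : Subgroup G} {z i j k l x₁ x₂ y s θ w w' : G}

/-- relations inside `C_G(z)` -/
structure CRel (z i j k l y s : G) : Prop where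
  T_eq : i * (s * y) * i⁻¹ * (i * (s * y) * i⁻¹) = 1
  Ts : i * (s * y) * i⁻¹ * s * (i * (s * y) * i⁻¹)⁻¹ = s * (i * j * k * l * z)
  su : s * (i * j * k * l * z) = i * j * k * l * z * s
  Tu : i * (s * y) * i⁻¹ * (i * j * k * l * z) = i * j * k * l * z * (i * (s * y) * i⁻¹)
  u2 : i * j * k * l * z * (i * j * k * l * z) = 1
  iu : i * (i * j * k * l) * i⁻¹ = i * j * k * l * z
  ui : i * (i * j * k * l * z) * i⁻¹ = i * j * k * l
  tau2 : s * (i * k) * (s * (i * k)) = 1
  taus : s * (i * k) * s = s * (s * (i * k))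
  tauT : s * (i * k) * (i * (s * y) * i⁻¹) = i * (s * y) * i⁻¹ * (s * (i * k))
  tauu : s * (i * k) * (i * j * k * l * z) = i * s * i⁻¹ * (i * j * k * l)
  taud : s * (i * k) * (i * j * k * l) = i * j * k * l * (s * (i * k))
  usz : i * j * k * l * s * z = i * j * k * l * z * s

theorem crel_aux (f : ℕ → G) (hm : ∀ a b c, a < 1152 → b < 1152 → mm 0 a b = c → f a * f b = f c) (h0 : f 0 = 1) :
    CRel (f 16) (f 1) (f 2) (f 4) (f 8) (f 288) (f 576) := by
  have r0 : f 1 * f 2 = f 3 := hm _ _ _ (by norm_num) (by norm_num) (by decide +kernel)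
  have r1 : f 1 * f 4 = f 5 := hm _ _ _ (by norm_num) (by norm_num) (by decide +kernel)
  have r2 : f 1 * f 15 = f 30 := hm _ _ _ (by norm_num) (by norm_num) (by decide +kernel)
  have r3 : f 1 * f 31 = f 14 := hm _ _ _ (by norm_num) (by norm_num) (by decide +kernel)
  have r4 : f 1 * f 576 = f 577 := hm _ _ _ (by norm_num) (by norm_num) (by decide +kernel)
  have r5 : f 1 * f 864 = f 865 := hm _ _ _ (by norm_num) (by norm_num) (by decide +kernel)
  have r6 : f 3 * f 4 = f 7 := hm _ _ _ (by norm_num) (by norm_num) (by decide +kernel)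
  have r7 : f 7 * f 8 = f 15 := hm _ _ _ (by norm_num) (by norm_num) (by decide +kernel)
  have r8 : f 14 * f 17 = f 15 := hm _ _ _ (by norm_num) (by norm_num) (by decide +kernel)
  have r9 : f 15 * f 16 = f 31 := hm _ _ _ (by norm_num) (by norm_num) (by decide +kernel)
  have r10 : f 15 * f 576 = f 591 := hm _ _ _ (by norm_num) (by norm_num) (by decide +kernel)
  have r11 : f 15 * f 581 = f 586 := hm _ _ _ (by norm_num) (by norm_num) (by decide +kernel)
  have r12 : f 30 * f 17 = f 31 := hm _ _ _ (by norm_num) (by norm_num) (by decide +kernel)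
  have r13 : f 31 * f 31 = f 0 := hm _ _ _ (by norm_num) (by norm_num) (by decide +kernel)
  have r14 : f 31 * f 576 = f 607 := hm _ _ _ (by norm_num) (by norm_num) (by decide +kernel)
  have r15 : f 31 * f 873 = f 870 := hm _ _ _ (by norm_num) (by norm_num) (by decide +kernel)
  have r16 : f 297 * f 873 = f 607 := hm _ _ _ (by norm_num) (by norm_num) (by decide +kernel)
  have r17 : f 576 * f 5 = f 581 := hm _ _ _ (by norm_num) (by norm_num) (by decide +kernel)
  have r18 : f 576 * f 31 = f 607 := hm _ _ _ (by norm_num) (by norm_num) (by decide +kernel)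
  have r19 : f 576 * f 288 = f 864 := hm _ _ _ (by norm_num) (by norm_num) (by decide +kernel)
  have r20 : f 576 * f 581 = f 5 := hm _ _ _ (by norm_num) (by norm_num) (by decide +kernel)
  have r21 : f 577 * f 17 = f 597 := hm _ _ _ (by norm_num) (by norm_num) (by decide +kernel)
  have r22 : f 581 * f 15 = f 586 := hm _ _ _ (by norm_num) (by norm_num) (by decide +kernel)
  have r23 : f 581 * f 31 = f 602 := hm _ _ _ (by norm_num) (by norm_num) (by decide +kernel)
  have r24 : f 581 * f 576 = f 5 := hm _ _ _ (by norm_num) (by norm_num) (by decide +kernel)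
  have r25 : f 581 * f 581 = f 0 := hm _ _ _ (by norm_num) (by norm_num) (by decide +kernel)
  have r26 : f 581 * f 873 = f 307 := hm _ _ _ (by norm_num) (by norm_num) (by decide +kernel)
  have r27 : f 591 * f 16 = f 607 := hm _ _ _ (by norm_num) (by norm_num) (by decide +kernel)
  have r28 : f 597 * f 15 = f 602 := hm _ _ _ (by norm_num) (by norm_num) (by decide +kernel)
  have r29 : f 865 * f 17 = f 873 := hm _ _ _ (by norm_num) (by norm_num) (by decide +kernel)
  have r30 : f 873 * f 31 = f 870 := hm _ _ _ (by norm_num) (by norm_num) (by decide +kernel)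
  have r31 : f 873 * f 576 = f 297 := hm _ _ _ (by norm_num) (by norm_num) (by decide +kernel)
  have r32 : f 873 * f 581 = f 307 := hm _ _ _ (by norm_num) (by norm_num) (by decide +kernel)
  have r33 : f 873 * f 873 = f 0 := hm _ _ _ (by norm_num) (by norm_num) (by decide +kernel)
  have v0 : (f 1)⁻¹ = f 17 := inv_eq_of_mul_eq_one_right ((hm 1 17 0 (by norm_num) (by norm_num) (by decide +kernel)).trans h0)
  have v1 : (f 873)⁻¹ = f 873 := inv_eq_of_mul_eq_one_right ((hm 873 873 0 (by norm_num) (by norm_num) (by decide +kernel)).trans h0)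
  constructor <;> simp only [r0, r1, r2, r3, r4, r5, r6, r7, r8, r9, r10, r11, r12, r13, r14, r15, r16, r17, r18, r19, r20, r21, r22, r23, r24, r25, r26, r27, r28, r29, r30, r31, r32, r33, v0, v1, h0]

theorem aux_code (f : ℕ → G) (hm : ∀ a b c, a < 1152 → b < 1152 → mm 0 a b = c → f a * f b = f c) (h0 : f 0 = 1) :
    f 1 * (f 576 * f 288) * (f 1)⁻¹ = f 873 ∧ f 1 * f 2 * f 4 * f 8 * f 16 = f 31 := by
  have v0 : (f 1)⁻¹ = f 17 := inv_eq_of_mul_eq_one_right ((hm 1 17 0 (by norm_num) (by norm_num) (by decide +kernel)).trans h0)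
  have r19 : f 576 * f 288 = f 864 := hm _ _ _ (by norm_num) (by norm_num) (by decide +kernel)
  have r5 : f 1 * f 864 = f 865 := hm _ _ _ (by norm_num) (by norm_num) (by decide +kernel)
  have r29 : f 865 * f 17 = f 873 := hm _ _ _ (by norm_num) (by norm_num) (by decide +kernel)
  have r0 : f 1 * f 2 = f 3 := hm _ _ _ (by norm_num) (by norm_num) (by decide +kernel)
  have r6 : f 3 * f 4 = f 7 := hm _ _ _ (by norm_num) (by norm_num) (by decide +kernel)
  have r7 : f 7 * f 8 = f 15 := hm _ _ _ (by norm_num) (by norm_num) (by decide +kernel)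
  have r9 : f 15 * f 16 = f 31 := hm _ _ _ (by norm_num) (by norm_num) (by decide +kernel)
  constructor <;> simp only [r0, r5, r6, r7, r9, r19, r29, v0]

theorem code_ne [Finite G] (h : Elem Q z i j k l x₁ x₂ y s θ w w') :
    i * (s * y) * i⁻¹ ≠ 1 ∧ i * j * k * l * z ≠ 1 ∧ s ≠ 1 := by
  have ht : Tw 0 z y s := tw_zero h.y_sq h.s_sq h.s_y
  have c := h.toCase9aa
  have hm : ∀ a b r, a < 1152 → b < 1152 → mm 0 a b = r →
      F z i j k l x₁ x₂ y s a * F z i j k l x₁ x₂ y s b = F z i j k l x₁ x₂ y s r :=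
    fun a b r ha hb hr => by rw [← hr, F_mul c ht ha hb]
  have h0 : F z i j k l x₁ x₂ y s 0 = 1 := F_0
  have key := aux_code (F z i j k l x₁ x₂ y s) hm h0
  obtain ⟨k1, k2⟩ := key
  rw [F_1, F_576, F_288] at k1
  rw [F_1, F_2, F_4, F_8, F_16] at k2
  refine ⟨?_, ?_, ?_⟩
  · intro e
    rw [k1] at e
    exact absurd (F_inj c (by norm_num) (by norm_num) (e.trans h0.symm)) (by norm_num)
  · intro e
    rw [k2] at e
    exact absurd (F_inj c (by norm_num) (by norm_num) (e.trans h0.symm)) (by norm_num)
  · intro e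
    have e1 : F z i j k l x₁ x₂ y s 576 = F z i j k l x₁ x₂ y s 0 := by rw [F_576, h0, e]
    exact absurd (F_inj c (by norm_num) (by norm_num) e1) (by norm_num)

theorem crel [Finite G] (h : Elem Q z i j k l x₁ x₂ y s θ w w') : CRel z i j k l y s := by
  have ht : Tw 0 z y s := tw_zero h.y_sq h.s_sq h.s_y
  have c := h.toCase9aa
  have key := crel_aux (F z i j k l x₁ x₂ y s) (fun a b r ha hb hr => by rw [← hr, F_mul c ht ha hb]) F_0
  rw [F_1, F_2, F_4, F_8, F_16, F_288, F_576] at key
  exact key

theorem kill [Finite G] (h : PresDef.Elem2 Q z i j k l x₁ x₂ y s θ w w') (M : Subgroup G)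
    (hM : M = closure {s, i * (s * y) * i⁻¹, w, i * w' * i⁻¹}) (h168 : Nat.card M = 168)
    (hn : ∀ g, g * (i * j * k * l) = i * j * k * l * g → ∀ m ∈ M, g * m * g⁻¹ ∈ M) : False := by
  have r := crel h.toElem
  obtain ⟨T, hT⟩ : ∃ T, T = i * (s * y) * i⁻¹ := ⟨_, rfl⟩
  obtain ⟨b, hb⟩ : ∃ b, b = i * w' * i⁻¹ := ⟨_, rfl⟩
  obtain ⟨u, hu⟩ : ∃ u, u = i * j * k * l * z := ⟨_, rfl⟩
  obtain ⟨t, ht⟩ : ∃ t, t = s * (i * k) := ⟨_, rfl⟩
  obtain ⟨d, hd⟩ : ∃ d, d = i * j * k * l := ⟨_, rfl⟩
  obtain ⟨r1, r2, r3, r4, r5, r6, r7, r8, r9, r10, r11, r12, r13⟩ := r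
  obtain ⟨n1, n2, n3⟩ := code_ne h.toElem
  have w3 := h.w3
  have w'3 := h.w'3
  have wd := h.w_d
  have ws := h.w_s
  have wdz := h.w_dz
  have wt := h.w_z1
  have w's := h.w'_s
  have w'dz := h.w'_dz
  have w'd := h.w'_d
  have winv := h.w_inv
  have w'inv := h.w'_inv
  have hss := h.s_sq
  have hyy := h.y_sq
  have hsy := h.s_y
  rw [← hT] at r1 r2 r4 r10 winv
  rw [← hu] at r2 r3 r4 r5 r6 r7 r11 r13 ws wdz w'dz
  rw [← ht] at r8 r9 r10 r11 r12 wt
  rw [← hd] at r6 r7 r11 r12 wd w'd hn
  rw [← hT, ← hb] at hM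
  rw [← hd] at r13 wdz
  rw [r13] at wdz
  have iT : T⁻¹ = T := inv_eq_of_mul_eq_one_right r1
  have iu : u⁻¹ = u := inv_eq_of_mul_eq_one_right r5
  have it : t⁻¹ = t := inv_eq_of_mul_eq_one_right r8
  have is : s⁻¹ = s := inv_eq_of_mul_eq_one_right hss
  have w'inv' : w'⁻¹ ^ 3 = 1 := by rw [inv_pow, w'3, inv_one]
  -- `b u b⁻¹ = u T`
  have bu : b * u * b⁻¹ = u * T := by
    have h1 : i⁻¹ * u * i = d := by rw [← r6]; group
    calc b * u * b⁻¹ = i * (w' * (i⁻¹ * u * i) * w'⁻¹) * i⁻¹ := by rw [hb]; group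
      _ = (i * d * i⁻¹) * (i * (s * y) * i⁻¹) := by rw [h1, w'd]; group
      _ = _ := by rw [r6, ← hT]
  have sb : s * b * s⁻¹ = b⁻¹ := by
    have h1 : i * (i⁻¹ * s * i * w' * (i⁻¹ * s * i)⁻¹) * i⁻¹ = i * w'⁻¹ * i⁻¹ := by rw [w'inv]
    calc s * b * s⁻¹ = i * (i⁻¹ * s * i * w' * (i⁻¹ * s * i)⁻¹) * i⁻¹ := by rw [hb]; group
      _ = _ := by rw [h1, hb]; group
  have b3 : b ^ 3 = 1 := by
    rw [hb, conj_pow, w'3]; group
  -- `a0 = i s i⁻¹ d = t u` commutes with `b`
  obtain ⟨a0, ha0⟩ : ∃ a0, a0 = i * s * i⁻¹ * d := ⟨_, rfl⟩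
  rw [← ha0] at r11
  have ba0 : b * a0 = a0 * b := by
    have h1 : b * (i * s * i⁻¹) = i * s * i⁻¹ * b := by
      rw [hb]
      calc i * w' * i⁻¹ * (i * s * i⁻¹) = i * (w' * s) * i⁻¹ := by group
        _ = _ := by rw [w's]; group
    have h2 : b * d = d * b := by
      rw [hb, ← r7]
      calc i * w' * i⁻¹ * (i * u * i⁻¹) = i * (w' * u) * i⁻¹ := by group
        _ = _ := by rw [w'dz]; group
    rw [ha0, ← mul_assoc, h1, mul_assoc, h2, ← mul_assoc]
  have hta : t = a0 * u := by rw [← r11, mul_assoc, r5, mul_one]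
  have tu : t * u = u * t := by
    have ct : Commute t w := wt.symm
    have cs : Commute t s := r9
    rw [← ws]
    exact ((ct.mul_right cs).mul_right ct.inv_right).eq
  have a0T : a0 * T = T * a0 := by
    rw [← r11, mul_assoc, ← r4, ← mul_assoc, r10, mul_assoc]
  have ub : u * b * u⁻¹ = T * b := by
    have h1 : b * u = u * T * b := by rw [← bu]; group
    have h2 : b = u * T * b * u := by rw [← h1, mul_assoc, r5, mul_one]
    calc u * b * u⁻¹ = u * (u * T * b * u) * u⁻¹ := by rw [← h2]
      _ = (u * u) * T * b := by group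
      _ = T * b := by rw [r5, one_mul]
  have tb : t * b * t⁻¹ = T * b := by
    rw [hta]
    calc a0 * u * b * (a0 * u)⁻¹ = a0 * (u * b * u⁻¹) * a0⁻¹ := by group
      _ = (a0 * T) * b * a0⁻¹ := by rw [ub]; group
      _ = T * (a0 * b) * a0⁻¹ := by rw [a0T]; group
      _ = T * b := by rw [← ba0]; group
  -- membership
  have sM : s ∈ M := by rw [hM]; exact subset_closure (by simp)
  have TM : T ∈ M := by rw [hM]; exact subset_closure (by simp)
  have wM : w ∈ M := by rw [hM]; exact subset_closure (by simp)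
  have bM : b ∈ M := by rw [hM]; exact subset_closure (by simp)
  have uM : u ∈ M := by rw [← ws]; exact mul_mem (mul_mem wM sM) (inv_mem wM)
  have hconj : ∀ m ∈ M, t * m * t⁻¹ ∈ M := hn t r12
  let α : MulAut M :=
    { toFun := fun m => ⟨t * m * t⁻¹, hconj m m.2⟩
      invFun := fun m => ⟨t * m * t⁻¹, hconj m m.2⟩
      left_inv := fun m => by
        apply Subtype.ext
        show t * (t * (m : G) * t⁻¹) * t⁻¹ = m
        calc t * (t * (m : G) * t⁻¹) * t⁻¹ = (t * t) * m * (t * t)⁻¹ := by group
          _ = m := by rw [r8]; group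
      right_inv := fun m => by
        apply Subtype.ext
        show t * (t * (m : G) * t⁻¹) * t⁻¹ = m
        calc t * (t * (m : G) * t⁻¹) * t⁻¹ = (t * t) * m * (t * t)⁻¹ := by group
          _ = m := by rw [r8]; group
      map_mul' := fun m m' => by
        apply Subtype.ext
        show t * ((m : G) * m') * t⁻¹ = t * m * t⁻¹ * (t * m' * t⁻¹)
        group }
  have hα : ∀ m : M, ((α m : M) : G) = t * m * t⁻¹ := fun m => rfl
  have hfin : Finite M := Nat.finite_of_card_ne_zero (by rw [h168]; norm_num)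
  refine Rel.false (α := α) (s := ⟨s, sM⟩) (T := ⟨T, TM⟩) (w := ⟨w, wM⟩) (b := ⟨b, bM⟩) (u := ⟨u, uM⟩) ?_ h168
  constructor
  · exact Subtype.ext hss
  · exact Subtype.ext r1
  · exact Subtype.ext r5
  · exact Subtype.ext w3
  · exact Subtype.ext b3
  · exact Subtype.ext r3
  · exact Subtype.ext r4
  · exact Subtype.ext ws
  · exact Subtype.ext wdz
  · exact Subtype.ext bu
  · exact Subtype.ext winv
  · exact Subtype.ext sb
  · intro h1
    have h2 : T = 1 := congrArg Subtype.val h1
    exact n1 (hT ▸ h2)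
  · intro h1
    have h2 : u = 1 := congrArg Subtype.val h1
    exact n2 (hu ▸ h2)
  · intro h1
    exact n3 (congrArg Subtype.val h1)
  · apply Subtype.ext
    rw [hα]
    show t * s * t⁻¹ = s
    rw [r9, mul_inv_cancel_right]
  · apply Subtype.ext
    rw [hα]
    show t * T * t⁻¹ = T
    rw [r10, mul_inv_cancel_right]
  · apply Subtype.ext
    rw [hα]
    show t * u * t⁻¹ = u
    rw [tu, mul_inv_cancel_right]
  · apply Subtype.ext
    rw [hα]
    show t * w * t⁻¹ = w
    rw [← wt, mul_inv_cancel_right]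
  · ext m
    show t * (t * (m : G) * t⁻¹) * t⁻¹ = m
    calc t * (t * (m : G) * t⁻¹) * t⁻¹ = (t * t) * m * (t * t)⁻¹ := by group
      _ = m := by rw [r8]; group
  · exact Subtype.ext tb
  · apply Subgroup.map_injective M.subtype_injective
    rw [MonoidHom.map_closure, ← MonoidHom.range_eq_map, range_subtype]
    simp only [Set.image_insert_eq, Set.image_singleton, coe_subtype]
    exact hM.symm

end conc

end Cfsg.Agent.LargeExtra.W2.LFour.Kill168
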