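import Cfsg.Agent.LargeExtra.W2.LFour.Five
import Cfsg.Agent.LargeExtra.W2.LFour.CentD
import Cfsg.Agent.LargeExtra.W2.LFour.Kill168

/-!
# S1759, `L₄(3)`: `M = ⟨s, T, w, b⟩` has order 360, `C_G(d)`, the relations (helper465)
-/

set_option autoImplicit false

namespace Cfsg.Agent.LargeExtra.W2.LFour.PEnd

open Subgroup Cfsg.Agent.CoOneType.LThree Cfsg.Agent.LargeExtra.W2.LFour.CVMain
  Cfsg.Agent.LargeExtra.W2.LFour.PresDef Cfsg.Agent.LargeExtra.W2.LFour.CVInst
  Cfsg.Agent.LargeExtra.W2.LFour.CVCent Cfsg.Agent.LargeExtra.W2.LFour.CentD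
open scoped Pointwise commutatorElement

/-- all involutions are conjugate -/
theorem conj_all {X : Type*} [Group X] [Finite X] {z s t x y : X} (h : Amalgam z s t x y)
    (hcard : Nat.card X = 168 ∨ Nat.card X = 360) {u : X} (huu : u * u = 1) (hu1 : u ≠ 1) :
    ∃ g : X, g * u * g⁻¹ = z := by
  have hp2 : Fact (Nat.Prime 2) := ⟨Nat.prime_two⟩
  have hu' : orderOf u = 2 := orderOf_eq_prime (by rw [pow_two, huu]) hu1
  have hD := h.card_D
  have hDp : IsPGroup 2 (closure ({s, t} : Set X)) := IsPGroup.of_card (n := 3) hD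
  have hidx : ¬ 2 ∣ (closure ({s, t} : Set X)).index := by
    have h1 := (closure ({s, t} : Set X)).card_mul_index
    rw [hD] at h1
    rcases hcard with h3 | h3 <;> rw [h3] at h1 <;> omega
  let S : Sylow 2 X := hDp.toSylow hidx
  have hz : IsPGroup 2 (zpowers u) := IsPGroup.of_card (n := 1) (by rw [Nat.card_zpowers, hu', pow_one])
  obtain ⟨Q, hQ⟩ := hz.exists_le_sylow
  obtain ⟨g, hg⟩ := MulAction.exists_smul_eq X Q S
  have hmem : g * u * g⁻¹ ∈ (S : Subgroup X) := by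
    rw [← hg]
    have h1 : u ∈ (Q : Subgroup X) := hQ (mem_zpowers _)
    have h2 : MulAut.conj g • u ∈ (MulAut.conj g • (Q : Subgroup X)) :=
      Subgroup.smul_mem_pointwise_smul _ _ _ h1
    exact h2
  have hmem' : g * u * g⁻¹ ∈ closure ({s, t} : Set X) := hmem
  have hne : g * u * g⁻¹ ≠ 1 := by
    intro e
    rw [conj_eq_one_iff] at e
    exact hu1 e
  have hsq : g * u * g⁻¹ * (g * u * g⁻¹) = 1 := by
    calc g * u * g⁻¹ * (g * u * g⁻¹) = g * (u * u) * g⁻¹ := by group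
      _ = 1 := by rw [huu]; group
  obtain ⟨k, hk⟩ := h.conj_of_mem hmem' hne hsq
  exact ⟨k * g, by rw [← hk]; group⟩

variable {G : Type*} [Group G] {Q : Subgroup G} {z i j k l x₁ x₂ y s θ w w' : G}

/-- the amalgam in the subgroup `M` as a type -/
theorem am_M [Finite G] (h : Elem2 Q z i j k l x₁ x₂ y s θ w w') :
    ∃ ζ σ τ x' y' : closure ({s, i * (s * y) * i⁻¹, w, i * w' * i⁻¹} : Set G),
      (ζ : G) = i * j * k * l * z ∧ Amalgam ζ σ τ x' y' ∧
      closure ({σ, τ, x', y'} : Set (closure ({s, i * (s * y) * i⁻¹, w, i * w' * i⁻¹} : Set G))) = ⊤ := by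
  have ha := amalgam h
  have hM := gen_eq h
  have hσ : i * j * k * l * z * s ∈ closure ({s, i * (s * y) * i⁻¹, w, i * w' * i⁻¹} : Set G) := by
    rw [← hM]; exact subset_closure (Or.inl rfl)
  have hτ : i * j * k * l * z * (i * (s * y) * i⁻¹) ∈
      closure ({s, i * (s * y) * i⁻¹, w, i * w' * i⁻¹} : Set G) := by
    rw [← hM]; exact subset_closure (Or.inr (Or.inl rfl))
  have hx : w⁻¹ ∈ closure ({s, i * (s * y) * i⁻¹, w, i * w' * i⁻¹} : Set G) := by
    rw [← hM]; exact subset_closure (Or.inr (Or.inr (Or.inl rfl)))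
  have hy : (i * w' * i⁻¹)⁻¹ ∈ closure ({s, i * (s * y) * i⁻¹, w, i * w' * i⁻¹} : Set G) := by
    rw [← hM]; exact subset_closure (Or.inr (Or.inr (Or.inr rfl)))
  have hz := mul_mem (mul_mem hσ hτ) (mul_mem hσ hτ)
  rw [ha.hz] at hz
  exact ⟨⟨_, hz⟩, ⟨_, hσ⟩, ⟨_, hτ⟩, ⟨_, hx⟩, ⟨_, hy⟩, rfl, am_sub ha _ hz hσ hτ hx hy,
    closure_four_top _ hM hσ hτ hx hy⟩

theorem hm [Finite G] (h : Elem2 Q z i j k l x₁ x₂ y s θ w w') :
    HM i s y w w' (y * (i * k)) (i * j * k * l * z) where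
  hv := (CVCent.main h).2.2.1
  hconj := by
    intro a ha haa ha1
    obtain ⟨ζ, σ, τ, x', y', e, hA, -⟩ := am_M h
    obtain ⟨g, hg⟩ := conj_all hA (CVCent.main h).2.2.2 (u := ⟨a, ha⟩) (Subtype.ext haa)
      (fun e => ha1 (congrArg Subtype.val e))
    exact ⟨g, g.2, by rw [← e, ← hg]; rfl⟩

theorem M_le [Finite G] (h : Elem2 Q z i j k l x₁ x₂ y s θ w w') :
    closure ({s, i * (s * y) * i⁻¹, w, i * w' * i⁻¹} : Set G) ≤ centralizer ({y * (i * k)} : Set G) := by
  obtain ⟨f, M⟩ := mod_of h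
  rw [closure_le]
  rintro g (rfl | rfl | rfl | rfl)
  · exact mem_centralizer_singleton_iff.2 (by code M)
  · exact mem_centralizer_singleton_iff.2 (by code M)
  · exact mem_centralizer_singleton_iff.2 (v_w h).symm
  · exact mem_centralizer_singleton_iff.2 (v_b h).symm

/-- commutators of elements of `C_G(v)` lie in `M` -/
theorem comm_mem [Finite G] (h : Elem2 Q z i j k l x₁ x₂ y s θ w w') {a c : G}
    (ha : a * (y * (i * k)) = y * (i * k) * a) (hc : c * (y * (i * k)) = y * (i * k) * c) :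
    a * c * a⁻¹ * c⁻¹ ∈ closure ({s, i * (s * y) * i⁻¹, w, i * w' * i⁻¹} : Set G) := by
  obtain ⟨-, -, h3, -⟩ := CVCent.main h
  obtain ⟨n, a', ha', e1⟩ := h3 a ha
  obtain ⟨m, c', hc', e2⟩ := h3 c hc
  have hle := M_le h
  have c1 : ∀ (n : ℤ) (g : G), g * (y * (i * k)) = y * (i * k) * g → (y * (i * k)) ^ n * g = g * (y * (i * k)) ^ n :=
    fun n g hg => ((show Commute (y * (i * k)) g from hg.symm).zpow_left n).eq
  have hc'v := mem_centralizer_singleton_iff.1 (hle hc')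
  have ha'v := mem_centralizer_singleton_iff.1 (hle ha')
  have e : a * c * a⁻¹ * c⁻¹ = a' * c' * a'⁻¹ * c'⁻¹ := by
    have hcv : c * (y * (i * k)) ^ n = (y * (i * k)) ^ n * c := (c1 n c hc).symm
    calc a * c * a⁻¹ * c⁻¹ = (y * (i * k)) ^ n * (a' * c * a'⁻¹) * ((y * (i * k)) ^ n)⁻¹ * c⁻¹ := by rw [e1]; group
      _ = (y * (i * k)) ^ n * ((y * (i * k)) ^ n)⁻¹ * (a' * c * a'⁻¹) * c⁻¹ := by
          have h5 : (a' * c * a'⁻¹) * (y * (i * k)) = y * (i * k) * (a' * c * a'⁻¹) :=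
            (((show Commute a' (y * (i * k)) from ha'v).mul_left hc).mul_left
              (show Commute a' (y * (i * k)) from ha'v).inv_left).eq
          have h6 := c1 (-n) _ h5
          rw [zpow_neg] at h6
          calc (y * (i * k)) ^ n * (a' * c * a'⁻¹) * ((y * (i * k)) ^ n)⁻¹ * c⁻¹
              = (y * (i * k)) ^ n * ((a' * c * a'⁻¹) * ((y * (i * k)) ^ n)⁻¹) * c⁻¹ := by group
            _ = (y * (i * k)) ^ n * ((y * (i * k)) ^ n)⁻¹ * (a' * c * a'⁻¹) * c⁻¹ := by rw [← h6]; group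
      _ = a' * ((y * (i * k)) ^ m * c') * a'⁻¹ * ((y * (i * k)) ^ m * c')⁻¹ := by rw [mul_inv_cancel, one_mul, e2]
      _ = a' * (c' * (y * (i * k)) ^ m) * a'⁻¹ * (c' * (y * (i * k)) ^ m)⁻¹ := by rw [c1 m c' hc'v]
      _ = a' * c' * ((y * (i * k)) ^ m * a'⁻¹) * ((y * (i * k)) ^ m)⁻¹ * c'⁻¹ := by group
      _ = a' * c' * a'⁻¹ * c'⁻¹ := by
          rw [c1 m a'⁻¹ (show Commute a' (y * (i * k)) from ha'v).inv_left.eq]; group
  rw [e]
  exact mul_mem (mul_mem (mul_mem ha' hc') (inv_mem ha')) (inv_mem hc')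

/-- `C_G(d)` normalises `M` -/
theorem norm_M [Finite G] (h : Elem2 Q z i j k l x₁ x₂ y s θ w w') {g : G}
    (hg : g * (i * j * k * l) = i * j * k * l * g) :
    ∀ m ∈ closure ({s, i * (s * y) * i⁻¹, w, i * w' * i⁻¹} : Set G),
      g * m * g⁻¹ ∈ closure ({s, i * (s * y) * i⁻¹, w, i * w' * i⁻¹} : Set G) := by
  have hn := norm_v h (hm h) hg
  have hcv : ∀ a, a * (y * (i * k)) = y * (i * k) * a → g * a * g⁻¹ * (y * (i * k)) = y * (i * k) * (g * a * g⁻¹) := by
    intro a ha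
    have h1 : Commute a (g⁻¹ * (y * (i * k)) * g) := by
      have h2 : g⁻¹ * (y * (i * k)) * g = y * (i * k) ∨ g⁻¹ * (y * (i * k)) * g = (y * (i * k))⁻¹ := by
        rcases hn with e | e
        · left
          calc g⁻¹ * (y * (i * k)) * g = g⁻¹ * (g * (y * (i * k)) * g⁻¹) * g := by rw [e]
            _ = y * (i * k) := by group
        · right
          have e' : g * (y * (i * k))⁻¹ * g⁻¹ = y * (i * k) := by
            calc g * (y * (i * k))⁻¹ * g⁻¹ = (g * (y * (i * k)) * g⁻¹)⁻¹ := by group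
              _ = y * (i * k) := by rw [e, inv_inv]
          calc g⁻¹ * (y * (i * k)) * g = g⁻¹ * (g * (y * (i * k))⁻¹ * g⁻¹) * g := by rw [e']
            _ = (y * (i * k))⁻¹ := by group
      rcases h2 with e | e <;> rw [e]
      · exact ha
      · exact (show Commute a (y * (i * k)) from ha).inv_right
    calc g * a * g⁻¹ * (y * (i * k)) = g * (a * (g⁻¹ * (y * (i * k)) * g)) * g⁻¹ := by group
      _ = g * ((g⁻¹ * (y * (i * k)) * g) * a) * g⁻¹ := by rw [h1.eq]
      _ = _ := by group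
  have h1 : ⁅centralizer ({y * (i * k)} : Set G), centralizer ({y * (i * k)} : Set G)⁆ ≤
      (closure ({s, i * (s * y) * i⁻¹, w, i * w' * i⁻¹} : Set G)).comap (MulAut.conj g).toMonoidHom := by
    rw [Subgroup.commutator_le]
    intro a ha c hc
    have h2 := comm_mem h (hcv a (mem_centralizer_singleton_iff.1 ha)) (hcv c (mem_centralizer_singleton_iff.1 hc))
    show g * (a * c * a⁻¹ * c⁻¹) * g⁻¹ ∈ closure ({s, i * (s * y) * i⁻¹, w, i * w' * i⁻¹} : Set G)
    convert h2 using 1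
    group
  have h2 : closure ({s, i * (s * y) * i⁻¹, w, i * w' * i⁻¹} : Set G) ≤
      ⁅centralizer ({y * (i * k)} : Set G), centralizer ({y * (i * k)} : Set G)⁆ := by
    obtain ⟨ζ, σ, τ, x', y', -, hA, htop⟩ := am_M h
    have h3 := hA.perfect htop
    have h4 : (⁅closure ({s, i * (s * y) * i⁻¹, w, i * w' * i⁻¹} : Set G),
        closure ({s, i * (s * y) * i⁻¹, w, i * w' * i⁻¹} : Set G)⁆ : Subgroup G) =
        closure ({s, i * (s * y) * i⁻¹, w, i * w' * i⁻¹} : Set G) := by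
      rw [← Subgroup.map_subtype_commutator, h3, ← MonoidHom.range_eq_map, Subgroup.range_subtype]
    conv_lhs => rw [← h4]
    exact Subgroup.commutator_mono (M_le h) (M_le h)
  intro m hm'
  exact h1 (h2 hm')

theorem card_M [Finite G] (h : Elem2 Q z i j k l x₁ x₂ y s θ w w') :
    Nat.card (closure ({s, i * (s * y) * i⁻¹, w, i * w' * i⁻¹} : Set G)) = 360 := by
  rcases (CVCent.main h).2.2.2 with h1 | h1
  · exact (Kill168.kill h _ rfl h1 (fun g hg => norm_M h hg)).elim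
  · exact h1

/-- MAIN: the relations `five`, `four` -/
theorem five_four [Finite G] (h : Elem2 Q z i j k l x₁ x₂ y s θ w w') :
    (w * (i * w' * i⁻¹)) ^ 5 = 1 ∧ (w * (i * w' * i⁻¹)⁻¹) ^ 4 = 1 := Five.five_four h (card_M h)

/-- MAIN: the centralizer of `d` -/
theorem gen [Finite G] (h : Elem2 Q z i j k l x₁ x₂ y s θ w w') :
    Subgroup.centralizer ({i * j * k * l} : Set G) ≤
      Subgroup.closure {i * j, k * l, i * k, y, s, w, i * w' * i⁻¹} := CentD.gen h (hm h)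

end Cfsg.Agent.LargeExtra.W2.LFour.PEnd
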