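import Cfsg.Agent.HN.CloseTop
import Cfsg.Agent.LargeExtra.W2.LFour.PEnd
import Cfsg.Agent.LargeExtra.W2.LFour.FusionA

/-!
# S1759, `L₄(3)`: `C_G(z), w, w'` generate `G` (helper221)
-/

set_option autoImplicit false

namespace Cfsg.Agent.LargeExtra.W2.LFour.Closing

open Subgroup Cfsg.Agent.LargeExtra.W2.LFour.PresDef Cfsg.Agent.LargeExtra.W2.LFour.CVInst
  Cfsg.Agent.SmallExtra438.FrameA Cfsg.Agent.SmallExtra438.ClassA

variable {G : Type*} [Group G] {Q : Subgroup G} {z i j k l x₁ x₂ y s θ w w' : G}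

/-- `v` is conjugate to `z` or `d` under `K` -/
def Ok (K : Subgroup G) (z d v : G) : Prop := ∃ g ∈ K, g * v * g⁻¹ = z ∨ g * v * g⁻¹ = d

theorem Ok.of_conj {K : Subgroup G} {z d v u c : G} (hc : c ∈ K) (he : c * v * c⁻¹ = u) (h : Ok K z d u) :
    Ok K z d v := by
  obtain ⟨g, hg, h1⟩ := h
  refine ⟨g * c, mul_mem hg hc, ?_⟩
  have e : g * c * v * (g * c)⁻¹ = g * u * g⁻¹ := by rw [← he]; group
  rw [e]
  exact h1

theorem Ok.of_conj' {K : Subgroup G} {z d v u c : G} (hc : c ∈ K) (he : c * u * c⁻¹ = v) (h : Ok K z d u) :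
    Ok K z d v :=
  Ok.of_conj (c := c⁻¹) (inv_mem hc) (by rw [← he]; group) h

/-- **[Z]** `⟨C_G(z), w, w'⟩ = G`. -/
theorem closure_eq_top [Finite G] [IsSimpleGroup G] (h : Elem2 Q z i j k l x₁ x₂ y s θ w w') :
    closure ({i, j, k, l, x₁, x₂, y, s, w, w'} : Set G) = ⊤ := by
  obtain ⟨f, M⟩ := mod_of h
  obtain ⟨K, hK⟩ : ∃ K, K = closure ({i, j, k, l, x₁, x₂, y, s, w, w'} : Set G) := ⟨_, rfl⟩
  have hi : i ∈ K := by rw [hK]; exact subset_closure (by simp)
  have hj : j ∈ K := by rw [hK]; exact subset_closure (by simp)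
  have hk : k ∈ K := by rw [hK]; exact subset_closure (by simp)
  have hl : l ∈ K := by rw [hK]; exact subset_closure (by simp)
  have hx₁ : x₁ ∈ K := by rw [hK]; exact subset_closure (by simp)
  have hx₂ : x₂ ∈ K := by rw [hK]; exact subset_closure (by simp)
  have hy : y ∈ K := by rw [hK]; exact subset_closure (by simp)
  have hs : s ∈ K := by rw [hK]; exact subset_closure (by simp)
  have hw : w ∈ K := by rw [hK]; exact subset_closure (by simp)
  have hw' : w' ∈ K := by rw [hK]; exact subset_closure (by simp)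
  rw [← hK]
  have hCz : ∀ g, g * z = z * g → g ∈ K := by
    intro g hg
    have h1 : g ∈ centralizer ({z} : Set G) := mem_centralizer_singleton_iff.2 hg
    rw [h.cent] at h1
    refine (closure_le K).2 ?_ h1
    rintro g (rfl | rfl | rfl | rfl | rfl | rfl | rfl | rfl) <;> assumption
  have hCd : ∀ g, g * (i * j * k * l) = i * j * k * l * g → g ∈ K := by
    intro g hg
    have h1 := PEnd.gen h (mem_centralizer_singleton_iff.2 hg)
    refine (closure_le K).2 ?_ h1
    rintro g (rfl | rfl | rfl | rfl | rfl | rfl | rfl)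
    · exact mul_mem hi hj
    · exact mul_mem hk hl
    · exact mul_mem hi hk
    · exact hy
    · exact hs
    · exact hw
    · exact mul_mem (mul_mem hi hw') (inv_mem hi)
  have hzz := h.large.z_sq
  have hz1 := h.large.z_ne
  have hdd : i * j * k * l * (i * j * k * l) = 1 := by code M
  have hd1 : i * j * k * l ≠ 1 := by
    intro e
    have h1 : F z i j k l x₁ x₂ y s 15 = F z i j k l x₁ x₂ y s 0 := by rw [F_15, F_0, e]
    have := F_inj h.toCase9aa (by norm_num) (by norm_num) h1
    omega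
  have hdz1 : i * j * k * l * z ≠ 1 := by
    intro e
    have h1 : F z i j k l x₁ x₂ y s 15 = F z i j k l x₁ x₂ y s 16 := by
      rw [F_15, F_16]
      have e2 : i * j * k * l = i * j * k * l * z * z := by rw [mul_assoc (i * j * k * l), hzz, mul_one]
      rw [e2, e, one_mul]
    have := F_inj h.toCase9aa (by norm_num) (by norm_num) h1
    omega
  have hdz : i * j * k * l ≠ z := by
    intro e
    have h1 : F z i j k l x₁ x₂ y s 15 = F z i j k l x₁ x₂ y s 16 := by rw [F_15, F_16, e]
    have := F_inj h.toCase9aa (by norm_num) (by norm_num) h1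
    omega
  have hdzz : i * j * k * l * z ≠ z := fun e => hd1 (mul_eq_right.1 e)
  have hzQ : z ∈ Q := by
    have := (mem_Q_iff h.toCase9aa (m := 16) (by norm_num)).2 (by norm_num)
    rwa [F_16] at this
  have hdQ : i * j * k * l ∈ Q := by
    have := (mem_Q_iff h.toCase9aa (m := 15) (by norm_num)).2 (by norm_num)
    rwa [F_15] at this
  have ht : Tw 0 z y s := tw_zero h.y_sq h.s_sq h.s_y
  have okz : Ok K z (i * j * k * l) z := ⟨1, one_mem _, Or.inl (by group)⟩
  have okd : Ok K z (i * j * k * l) (i * j * k * l) := ⟨1, one_mem _, Or.inr (by group)⟩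
  have okik : Ok K z (i * j * k * l) (i * k) := by
    obtain ⟨c, hc, hc2⟩ := exists_conj_ik h.toCase9aa hdQ hdd hd1 hdz
    exact Ok.of_conj' (hCz c hc) hc2 okd
  have okdz : Ok K z (i * j * k * l) (i * j * k * l * z) := by
    obtain ⟨c, hc, hc2⟩ := exists_conj_ik h.toCase9aa (mul_mem hdQ hzQ) (by code M) hdz1 hdzz
    exact Ok.of_conj (hCz c hc) hc2 okik
  have oks : Ok K z (i * j * k * l) s := Ok.of_conj hw h.w_s okdz
  have oksy : Ok K z (i * j * k * l) (s * y) := Ok.of_conj hw' h.w'_sy okd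
  have e1 : w * z * w⁻¹ = z * s := by
    calc w * z * w⁻¹ = w * (i * j * k * l * (i * j * k * l * z)) * w⁻¹ := by
          rw [← mul_assoc (i * j * k * l), hdd, one_mul]
      _ = (w * (i * j * k * l)) * (i * j * k * l * z) * w⁻¹ := by group
      _ = i * j * k * l * (w * (i * j * k * l * z) * w⁻¹) := by rw [h.w_d]; group
      _ = i * j * k * l * (i * j * k * l * s * z) := by rw [h.w_dz]
      _ = z * s := by code M
  have e2 : w' * z * w'⁻¹ = z * (y * s) := by
    calc w' * z * w'⁻¹ = w' * (i * j * k * l * (i * j * k * l * z)) * w'⁻¹ := by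
          rw [← mul_assoc (i * j * k * l), hdd, one_mul]
      _ = (w' * (i * j * k * l) * w'⁻¹) * (w' * (i * j * k * l * z)) * w'⁻¹ := by group
      _ = (i * j * k * l * s * y) * (i * j * k * l * z) := by rw [h.w'_d, h.w'_dz]; group
      _ = z * (y * s) := by code M
  have oksz : Ok K z (i * j * k * l) (z * s) := Ok.of_conj' hw e1 okz
  have okzys : Ok K z (i * j * k * l) (z * (y * s)) := Ok.of_conj' hw' e2 okz
  have e3 : w * (z * (y * s)) * w⁻¹ = y * z := by
    calc w * (z * (y * s)) * w⁻¹ = (w * z * w⁻¹) * (w * (s * y)) * w⁻¹ := by rw [h.s_y]; group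
      _ = z * s * (s * y) := by rw [e1, h.w_sy]; group
      _ = y * z := by code M
  have okyz : Ok K z (i * j * k * l) (y * z) := Ok.of_conj' hw e3 okzys
  have oky : Ok K z (i * j * k * l) y :=
    Ok.of_conj (c := i * j) (mul_mem hi hj) (by code M) okyz
  refine Cfsg.Agent.HN.CloseTop.eq_top K (t := z) (w := i * j * k * l)
    (orderOf_eq_prime (by rw [pow_two, hzz]) hz1) (orderOf_eq_prime (by rw [pow_two, hdd]) hd1)
    hCz hCd h.nc ?_
  intro v hv hvz
  have hvv : v * v = 1 := by rw [← pow_two, ← hv, pow_orderOf_eq_one]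
  have hv1 : v ≠ 1 := by
    rintro rfl
    rw [orderOf_one] at hv
    exact absurd hv (by norm_num)
  obtain ⟨r, hr, c, hc, hcr⟩ := class0 h.toCase9aa ht hvz hvv hv1
  refine Ok.of_conj (hCz c hc) hcr ?_
  simp only [List.mem_cons, List.not_mem_nil, or_false] at hr
  rcases hr with rfl | rfl | rfl | rfl | rfl | rfl | rfl
  · rw [F_16]; exact okz
  · rw [F_5]; exact okik
  · rw [F_288]; exact oky
  · rw [F_576]; exact oks
  · rw [Fusion.F_592]; exact oksz
  · rw [Fusion.F_864, ← h.s_y]; exact oksy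
  · rw [Fusion.F_880]; exact okzys

end Cfsg.Agent.LargeExtra.W2.LFour.Closing
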