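import Cfsg.Agent.S0243
import Cfsg.Agent.S0249
import Cfsg.Agent.LieClassical.SLGen
import Cfsg.Agent.LieClassical.FieldTransfer

/-!
# Facts on `PSL(4, 3)` (helper926)
-/

set_option autoImplicit false

namespace Cfsg.Agent.LargeExtra.W2.LFour.PslFacts

open Matrix Cfsg.Agent.LieClassical
open scoped commutatorElement

instance : Fact (Nat.Prime 3) := ⟨Nat.prime_three⟩

theorem card_psl : Nat.card (Matrix.ProjectiveSpecialLinearGroup (Fin 4) (ZMod 3)) = 6065280 := by
  have h := Cfsg.Agent.S0243.result (F := ZMod 3) (q := 3) (ZMod.card 3) 4 (by norm_num)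
  have h1 : Nat.gcd 4 (3 - 1) = 2 := by decide
  have h2 : ∏ i : Fin 4, (3 ^ 4 - 3 ^ (i : ℕ)) = 24261120 := by decide
  rw [h1, h2] at h
  omega

theorem simple_psl : IsSimpleGroup (Matrix.ProjectiveSpecialLinearGroup (Fin 4) (ZMod 3)) :=
  Cfsg.Agent.S0249.result 4 (by norm_num)

theorem psl_congr (F : Type*) [Field F] [Fintype F] (hF : Fintype.card F = 3) :
    Nonempty (Matrix.ProjectiveSpecialLinearGroup (Fin 4) (ZMod 3) ≃* Matrix.ProjectiveSpecialLinearGroup (Fin 4) F) :=
  ⟨LieClassical.FieldTransfer.pslCongr (FiniteField.ringEquivOfCardEq (K := ZMod 3) (K' := F)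
    (by rw [hF, ZMod.card]))⟩

/-- the transvection `1 + t e_ij` -/
def tr (i j : Fin 4) (h : i ≠ j) (t : ZMod 3) : SpecialLinearGroup (Fin 4) (ZMod 3) :=
  SpecialLinearGroup.transvection h t

theorem tr_pow : ∀ (i j : Fin 4) (h : i ≠ j) (t : ZMod 3), tr i j h t = (tr i j h 1) ^ t.val := by
  decide +kernel

/-- A subgroup containing the six transvections `1 + e_ij`, `|i - j| = 1`, is everything. -/
theorem eq_top_of_adj (K : Subgroup (SpecialLinearGroup (Fin 4) (ZMod 3)))
    (h01 : tr 0 1 (by decide) 1 ∈ K) (h10 : tr 1 0 (by decide) 1 ∈ K)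
    (h12 : tr 1 2 (by decide) 1 ∈ K) (h21 : tr 2 1 (by decide) 1 ∈ K)
    (h23 : tr 2 3 (by decide) 1 ∈ K) (h32 : tr 3 2 (by decide) 1 ∈ K) : K = ⊤ := by
  have all : ∀ {i j : Fin 4} (h : i ≠ j), tr i j h 1 ∈ K → ∀ t, tr i j h t ∈ K := by
    intro i j h h1 t
    rw [tr_pow i j h t]; exact pow_mem h1 _
  have step : ∀ {i j k : Fin 4} (hij : i ≠ j) (hjk : j ≠ k) (hik : i ≠ k), tr i j hij 1 ∈ K → tr j k hjk 1 ∈ K →
      tr i k hik 1 ∈ K := by
    intro i j k hij hjk hik h1 h2
    have h3 := SLGen.commutator_transvection (F := ZMod 3) hik hij hjk 1 1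
    rw [mul_one] at h3
    have h4 : tr i k hik 1 = ⁅tr i j hij 1, tr j k hjk 1⁆ := h3.symm
    rw [h4, commutatorElement_def]
    exact mul_mem (mul_mem (mul_mem h1 h2) (inv_mem h1)) (inv_mem h2)
  have h02 := step (by decide) (by decide) (by decide : (0 : Fin 4) ≠ 2) h01 h12
  have h20 := step (by decide) (by decide) (by decide : (2 : Fin 4) ≠ 0) h21 h10
  have h13 := step (by decide) (by decide) (by decide : (1 : Fin 4) ≠ 3) h12 h23
  have h31 := step (by decide) (by decide) (by decide : (3 : Fin 4) ≠ 1) h32 h21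
  have h03 := step (by decide) (by decide) (by decide : (0 : Fin 4) ≠ 3) h02 h23
  have h30 := step (by decide) (by decide) (by decide : (3 : Fin 4) ≠ 0) h32 h20
  rw [eq_top_iff, ← SLGen.closure_transvections, Subgroup.closure_le]
  rintro _ ⟨i, j, h, t, rfl⟩
  show tr i j h t ∈ K
  fin_cases i <;> fin_cases j
  all_goals first
    | exact absurd rfl h
    | exact all _ (by assumption) t

end Cfsg.Agent.LargeExtra.W2.LFour.PslFacts
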