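import Cfsg.Agent.LargeExtra.W2.LFour.EnumSat
import Cfsg.Agent.LargeExtra.W2.LFour.PslFacts

/-!
# The model `PSL(4, 3)` of the presentation of `L₄(3)` (helper842)
-/

set_option autoImplicit false

namespace Cfsg.Agent.LargeExtra.W2.LFour.EnumModel

open Matrix Cfsg.Agent.SporadicRecognition.CosetCert Cfsg.Agent.LargeExtra.W2.LFour.EnumSat
  Cfsg.Agent.LargeExtra.W2.LFour.PslFacts

/-- `SL(4, 3)` -/
abbrev SL43 := Matrix.SpecialLinearGroup (Fin 4) (ZMod 3)

/-- matrices -/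
abbrev MM := Matrix (Fin 4) (Fin 4) (ZMod 3)

def mZ : SL43 := ⟨!![1, 0, 0, 0; 0, 1, 0, 0; 0, 0, 2, 0; 0, 0, 0, 2], by decide +kernel⟩
def mY : SL43 := ⟨!![1, 2, 0, 0; 0, 2, 0, 0; 0, 0, 1, 2; 0, 0, 0, 2], by decide +kernel⟩
def mS : SL43 := ⟨!![0, 0, 1, 0; 0, 0, 0, 1; 2, 0, 0, 0; 0, 2, 0, 0], by decide +kernel⟩
def mI : SL43 := ⟨!![0, 1, 0, 0; 2, 0, 0, 0; 0, 0, 2, 0; 0, 0, 0, 2], by decide +kernel⟩
def mJ : SL43 := ⟨!![1, 1, 0, 0; 1, 2, 0, 0; 0, 0, 1, 0; 0, 0, 0, 1], by decide +kernel⟩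
def mK : SL43 := ⟨!![1, 0, 0, 0; 0, 1, 0, 0; 0, 0, 0, 2; 0, 0, 1, 0], by decide +kernel⟩
def mL : SL43 := ⟨!![1, 0, 0, 0; 0, 1, 0, 0; 0, 0, 1, 1; 0, 0, 1, 2], by decide +kernel⟩
def mA : SL43 := ⟨!![1, 1, 0, 0; 0, 1, 0, 0; 0, 0, 1, 0; 0, 0, 0, 1], by decide +kernel⟩
def mB : SL43 := ⟨!![1, 0, 0, 0; 0, 1, 0, 0; 0, 0, 1, 1; 0, 0, 0, 1], by decide +kernel⟩
def mW : SL43 := ⟨!![1, 1, 0, 2; 1, 0, 2, 1; 2, 2, 0, 2; 2, 0, 2, 1], by decide +kernel⟩
def mV : SL43 := ⟨!![1, 1, 0, 2; 1, 0, 1, 0; 0, 1, 1, 1; 2, 0, 1, 0], by decide +kernel⟩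

/-- vectors as codes `< 81` -/
def vec (c : ℕ) : Fin 4 → ZMod 3 :=
  ![((c % 3 : ℕ) : ZMod 3), ((c / 3 % 3 : ℕ) : ZMod 3), ((c / 9 % 3 : ℕ) : ZMod 3), ((c / 27 % 3 : ℕ) : ZMod 3)]

/-- action of the letters on codes -/
def tab : ℕ → ℕ
  | 0 => 0x2c56a94a84e992a46ad19b262c17ae5a8d121407cf1d386e3c68b121c28301fd09f3a6cc972a4c87cf5e3b74e5c376c4480f1c3460b1424d19305cb15284c9080e182840608080
  | 1 => 0x1e407d1214674e1b60c98b466d57ae5a9d4a856a96264a92144871a2c78301fb976e9ebc7ce1bb6973664f9d425499054b963260d14264860e1a4079116284830a103861008080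
  | 2 => 0x2c6a8e3d07c44d0856d11469ef48190ea99a18b39e0f30194b241126bb1c5c2a8627e1cc7434b044ec0f4296e4615069979d8329c0b28092ae39024b7144c0a45a6dfc86c24900
  | 3 => 0x29589942b4a9d52464d57b168b98335a8119d3e88e1e426e247830e3408515fcda12a64f932e74876f9c3a7addcbc6c3888b1a4050c1e24b9a2858c932a609051008207020c300
  | 4 => 0x2b50956294ca93a468c573564bd9b05a88f9c4680ea13c6e343811e2418b09fcf992684d953a5c87ae9bbe76e1e396c4068a223858f1824c962668b94305490708044050418180
  | 5 => 0x499d365ca9f426488116242831a3c37edde3b72e1ebe74d973364c17b46ac56a554a53a656b1424388501e3a8919f364cc172a50c9a2c4850f1c3059022344810c141820e20200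
  | 6 => 0x4a973e7499b32848830a34581121c77ee1cbd78dddba7cd97b068cd73262d56a64ead52552a16243a791213880fa33650a99304cb96344858c203c50e1a44482061c3010a10400
  | 7 => 0x478d16243850603f58ad529509d325484480f1c3460b142684f9d3664b952643568cd93160bd72d3464c172c54a1324f9ebc76e9cb86ed91a24280f9e3a70d880e182840608080
  | 8 => 0x3568cd93160bd72da13e74d992e5499068c982e58a94264962b54a54274c952478d16243850603f224078e1a3058a128d121407cf1d386df3d78edd3970ddb080e182840608080
  | 9 => 0x11203c70d182c5097cf5e3b74e5c376cd5a3364c582f5cb51a24280f9e3a70d9a3260b962a509928f1a2c4870a0c07f427ce9b325ca932162b54a54274c952080e182840608080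
  | 10 => 0x1a3260b962a5099246890a03e78e9c371e345890e14180fdf3d78edd3970ddb11203c70d182c5096ad19b262c17ae5ab15aa52a13a64a9284f9d3664b95264080e182840608080
  | 11 => 0x4f9d425cd992a4c88d163c2890e0c07ef5e3e72edd386ed9a336ac19315eb96ab54b13a950992a4448519e407ce9c3664c1a2a5cb14264880f223070d16284870c201850808080
  | 12 => 0x4ea13e64b9b2a4c88b1e34385120c07ef1f3d74e5db86ed99b568c58325eb96aa58ad42752992a4428d11f3c80e9c3660d192c54b942648791203460e1628486101c2030a08080
  | 13 => 0x478d16243850603f7cf5e3b74e5c376d427ce9b325ca93211a24280f9e3a70db568cd93160bd72d58ad529509d3254868c982e58a9426488901e3868c16284880e182840608080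
  | 14 => 0x3e7af1dba72e1bb6a13e74d992e549911e345890e14180fd62b54a54274c95223448501f3c74e1b6ad19b262c17ae5a68c982e58a9426488901e3868c16284880e182840608080
  | 15 => 0x2386495cb04cdd8a7041840308240850152ce1ab5f153b1862f7a5ce45089282a9a05aba128a1147e68fca0e9db8f65243296c458c13278b1b8e0d34f1cb9e34722d0c426b2600
  | 16 => 0x2d18f15819880d411ed98049e94a4446e598992a03c73a5d488946cac56829d029ab0c3f3c35eaea0982c24249bb120889c36445c240738b46382ddb50d213c03e65f2f1d2d500
  | 17 => 0x538f0b2da03134694658401ea5b083eb218944e41339a4caaf9e392c5086df3f22a1c073d24c3242ec0b598495c216352470675e975d39b864120d3182413b49651544148dd00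
  | 18 => 0x4b6649b9f0f1d30e31218047a705c458b4ace4405d2923050087090645684e63e3a1612a132589904ed18f7e9cb4f5c363252935a866c7958a86c8d4a360de40504282f2ee5080
  | _ => 0

/-- action of the letters on codes -/
def act (x c : ℕ) : ℕ := Nat.land (Nat.shiftRight (tab x) (Nat.mul 7 c)) 127

/-- the letters of the long alphabet in `SL(4, 3)` -/
def g19 : ℕ → SL43 := lt19 mZ mY mS mI mJ mK mL mA mB mW mV

theorem act_lt : ∀ x < 19, ∀ c < 81, act x c < 81 := by decide +kernel

theorem act_pos : ∀ x ∈ [0, 1, 2, 3, 5, 7, 9, 11, 13, 15, 17], ∀ c < 81,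
    (g19 x : MM) *ᵥ vec c = vec (act x c) := by decide +kernel

theorem act_neg : ∀ x ∈ [3, 5, 7, 9, 11, 13, 15, 17], ∀ c < 81, act x (act (x + 1) c) = c := by decide +kernel

theorem act_inv (x : ℕ) (hx : x ∈ [3, 5, 7, 9, 11, 13, 15, 17]) (hg : g19 (x + 1) = (g19 x)⁻¹) (c : ℕ) (hc : c < 81) :
    (g19 (x + 1) : MM) *ᵥ vec c = vec (act (x + 1) c) := by
  have h19 : x + 1 < 19 := by
    simp only [List.mem_cons, List.not_mem_nil, or_false] at hx
    omega
  have hx' : x ∈ [0, 1, 2, 3, 5, 7, 9, 11, 13, 15, 17] := by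
    simp only [List.mem_cons, List.not_mem_nil, or_false] at hx ⊢
    omega
  have h1 := act_pos x hx' (act (x + 1) c) (act_lt (x + 1) h19 c hc)
  rw [act_neg x hx c hc] at h1
  rw [← h1, mulVec_mulVec, hg, ← Matrix.SpecialLinearGroup.coe_mul, inv_mul_cancel, Matrix.SpecialLinearGroup.coe_one, one_mulVec]

theorem act_all (x : ℕ) (hx : x < 19) (c : ℕ) (hc : c < 81) : (g19 x : MM) *ᵥ vec c = vec (act x c) := by
  have hp : x ∈ [0, 1, 2, 3, 5, 7, 9, 11, 13, 15, 17] ∨ ∃ y ∈ [3, 5, 7, 9, 11, 13, 15, 17], x = y + 1 := by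
    interval_cases x <;> decide
  rcases hp with hp | ⟨y, hy, rfl⟩
  · exact act_pos x hp c hc
  · refine act_inv y hy ?_ c hc
    simp only [List.mem_cons, List.not_mem_nil, or_false] at hy
    rcases hy with rfl | rfl | rfl | rfl | rfl | rfl | rfl | rfl <;> rfl

/-- action of a word on a code -/
def run (w : List ℕ) (c : ℕ) : ℕ := w.foldr act c

theorem run_lt (w : List ℕ) (hw : ∀ x ∈ w, x < 19) (c : ℕ) (hc : c < 81) : run w c < 81 := by
  induction w with
  | nil => exact hc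
  | cons x w ih => exact act_lt x (hw x (by simp)) _ (ih (fun y hy => hw y (by simp [hy])))

theorem ev_run (w : List ℕ) (hw : ∀ x ∈ w, x < 19) (c : ℕ) (hc : c < 81) :
    ((ev g19 w : SL43) : MM) *ᵥ vec c = vec (run w c) := by
  induction w with
  | nil => rw [ev_nil]; simp [run]
  | cons x w ih =>
    have hw' : ∀ y ∈ w, y < 19 := fun y hy => hw y (by simp [hy])
    rw [ev_cons, Matrix.SpecialLinearGroup.coe_mul, ← mulVec_mulVec, ih hw', act_all x (hw x (by simp)) _ (run_lt w hw' c hc)]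
    rfl

/-- negation of codes -/
def ng (c : ℕ) : ℕ := Nat.add (Nat.add ((3 - c % 3) % 3) (3 * ((3 - c / 3 % 3) % 3)))
  (Nat.add (9 * ((3 - c / 9 % 3) % 3)) (27 * ((3 - c / 27 % 3) % 3)))

theorem vec_ng : ∀ c < 81, vec (ng c) = - vec c := by decide +kernel

theorem ext_basis {A B : Matrix (Fin 4) (Fin 4) (ZMod 3)} (h1 : A *ᵥ vec 1 = B *ᵥ vec 1)
    (h2 : A *ᵥ vec 3 = B *ᵥ vec 3) (h3 : A *ᵥ vec 9 = B *ᵥ vec 9) (h4 : A *ᵥ vec 27 = B *ᵥ vec 27) : A = B := by
  have e1 : vec 1 = Pi.single 0 1 := by decide +kernel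
  have e2 : vec 3 = Pi.single 1 1 := by decide +kernel
  have e3 : vec 9 = Pi.single 2 1 := by decide +kernel
  have e4 : vec 27 = Pi.single 3 1 := by decide +kernel
  rw [e1, mulVec_single_one, mulVec_single_one] at h1
  rw [e2, mulVec_single_one, mulVec_single_one] at h2
  rw [e3, mulVec_single_one, mulVec_single_one] at h3
  rw [e4, mulVec_single_one, mulVec_single_one] at h4
  ext i j
  fin_cases j
  · exact congrFun h1 i
  · exact congrFun h2 i
  · exact congrFun h3 i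
  · exact congrFun h4 i

/-- check of an equation up to sign -/
def chk (p : List ℕ × List ℕ) : Bool :=
  (p.1.all fun x => Nat.blt x 19) && (p.2.all fun x => Nat.blt x 19) &&
  ((Nat.beq (run p.1 1) (run p.2 1) && Nat.beq (run p.1 3) (run p.2 3) && Nat.beq (run p.1 9) (run p.2 9) &&
    Nat.beq (run p.1 27) (run p.2 27)) ||
  (Nat.beq (run p.1 1) (ng (run p.2 1)) && Nat.beq (run p.1 3) (ng (run p.2 3)) &&
    Nat.beq (run p.1 9) (ng (run p.2 9)) && Nat.beq (run p.1 27) (ng (run p.2 27))))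

/-- `PSL(4, 3)` -/
abbrev PSL43 := ProjectiveSpecialLinearGroup (Fin 4) (ZMod 3)

/-- the projection -/
def mk : SL43 →* PSL43 := QuotientGroup.mk' (Subgroup.center SL43)

theorem mk_surjective : Function.Surjective mk := QuotientGroup.mk'_surjective _

theorem mk_eq_of_neg {A B : SL43} (h : (A : MM) = - (B : MM)) : mk A = mk B := by
  have hc : B⁻¹ * A ∈ Subgroup.center SL43 := by
    rw [Matrix.SpecialLinearGroup.mem_center_iff]
    refine ⟨-1, by decide, ?_⟩
    rw [Matrix.SpecialLinearGroup.coe_mul, h, Matrix.mul_neg, ← Matrix.SpecialLinearGroup.coe_mul, inv_mul_cancel,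
      Matrix.SpecialLinearGroup.coe_one]
    ext i j
    by_cases hij : i = j
    · subst hij; simp
    · simp [hij]
  exact (QuotientGroup.eq.2 hc).symm

theorem all_lt' {k : ℕ} {w : List ℕ} (h : (w.all fun y => Nat.blt y k) = true) : ∀ y ∈ w, y < k := by
  intro y hy
  have := List.all_eq_true.mp h y hy
  exact Nat.le_of_ble_eq_true this

theorem chk_sound {p : List ℕ × List ℕ} (h : chk p = true) : mk (ev g19 p.1) = mk (ev g19 p.2) := by
  unfold chk at h
  rw [Bool.and_eq_true, Bool.and_eq_true] at h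
  obtain ⟨⟨h1, h2⟩, h3⟩ := h
  have h1 := all_lt' h1
  have h2 := all_lt' h2
  rw [Bool.or_eq_true] at h3
  rcases h3 with h3 | h3
  · simp only [Bool.and_eq_true] at h3
    obtain ⟨⟨⟨a1, a2⟩, a3⟩, a4⟩ := h3
    congr 1
    apply Subtype.ext
    apply ext_basis
    · rw [ev_run _ h1 1 (by norm_num), ev_run _ h2 1 (by norm_num), Nat.eq_of_beq_eq_true a1]
    · rw [ev_run _ h1 3 (by norm_num), ev_run _ h2 3 (by norm_num), Nat.eq_of_beq_eq_true a2]
    · rw [ev_run _ h1 9 (by norm_num), ev_run _ h2 9 (by norm_num), Nat.eq_of_beq_eq_true a3]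
    · rw [ev_run _ h1 27 (by norm_num), ev_run _ h2 27 (by norm_num), Nat.eq_of_beq_eq_true a4]
  · simp only [Bool.and_eq_true] at h3
    obtain ⟨⟨⟨a1, a2⟩, a3⟩, a4⟩ := h3
    apply mk_eq_of_neg
    apply ext_basis
    · rw [neg_mulVec, ev_run _ h1 1 (by norm_num), ev_run _ h2 1 (by norm_num), Nat.eq_of_beq_eq_true a1,
        vec_ng _ (run_lt _ h2 1 (by norm_num))]
    · rw [neg_mulVec, ev_run _ h1 3 (by norm_num), ev_run _ h2 3 (by norm_num), Nat.eq_of_beq_eq_true a2,
        vec_ng _ (run_lt _ h2 3 (by norm_num))]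
    · rw [neg_mulVec, ev_run _ h1 9 (by norm_num), ev_run _ h2 9 (by norm_num), Nat.eq_of_beq_eq_true a3,
        vec_ng _ (run_lt _ h2 9 (by norm_num))]
    · rw [neg_mulVec, ev_run _ h1 27 (by norm_num), ev_run _ h2 27 (by norm_num), Nat.eq_of_beq_eq_true a4,
        vec_ng _ (run_lt _ h2 27 (by norm_num))]

theorem chk_all : ((eqC ++ eqW).all chk) = true := by decide +kernel

theorem map_lt19 {G H : Type*} [Group G] [Group H] (f : G →* H) (z y s i j k l a b w v : G) (n : ℕ) :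
    lt19 (f z) (f y) (f s) (f i) (f j) (f k) (f l) (f a) (f b) (f w) (f v) n =
      f (lt19 z y s i j k l a b w v n) := by
  unfold lt19
  split <;> simp

theorem map_ev {G H : Type*} [Group G] [Group H] (f : G →* H) (z y s i j k l a b w v : G) (r : List ℕ) :
    ev (lt19 (f z) (f y) (f s) (f i) (f j) (f k) (f l) (f a) (f b) (f w) (f v)) r =
      f (ev (lt19 z y s i j k l a b w v) r) := by
  induction r with
  | nil => simp [ev_nil]
  | cons x r ih => rw [ev_cons, ev_cons, map_mul, ih, map_lt19]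

theorem sat : Sat (mk mZ) (mk mY) (mk mS) (mk mI) (mk mJ) (mk mK) (mk mL) (mk mA) (mk mB) (mk mW) (mk mV) where
  zz := by
    have h := chk_sound (p := ([0, 0], [])) (by decide +kernel)
    rw [ev_cons, ev_cons, ev_nil, mul_one, map_mul, map_one] at h
    exact h
  yy := by
    have h := chk_sound (p := ([1, 1], [])) (by decide +kernel)
    rw [ev_cons, ev_cons, ev_nil, mul_one, map_mul, map_one] at h
    exact h
  ss := by
    have h := chk_sound (p := ([2, 2], [])) (by decide +kernel)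
    rw [ev_cons, ev_cons, ev_nil, mul_one, map_mul, map_one] at h
    exact h
  C := by
    intro p hp
    rw [map_ev, map_ev]
    exact chk_sound (List.all_eq_true.1 chk_all p (List.mem_append_left _ hp))
  W := by
    intro p hp
    rw [map_ev, map_ev]
    exact chk_sound (List.all_eq_true.1 chk_all p (List.mem_append_right _ hp))

/-- the letters generate `PSL(4, 3)` -/
theorem closure_eq_top :
    Subgroup.closure (lt13 (mk mZ) (mk mY) (mk mS) (mk mI) (mk mJ) (mk mA) (mk mW) (mk mV) '' {n | n < 13}) = ⊤ := by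
  set K := Subgroup.closure (lt13 (mk mZ) (mk mY) (mk mS) (mk mI) (mk mJ) (mk mA) (mk mW) (mk mV) '' {n | n < 13})
    with hK
  have hm : ∀ n, n < 13 → lt13 (mk mZ) (mk mY) (mk mS) (mk mI) (mk mJ) (mk mA) (mk mW) (mk mV) n ∈ K :=
    fun n hn => Subgroup.subset_closure ⟨n, hn, rfl⟩
  have hZ : mk mZ ∈ K := hm 0 (by norm_num)
  have hY : mk mY ∈ K := hm 1 (by norm_num)
  have hS : mk mS ∈ K := hm 2 (by norm_num)
  have hI : mk mI ∈ K := hm 3 (by norm_num)
  have hA : mk mA ∈ K := hm 7 (by norm_num)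
  have hW : mk mW ∈ K := hm 9 (by norm_num)
  have hV : mk mV ∈ K := hm 11 (by norm_num)
  have key : ∀ (T : SL43) (g : SL43), mk g ∈ K → T * g = g * mA ∨ T * g = g * mA⁻¹ → T ∈ K.comap mk := by
    intro T g hg h
    rw [Subgroup.mem_comap]
    rcases h with h | h
    · have : T = g * mA * g⁻¹ := by rw [← h]; group
      rw [this, map_mul, map_mul, map_inv]
      exact mul_mem (mul_mem hg hA) (inv_mem hg)
    · have : T = g * mA⁻¹ * g⁻¹ := by rw [← h]; group
      rw [this, map_mul, map_mul, map_inv, map_inv]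
      exact mul_mem (mul_mem hg (inv_mem hA)) (inv_mem hg)
  have htop : K.comap mk = ⊤ := by
    apply eq_top_of_adj
    · exact key _ 1 (by rw [map_one]; exact one_mem _) (Or.inl (by decide +kernel))
    · exact key _ (mI * mY) (by rw [map_mul]; exact mul_mem hI hY) (Or.inl (by decide +kernel))
    · exact key _ (mW * mZ * mV⁻¹ * mI)
        (by rw [map_mul, map_mul, map_mul, map_inv]; exact mul_mem (mul_mem (mul_mem hW hZ) (inv_mem hV)) hI)
        (Or.inl (by decide +kernel))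
    · exact key _ (mV * mW * mS) (by rw [map_mul, map_mul]; exact mul_mem (mul_mem hV hW) hS)
        (Or.inl (by decide +kernel))
    · exact key _ mS hS (Or.inl (by decide +kernel))
    · exact key _ (mS * mI * mY) (by rw [map_mul, map_mul]; exact mul_mem (mul_mem hS hI) hY)
        (Or.inl (by decide +kernel))
  rw [eq_top_iff]
  intro x _
  obtain ⟨y, rfl⟩ := mk_surjective x
  have : y ∈ K.comap mk := by rw [htop]; trivial
  exact this

end Cfsg.Agent.LargeExtra.W2.LFour.EnumModel
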