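import Cfsg.Agent.SporadicRecognition.CosetCertHyp

/-!
# Words, equations and relators (helper842)

From equations `ev g u = ev g v` between words in a long alphabet to the reduced relators of a coset enumeration
certificate in a short alphabet.
-/

set_option autoImplicit false

namespace Cfsg.Agent.LargeExtra.W2.LFour.EnumWords

open Cfsg.Agent.SporadicRecognition.CosetCert Cfsg.Agent.SporadicRecognition.CosetCertHyp

/-- free reduction -/
def red (li : ℕ → ℕ) : List ℕ → List ℕ
  | [] => []
  | x :: w => match red li w with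
    | [] => [x]
    | a :: w' => bif Nat.beq a (li x) then w' else x :: a :: w'

/-- cyclic reduction -/
def cyc (li : ℕ → ℕ) : ℕ → List ℕ → List ℕ
  | 0, w => w
  | _ + 1, [] => []
  | n + 1, x :: w => bif w.getLast? == some (li x) then cyc li n w.dropLast else x :: w

/-- the reduced relator of an equation, letters replaced by the words `sub` -/
def relOf (li : ℕ → ℕ) (sub : ℕ → List ℕ) (p : List ℕ × List ℕ) : List ℕ :=
  cyc li 60 (red li (p.1.flatMap sub ++ ((p.2.flatMap sub).map li).reverse))

variable {G : Type*} [Group G] {g : ℕ → G} {li : ℕ → ℕ} {k : ℕ}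

theorem red_lt (hli : ∀ x, x < k → li x < k ∧ g x * g (li x) = 1) {w : List ℕ} (hw : ∀ x ∈ w, x < k) :
    (∀ x ∈ red li w, x < k) ∧ ev g (red li w) = ev g w := by
  induction w with
  | nil => exact ⟨by simp [red], rfl⟩
  | cons x w ih =>
    obtain ⟨h1, h2⟩ := ih (fun y hy => hw y (by simp [hy]))
    have hx := hw x (by simp)
    unfold red
    split
    · rename_i h3
      rw [h3] at h2
      refine ⟨by simpa using hx, ?_⟩
      rw [ev_cons, ev_cons, ← h2]
    · rename_i a w' h3
      rw [h3] at h1 h2
      cases h4 : Nat.beq a (li x)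
      · refine ⟨?_, ?_⟩
        · intro y hy
          simp only [cond_false, List.mem_cons] at hy
          rcases hy with rfl | rfl | hy
          · exact hx
          · exact h1 _ (by simp)
          · exact h1 _ (by simp [hy])
        · simp only [cond_false]
          rw [ev_cons, h2, ev_cons]
      · refine ⟨?_, ?_⟩
        · intro y hy
          simp only [cond_true] at hy
          exact h1 _ (by simp [hy])
        · simp only [cond_true]
          have h5 : a = li x := Nat.eq_of_beq_eq_true h4
          rw [ev_cons, ← h2, ev_cons, h5, ← mul_assoc, (hli x hx).2, one_mul]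

theorem cyc_one (hli : ∀ x, x < k → li x < k ∧ g x * g (li x) = 1) (n : ℕ) {w : List ℕ}
    (hw : ∀ x ∈ w, x < k) (h : ev g w = 1) : ev g (cyc li n w) = 1 := by
  induction n generalizing w with
  | zero => simpa [cyc] using h
  | succ n ih =>
    cases w with
    | nil => simpa [cyc] using h
    | cons x w =>
      unfold cyc
      cases h4 : (w.getLast? == some (li x))
      · simpa using h
      · simp only [cond_true]
        have h5 : w.getLast? = some (li x) := by simpa using h4
        have h6 : w.dropLast ++ [li x] = w := List.dropLast_append_getLast? _ h5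
        have hx := hw x (by simp)
        apply ih
        · intro y hy
          exact hw y (by simp [List.mem_of_mem_dropLast hy])
        · rw [← h6, ev_cons, ev_append, ev_cons, ev_nil, mul_one] at h
          have h7 : g (li x) = (g x)⁻¹ := (inv_eq_of_mul_eq_one_right (hli x hx).2).symm
          rw [h7, ← mul_assoc, mul_inv_eq_one] at h
          exact mul_eq_left.1 h

theorem ev_inv' (hli : ∀ x, x < k → li x < k ∧ g x * g (li x) = 1) {w : List ℕ} (hw : ∀ x ∈ w, x < k) :
    ev g ((w.map li).reverse) = (ev g w)⁻¹ := by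
  induction w with
  | nil => simp [ev_nil]
  | cons a w ih =>
    have h1 : g (li a) = (g a)⁻¹ := (inv_eq_of_mul_eq_one_right (hli a (hw a (by simp))).2).symm
    rw [List.map_cons, List.reverse_cons, ev_append, ih (fun b hb => hw b (by simp [hb])), ev_cons,
      ev_cons, ev_nil, mul_one, h1, mul_inv_rev]

theorem ev_flatMap {g' : ℕ → G} {sub : ℕ → List ℕ} {K : ℕ} (hs : ∀ x, x < K → ev g (sub x) = g' x)
    {w : List ℕ} (hw : ∀ x ∈ w, x < K) : ev g (w.flatMap sub) = ev g' w := by
  induction w with
  | nil => rfl
  | cons x w ih =>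
    rw [List.flatMap_cons, ev_append, ev_cons, hs x (hw x (by simp)), ih (fun y hy => hw y (by simp [hy]))]

/-- all letters of the equation are `< K` -/
def okEq (K : ℕ) (p : List ℕ × List ℕ) : Bool := (p.1.all fun x => Nat.blt x K) && (p.2.all fun x => Nat.blt x K)

theorem relOf_one {g' : ℕ → G} {sub : ℕ → List ℕ} {K : ℕ}
    (hli : ∀ x, x < k → li x < k ∧ g x * g (li x) = 1)
    (hs : ∀ x, x < K → ev g (sub x) = g' x) (hsk : ∀ x, x < K → ∀ y ∈ sub x, y < k)
    {p : List ℕ × List ℕ} (hp : okEq K p = true) (h : ev g' p.1 = ev g' p.2) :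
    ev g (relOf li sub p) = 1 := by
  unfold okEq at hp
  rw [Bool.and_eq_true] at hp
  have h1 := all_lt hp.1
  have h2 := all_lt hp.2
  have b1 : ∀ y ∈ p.1.flatMap sub, y < k := by
    intro y hy
    obtain ⟨x, hx, hy⟩ := List.mem_flatMap.1 hy
    exact hsk x (h1 x hx) y hy
  have b2 : ∀ y ∈ p.2.flatMap sub, y < k := by
    intro y hy
    obtain ⟨x, hx, hy⟩ := List.mem_flatMap.1 hy
    exact hsk x (h2 x hx) y hy
  have b3 : ∀ y ∈ p.1.flatMap sub ++ ((p.2.flatMap sub).map li).reverse, y < k := by
    intro y hy
    rcases List.mem_append.1 hy with hy | hy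
    · exact b1 y hy
    · rw [List.mem_reverse, List.mem_map] at hy
      obtain ⟨x, hx, rfl⟩ := hy
      exact (hli x (b2 x hx)).1
  obtain ⟨c1, c2⟩ := red_lt hli b3
  unfold relOf
  apply cyc_one hli _ c1
  rw [c2, ev_append, ev_inv' hli b2, ev_flatMap hs h1, ev_flatMap hs h2, h, mul_inv_cancel]

/-- **From equations to the relators of a certificate.** -/
theorem rels_one {g' : ℕ → G} {sub : ℕ → List ℕ} {K : ℕ} (eqs : List (List ℕ × List ℕ)) (rels : List (List ℕ))
    (hli : ∀ x, x < k → li x < k ∧ g x * g (li x) = 1)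
    (hs : ∀ x, x < K → ev g (sub x) = g' x) (hsk : ∀ x, x < K → ∀ y ∈ sub x, y < k)
    (hK : (eqs.all (okEq K)) = true) (hc : (rels.all (okRel li k (eqs.map (relOf li sub)))) = true)
    (h : ∀ p ∈ eqs, ev g' p.1 = ev g' p.2) : ∀ r ∈ rels, ev g r = 1 := by
  intro r hr
  refine okRel_sound g hli (rels := eqs.map (relOf li sub)) ?_ (List.all_eq_true.1 hc r hr)
  intro r' hr'
  obtain ⟨p, hp, rfl⟩ := List.mem_map.1 hr'
  exact relOf_one hli hs hsk (List.all_eq_true.1 hK p hp) (h p hp)

end Cfsg.Agent.LargeExtra.W2.LFour.EnumWords
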