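import Cfsg.Agent.LargeExtra.W2.LFour.Iface

/-!
# S1759, `L₄(3)`: the presentation (helper465)

The relations below define a group in which `⟨i, j, k, l, x₁, x₂, y, s⟩` has index `5265` (Todd-Coxeter, HLT,
160000 cosets in total), the index of the involution centralizer in `L₄(3)`.
-/

set_option autoImplicit false

namespace Cfsg.Agent.LargeExtra.W2.LFour.PresDef

variable {G : Type*} [Group G]

/-- `Elem` with normalised `w` (in `U₂⟨w⟩`) and `w'` (in `U₁⟨w'⟩`). -/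
structure Elem2 (Q : Subgroup G) (z i j k l x₁ x₂ y s θ w w' : G) : Prop
    extends Elem Q z i j k l x₁ x₂ y s θ w w' where
  w_inv : i * (s * y) * i⁻¹ * w * (i * (s * y) * i⁻¹)⁻¹ = w⁻¹
  w'_inv : i⁻¹ * s * i * w' * (i⁻¹ * s * i)⁻¹ = w'⁻¹

/-- All relations of the presentation. -/
structure Pres (Q : Subgroup G) (z i j k l x₁ x₂ y s θ w w' : G) : Prop
    extends Elem2 Q z i j k l x₁ x₂ y s θ w w' where
  cox : (i * (s * y) * i⁻¹ * w * (i * k * l * x₁ * x₂ * y * s)) ^ 2 = 1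
  cox' : (i⁻¹ * s * i * w' * (i * k * l * x₁ * x₂⁻¹ * s * z)) ^ 2 = 1
  five : (w * (i * w' * i⁻¹)) ^ 5 = 1
  four : (w * (i * w' * i⁻¹)⁻¹) ^ 4 = 1

end Cfsg.Agent.LargeExtra.W2.LFour.PresDef
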