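import Cfsg.Agent.LargeExtra.W2.PlusHom
import Cfsg.Agent.LargeExtra.W2.LFour.PresDef
import Cfsg.Agent.LargeExtra.W2.LFour.EnumWords
import Cfsg.Agent.LargeExtra.W2.LFour.EnumX
import Cfsg.Agent.LargeExtra.W2.LFour.EnumV

/-!
# `x₁ x₂ = w⁻¹ i⁻¹ w i w` and `x₁ x₂⁻¹ = w'⁻¹ i⁻¹ w' i w'` (helper842)

Both follow from the Coxeter relations `cox`, `cox'` by certified partial coset enumerations.
Alphabet: `0 = z, 1 = y, 2 = s, 3 = i, 4 = i⁻¹, 5 = j, 6 = j⁻¹, 7 = k, 8 = k⁻¹, 9 = l, 10 = l⁻¹, 11 = x, 12 = x⁻¹,
13 = w, 14 = w⁻¹`.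
-/

set_option autoImplicit false
set_option linter.unusedSimpArgs false

namespace Cfsg.Agent.LargeExtra.W2.LFour.EnumXRel

open Cfsg.Agent.SporadicRecognition.CosetCert Cfsg.Agent.LargeExtra.W2 Cfsg.Agent.LargeExtra.W2.LFour
  Cfsg.Agent.LargeExtra.W2.LFour.PresDef Cfsg.Agent.LargeExtra.W2.LFour.EnumWords

/-- equations for `x = x₁ x₂` -/
def eqN : List (List ℕ × List ℕ) :=
  [([3, 3], [0]), ([5, 5], [0]), ([7, 7], [0]), ([9, 9], [0]), ([5, 3], [3, 5, 0]), ([9, 7], [7, 9, 0]),
    ([7, 3], [3, 7]), ([9, 3], [3, 9]), ([7, 5], [5, 7]), ([9, 5], [5, 9]), ([0, 3], [3, 0]),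
    ([0, 5], [5, 0]), ([0, 7], [7, 0]), ([0, 9], [9, 0]), ([11, 11, 11], []), ([11, 0, 12], [0]),
    ([11, 3, 12], [5]), ([11, 5, 12], [3, 5]), ([11, 7, 12], [9]), ([11, 9, 12], [7, 9]), ([1, 0, 1], [0]),
    ([1, 3, 1], [5, 0]), ([1, 5, 1], [3, 0]), ([1, 7, 1], [9, 0]), ([1, 9, 1], [7, 0]), ([2, 0, 2], [0]),
    ([2, 3, 2], [7]), ([2, 5, 2], [9]), ([2, 7, 2], [3]), ([2, 9, 2], [5]), ([1, 11, 1], [12]),
    ([2, 11, 2], [11]), ([2, 1], [1, 2]), ([13, 13, 13], []), ([13, 3, 5, 7, 9], [3, 5, 7, 9, 13]),
    ([13, 2, 1], [2, 1, 13]), ([13, 2, 14], [3, 5, 7, 9, 0]),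
    ([13, 3, 5, 7, 9, 0, 14], [3, 5, 7, 9, 2, 0]), ([13, 2, 3, 7], [2, 3, 7, 13]),
    ([3, 2, 1, 4, 13, 3, 1, 2, 4], [14]),
    ([3, 2, 1, 4, 13, 3, 7, 9, 11, 1, 2, 3, 2, 1, 4, 13, 3, 7, 9, 11, 1, 2], [])]

/-- equations for `x = x₁ x₂⁻¹`, `w'` instead of `w` -/
def eqM : List (List ℕ × List ℕ) :=
  [([3, 3], [0]), ([5, 5], [0]), ([7, 7], [0]), ([9, 9], [0]), ([5, 3], [3, 5, 0]), ([9, 7], [7, 9, 0]),
    ([7, 3], [3, 7]), ([9, 3], [3, 9]), ([7, 5], [5, 7]), ([9, 5], [5, 9]), ([0, 3], [3, 0]),
    ([0, 5], [5, 0]), ([0, 7], [7, 0]), ([0, 9], [9, 0]), ([11, 11, 11], []), ([11, 0, 12], [0]),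
    ([11, 3, 12], [5]), ([11, 5, 12], [3, 5]), ([11, 9, 12], [7]), ([11, 7, 12], [7, 9]), ([1, 0, 1], [0]),
    ([1, 3, 1], [5, 0]), ([1, 5, 1], [3, 0]), ([1, 7, 1], [9, 0]), ([1, 9, 1], [7, 0]), ([2, 0, 2], [0]),
    ([2, 3, 2], [7]), ([2, 5, 2], [9]), ([2, 7, 2], [3]), ([2, 9, 2], [5]), ([1, 11, 1], [12]),
    ([2, 11, 2], [12]), ([2, 1], [1, 2]), ([13, 13, 13], []), ([13, 2], [2, 13]),
    ([13, 3, 5, 7, 9, 0], [3, 5, 7, 9, 0, 13]), ([13, 3, 5, 7, 9, 14], [3, 5, 7, 9, 2, 1]),
    ([13, 2, 1, 14], [3, 5, 7, 9]), ([13, 3, 9, 3, 5, 7, 9, 2, 1], [3, 9, 3, 5, 7, 9, 2, 1, 13]),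
    ([4, 2, 3, 13, 4, 2, 3], [14]), ([4, 2, 3, 13, 3, 7, 9, 11, 2, 0, 4, 2, 3, 13, 3, 7, 9, 11, 2, 0], [])]

/-- letters -/
def ltX {G : Type*} [Group G] (z y s i j k l x w : G) : ℕ → G
  | 0 => z | 1 => y | 2 => s | 3 => i | 4 => i⁻¹ | 5 => j | 6 => j⁻¹ | 7 => k | 8 => k⁻¹ | 9 => l | 10 => l⁻¹
  | 11 => x | 12 => x⁻¹ | 13 => w | 14 => w⁻¹ | _ => 1

section

variable {G : Type*} [Group G] {Q : Subgroup G} {z i j k l x₁ x₂ y s θ w w' : G}

/-- the action of `x = x₁ x₂` -/
structure FN (z y s i j k l x : G) : Prop where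
  x3 : x ^ 3 = 1
  xz : x * z * x⁻¹ = z
  xi : x * i * x⁻¹ = j
  xj : x * j * x⁻¹ = i * j
  xk : x * k * x⁻¹ = l
  xl : x * l * x⁻¹ = k * l
  yx : y * x * y⁻¹ = x⁻¹
  sx : s * x * s⁻¹ = x

/-- the action of `x = x₁ x₂⁻¹` -/
structure FM (z y s i j k l x : G) : Prop where
  x3 : x ^ 3 = 1
  xz : x * z * x⁻¹ = z
  xi : x * i * x⁻¹ = j
  xj : x * j * x⁻¹ = i * j
  xl : x * l * x⁻¹ = k
  xk : x * k * x⁻¹ = k * l
  yx : y * x * y⁻¹ = x⁻¹
  sx : s * x * s⁻¹ = x⁻¹

theorem cj_mul (a b c : G) : (a * b) * c * (a * b)⁻¹ = a * (b * c * b⁻¹) * a⁻¹ := by group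

theorem cj_mul' (a b c : G) : c * (a * b) * c⁻¹ = (c * a * c⁻¹) * (c * b * c⁻¹) := by group

theorem cj_inv {a b c : G} (h : a * b * a⁻¹ = c) : a⁻¹ * c * a⁻¹⁻¹ = b := by rw [← h]; group

theorem cj_inv' {a b c : G} (h : a * b * a⁻¹ = c) : a * b⁻¹ * a⁻¹ = c⁻¹ := by rw [← h]; group

theorem fn (h : Case9aa Q z i j k l x₁ x₂ y s) : FN z y s i j k l (x₁ * x₂) where
  x3 := by
    have hc : Commute x₁ x₂ := h.xx
    rw [hc.mul_pow, h.x₁3, h.x₂3, one_mul]
  xz := by rw [cj_mul, h.x₂_act.z, h.x₁_act.z]
  xi := by rw [cj_mul, h.x₂_act.i, h.x₁_act.i]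
  xj := by rw [cj_mul, h.x₂_act.j, h.x₁_act.j]
  xk := by rw [cj_mul, h.x₂_act.k, h.x₁_act.l]
  xl := by rw [cj_mul, h.x₂_act.l, cj_mul', h.x₁_act.k, h.x₁_act.l]
  yx := by rw [cj_mul', h.y1, h.y2, h.xx, mul_inv_rev]
  sx := by rw [cj_mul', h.s1, h.s2, h.xx]

theorem fm (h : Case9aa Q z i j k l x₁ x₂ y s) : FM z y s i j k l (x₁ * x₂⁻¹) := by
  have hc : Commute x₁ x₂ := h.xx
  have a1 : x₂⁻¹ * l * x₂⁻¹⁻¹ = k := cj_inv h.x₂_act.k
  have a2 : x₂ * (k * l) * x₂⁻¹ = k := by
    rw [cj_mul', h.x₂_act.k, h.x₂_act.l, ← mul_assoc, h.lk]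
    have h1 : l * z = z * l := h.large.comm_z _ (PlusHom.mem_l h.toPlus)
    calc k * l * z * l = k * (l * z) * l := by group
      _ = k * (z * l) * l := by rw [h1]
      _ = k * z * (l * l) := by group
      _ = k * (z * z) := by rw [h.ll, mul_assoc]
      _ = k := by rw [h.large.z_sq, mul_one]
  have a3 : x₂⁻¹ * k * x₂⁻¹⁻¹ = k * l := cj_inv a2
  exact {
    x3 := by rw [hc.inv_right.mul_pow, h.x₁3, inv_pow, h.x₂3, one_mul, inv_one]
    xz := by rw [cj_mul, cj_inv h.x₂_act.z, h.x₁_act.z]
    xi := by rw [cj_mul, cj_inv h.x₂_act.i, h.x₁_act.i]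
    xj := by rw [cj_mul, cj_inv h.x₂_act.j, h.x₁_act.j]
    xl := by rw [cj_mul, a1, h.x₁_act.k]
    xk := by rw [cj_mul, a3, cj_mul', h.x₁_act.k, h.x₁_act.l]
    yx := by
      rw [cj_mul', h.y1, cj_inv' h.y2, inv_inv, mul_inv_rev, inv_inv]
      exact (hc.inv_left).eq
    sx := by
      rw [cj_mul', h.s1, cj_inv' h.s2, mul_inv_rev, inv_inv] }

theorem sateqN (h : Pres Q z i j k l x₁ x₂ y s θ w w') : ∀ p ∈ eqN,
    ev (ltX z y s i j k l (x₁ * x₂) w) p.1 = ev (ltX z y s i j k l (x₁ * x₂) w) p.2 := by
  have f := fn h.toCase9aa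
  have hy : y⁻¹ = y := inv_eq_of_mul_eq_one_left h.y_sq
  have hs : s⁻¹ = s := inv_eq_of_mul_eq_one_left h.s_sq
  have cox : (i * (s * y) * i⁻¹ * w * (i * k * l * (x₁ * x₂) * y * s)) ^ 2 = 1 := by simpa only [mul_assoc] using h.cox
  generalize x₁ * x₂ = x at f cox ⊢
  intro p hp
  simp only [eqN, List.mem_cons, List.not_mem_nil, or_false] at hp
  rcases hp with rfl | rfl | rfl | rfl | rfl | rfl | rfl | rfl | rfl | rfl | rfl | rfl | rfl | rfl | rfl | rfl | rfl | rfl | rfl | rfl | rfl | rfl | rfl | rfl | rfl | rfl | rfl | rfl | rfl | rfl | rfl | rfl | rfl | rfl | rfl | rfl | rfl | rfl | rfl | rfl | rfl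
  · have e := h.ii
    try simp only [hy, hs, pow_succ, pow_zero, one_mul, mul_inv_rev, inv_inv, mul_assoc] at e
    simpa only [ev, ltX, List.map_cons, List.map_nil, List.prod_cons, List.prod_nil, mul_one] using e
  · have e := h.jj
    try simp only [hy, hs, pow_succ, pow_zero, one_mul, mul_inv_rev, inv_inv, mul_assoc] at e
    simpa only [ev, ltX, List.map_cons, List.map_nil, List.prod_cons, List.prod_nil, mul_one] using e
  · have e := h.kk
    try simp only [hy, hs, pow_succ, pow_zero, one_mul, mul_inv_rev, inv_inv, mul_assoc] at e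
    simpa only [ev, ltX, List.map_cons, List.map_nil, List.prod_cons, List.prod_nil, mul_one] using e
  · have e := h.ll
    try simp only [hy, hs, pow_succ, pow_zero, one_mul, mul_inv_rev, inv_inv, mul_assoc] at e
    simpa only [ev, ltX, List.map_cons, List.map_nil, List.prod_cons, List.prod_nil, mul_one] using e
  · have e := h.ji
    try simp only [hy, hs, pow_succ, pow_zero, one_mul, mul_inv_rev, inv_inv, mul_assoc] at e
    simpa only [ev, ltX, List.map_cons, List.map_nil, List.prod_cons, List.prod_nil, mul_one] using e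
  · have e := h.lk
    try simp only [hy, hs, pow_succ, pow_zero, one_mul, mul_inv_rev, inv_inv, mul_assoc] at e
    simpa only [ev, ltX, List.map_cons, List.map_nil, List.prod_cons, List.prod_nil, mul_one] using e
  · have e := h.ki
    try simp only [hy, hs, pow_succ, pow_zero, one_mul, mul_inv_rev, inv_inv, mul_assoc] at e
    simpa only [ev, ltX, List.map_cons, List.map_nil, List.prod_cons, List.prod_nil, mul_one] using e
  · have e := h.li
    try simp only [hy, hs, pow_succ, pow_zero, one_mul, mul_inv_rev, inv_inv, mul_assoc] at e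
    simpa only [ev, ltX, List.map_cons, List.map_nil, List.prod_cons, List.prod_nil, mul_one] using e
  · have e := h.kj
    try simp only [hy, hs, pow_succ, pow_zero, one_mul, mul_inv_rev, inv_inv, mul_assoc] at e
    simpa only [ev, ltX, List.map_cons, List.map_nil, List.prod_cons, List.prod_nil, mul_one] using e
  · have e := h.lj
    try simp only [hy, hs, pow_succ, pow_zero, one_mul, mul_inv_rev, inv_inv, mul_assoc] at e
    simpa only [ev, ltX, List.map_cons, List.map_nil, List.prod_cons, List.prod_nil, mul_one] using e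
  · have e := (h.large.comm_z _ (PlusHom.mem_i h.toPlus)).symm
    try simp only [hy, hs, pow_succ, pow_zero, one_mul, mul_inv_rev, inv_inv, mul_assoc] at e
    simpa only [ev, ltX, List.map_cons, List.map_nil, List.prod_cons, List.prod_nil, mul_one] using e
  · have e := (h.large.comm_z _ (PlusHom.mem_j h.toPlus)).symm
    try simp only [hy, hs, pow_succ, pow_zero, one_mul, mul_inv_rev, inv_inv, mul_assoc] at e
    simpa only [ev, ltX, List.map_cons, List.map_nil, List.prod_cons, List.prod_nil, mul_one] using e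
  · have e := (h.large.comm_z _ (PlusHom.mem_k h.toPlus)).symm
    try simp only [hy, hs, pow_succ, pow_zero, one_mul, mul_inv_rev, inv_inv, mul_assoc] at e
    simpa only [ev, ltX, List.map_cons, List.map_nil, List.prod_cons, List.prod_nil, mul_one] using e
  · have e := (h.large.comm_z _ (PlusHom.mem_l h.toPlus)).symm
    try simp only [hy, hs, pow_succ, pow_zero, one_mul, mul_inv_rev, inv_inv, mul_assoc] at e
    simpa only [ev, ltX, List.map_cons, List.map_nil, List.prod_cons, List.prod_nil, mul_one] using e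
  · have e := f.x3
    try simp only [hy, hs, pow_succ, pow_zero, one_mul, mul_inv_rev, inv_inv, mul_assoc] at e
    simpa only [ev, ltX, List.map_cons, List.map_nil, List.prod_cons, List.prod_nil, mul_one] using e
  · have e := f.xz
    try simp only [hy, hs, pow_succ, pow_zero, one_mul, mul_inv_rev, inv_inv, mul_assoc] at e
    simpa only [ev, ltX, List.map_cons, List.map_nil, List.prod_cons, List.prod_nil, mul_one] using e
  · have e := f.xi
    try simp only [hy, hs, pow_succ, pow_zero, one_mul, mul_inv_rev, inv_inv, mul_assoc] at e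
    simpa only [ev, ltX, List.map_cons, List.map_nil, List.prod_cons, List.prod_nil, mul_one] using e
  · have e := f.xj
    try simp only [hy, hs, pow_succ, pow_zero, one_mul, mul_inv_rev, inv_inv, mul_assoc] at e
    simpa only [ev, ltX, List.map_cons, List.map_nil, List.prod_cons, List.prod_nil, mul_one] using e
  · have e := f.xk
    try simp only [hy, hs, pow_succ, pow_zero, one_mul, mul_inv_rev, inv_inv, mul_assoc] at e
    simpa only [ev, ltX, List.map_cons, List.map_nil, List.prod_cons, List.prod_nil, mul_one] using e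
  · have e := f.xl
    try simp only [hy, hs, pow_succ, pow_zero, one_mul, mul_inv_rev, inv_inv, mul_assoc] at e
    simpa only [ev, ltX, List.map_cons, List.map_nil, List.prod_cons, List.prod_nil, mul_one] using e
  · have e := h.y_act.z
    try simp only [hy, hs, pow_succ, pow_zero, one_mul, mul_inv_rev, inv_inv, mul_assoc] at e
    simpa only [ev, ltX, List.map_cons, List.map_nil, List.prod_cons, List.prod_nil, mul_one] using e
  · have e := h.y_act.i
    try simp only [hy, hs, pow_succ, pow_zero, one_mul, mul_inv_rev, inv_inv, mul_assoc] at e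
    simpa only [ev, ltX, List.map_cons, List.map_nil, List.prod_cons, List.prod_nil, mul_one] using e
  · have e := h.y_act.j
    try simp only [hy, hs, pow_succ, pow_zero, one_mul, mul_inv_rev, inv_inv, mul_assoc] at e
    simpa only [ev, ltX, List.map_cons, List.map_nil, List.prod_cons, List.prod_nil, mul_one] using e
  · have e := h.y_act.k
    try simp only [hy, hs, pow_succ, pow_zero, one_mul, mul_inv_rev, inv_inv, mul_assoc] at e
    simpa only [ev, ltX, List.map_cons, List.map_nil, List.prod_cons, List.prod_nil, mul_one] using e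
  · have e := h.y_act.l
    try simp only [hy, hs, pow_succ, pow_zero, one_mul, mul_inv_rev, inv_inv, mul_assoc] at e
    simpa only [ev, ltX, List.map_cons, List.map_nil, List.prod_cons, List.prod_nil, mul_one] using e
  · have e := h.s_act.z
    try simp only [hy, hs, pow_succ, pow_zero, one_mul, mul_inv_rev, inv_inv, mul_assoc] at e
    simpa only [ev, ltX, List.map_cons, List.map_nil, List.prod_cons, List.prod_nil, mul_one] using e
  · have e := h.s_act.i
    try simp only [hy, hs, pow_succ, pow_zero, one_mul, mul_inv_rev, inv_inv, mul_assoc] at e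
    simpa only [ev, ltX, List.map_cons, List.map_nil, List.prod_cons, List.prod_nil, mul_one] using e
  · have e := h.s_act.j
    try simp only [hy, hs, pow_succ, pow_zero, one_mul, mul_inv_rev, inv_inv, mul_assoc] at e
    simpa only [ev, ltX, List.map_cons, List.map_nil, List.prod_cons, List.prod_nil, mul_one] using e
  · have e := h.s_act.k
    try simp only [hy, hs, pow_succ, pow_zero, one_mul, mul_inv_rev, inv_inv, mul_assoc] at e
    simpa only [ev, ltX, List.map_cons, List.map_nil, List.prod_cons, List.prod_nil, mul_one] using e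
  · have e := h.s_act.l
    try simp only [hy, hs, pow_succ, pow_zero, one_mul, mul_inv_rev, inv_inv, mul_assoc] at e
    simpa only [ev, ltX, List.map_cons, List.map_nil, List.prod_cons, List.prod_nil, mul_one] using e
  · have e := f.yx
    try simp only [hy, hs, pow_succ, pow_zero, one_mul, mul_inv_rev, inv_inv, mul_assoc] at e
    simpa only [ev, ltX, List.map_cons, List.map_nil, List.prod_cons, List.prod_nil, mul_one] using e
  · have e := f.sx
    try simp only [hy, hs, pow_succ, pow_zero, one_mul, mul_inv_rev, inv_inv, mul_assoc] at e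
    simpa only [ev, ltX, List.map_cons, List.map_nil, List.prod_cons, List.prod_nil, mul_one] using e
  · have e := h.s_y
    try simp only [hy, hs, pow_succ, pow_zero, one_mul, mul_inv_rev, inv_inv, mul_assoc] at e
    simpa only [ev, ltX, List.map_cons, List.map_nil, List.prod_cons, List.prod_nil, mul_one] using e
  · have e := h.w3
    try simp only [hy, hs, pow_succ, pow_zero, one_mul, mul_inv_rev, inv_inv, mul_assoc] at e
    simpa only [ev, ltX, List.map_cons, List.map_nil, List.prod_cons, List.prod_nil, mul_one] using e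
  · have e := h.w_d
    try simp only [hy, hs, pow_succ, pow_zero, one_mul, mul_inv_rev, inv_inv, mul_assoc] at e
    simpa only [ev, ltX, List.map_cons, List.map_nil, List.prod_cons, List.prod_nil, mul_one] using e
  · have e := h.w_sy
    try simp only [hy, hs, pow_succ, pow_zero, one_mul, mul_inv_rev, inv_inv, mul_assoc] at e
    simpa only [ev, ltX, List.map_cons, List.map_nil, List.prod_cons, List.prod_nil, mul_one] using e
  · have e := h.w_s
    try simp only [hy, hs, pow_succ, pow_zero, one_mul, mul_inv_rev, inv_inv, mul_assoc] at e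
    simpa only [ev, ltX, List.map_cons, List.map_nil, List.prod_cons, List.prod_nil, mul_one] using e
  · have e := h.w_dz
    try simp only [hy, hs, pow_succ, pow_zero, one_mul, mul_inv_rev, inv_inv, mul_assoc] at e
    simpa only [ev, ltX, List.map_cons, List.map_nil, List.prod_cons, List.prod_nil, mul_one] using e
  · have e := h.w_z1
    try simp only [hy, hs, pow_succ, pow_zero, one_mul, mul_inv_rev, inv_inv, mul_assoc] at e
    simpa only [ev, ltX, List.map_cons, List.map_nil, List.prod_cons, List.prod_nil, mul_one] using e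
  · have e := h.w_inv
    try simp only [hy, hs, pow_succ, pow_zero, one_mul, mul_inv_rev, inv_inv, mul_assoc] at e
    simpa only [ev, ltX, List.map_cons, List.map_nil, List.prod_cons, List.prod_nil, mul_one] using e
  · have e := cox
    try simp only [hy, hs, pow_succ, pow_zero, one_mul, mul_inv_rev, inv_inv, mul_assoc] at e
    simpa only [ev, ltX, List.map_cons, List.map_nil, List.prod_cons, List.prod_nil, mul_one] using e

theorem sateqM (h : Pres Q z i j k l x₁ x₂ y s θ w w') : ∀ p ∈ eqM,
    ev (ltX z y s i j k l (x₁ * x₂⁻¹) w') p.1 = ev (ltX z y s i j k l (x₁ * x₂⁻¹) w') p.2 := by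
  have f := fm h.toCase9aa
  have hy : y⁻¹ = y := inv_eq_of_mul_eq_one_left h.y_sq
  have hs : s⁻¹ = s := inv_eq_of_mul_eq_one_left h.s_sq
  have cox : (i⁻¹ * s * i * w' * (i * k * l * (x₁ * x₂⁻¹) * s * z)) ^ 2 = 1 := by simpa only [mul_assoc] using h.cox'
  generalize x₁ * x₂⁻¹ = x at f cox ⊢
  intro p hp
  simp only [eqM, List.mem_cons, List.not_mem_nil, or_false] at hp
  rcases hp with rfl | rfl | rfl | rfl | rfl | rfl | rfl | rfl | rfl | rfl | rfl | rfl | rfl | rfl | rfl | rfl | rfl | rfl | rfl | rfl | rfl | rfl | rfl | rfl | rfl | rfl | rfl | rfl | rfl | rfl | rfl | rfl | rfl | rfl | rfl | rfl | rfl | rfl | rfl | rfl | rfl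
  · have e := h.ii
    try simp only [hy, hs, pow_succ, pow_zero, one_mul, mul_inv_rev, inv_inv, mul_assoc] at e
    simpa only [ev, ltX, List.map_cons, List.map_nil, List.prod_cons, List.prod_nil, mul_one] using e
  · have e := h.jj
    try simp only [hy, hs, pow_succ, pow_zero, one_mul, mul_inv_rev, inv_inv, mul_assoc] at e
    simpa only [ev, ltX, List.map_cons, List.map_nil, List.prod_cons, List.prod_nil, mul_one] using e
  · have e := h.kk
    try simp only [hy, hs, pow_succ, pow_zero, one_mul, mul_inv_rev, inv_inv, mul_assoc] at e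
    simpa only [ev, ltX, List.map_cons, List.map_nil, List.prod_cons, List.prod_nil, mul_one] using e
  · have e := h.ll
    try simp only [hy, hs, pow_succ, pow_zero, one_mul, mul_inv_rev, inv_inv, mul_assoc] at e
    simpa only [ev, ltX, List.map_cons, List.map_nil, List.prod_cons, List.prod_nil, mul_one] using e
  · have e := h.ji
    try simp only [hy, hs, pow_succ, pow_zero, one_mul, mul_inv_rev, inv_inv, mul_assoc] at e
    simpa only [ev, ltX, List.map_cons, List.map_nil, List.prod_cons, List.prod_nil, mul_one] using e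
  · have e := h.lk
    try simp only [hy, hs, pow_succ, pow_zero, one_mul, mul_inv_rev, inv_inv, mul_assoc] at e
    simpa only [ev, ltX, List.map_cons, List.map_nil, List.prod_cons, List.prod_nil, mul_one] using e
  · have e := h.ki
    try simp only [hy, hs, pow_succ, pow_zero, one_mul, mul_inv_rev, inv_inv, mul_assoc] at e
    simpa only [ev, ltX, List.map_cons, List.map_nil, List.prod_cons, List.prod_nil, mul_one] using e
  · have e := h.li
    try simp only [hy, hs, pow_succ, pow_zero, one_mul, mul_inv_rev, inv_inv, mul_assoc] at e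
    simpa only [ev, ltX, List.map_cons, List.map_nil, List.prod_cons, List.prod_nil, mul_one] using e
  · have e := h.kj
    try simp only [hy, hs, pow_succ, pow_zero, one_mul, mul_inv_rev, inv_inv, mul_assoc] at e
    simpa only [ev, ltX, List.map_cons, List.map_nil, List.prod_cons, List.prod_nil, mul_one] using e
  · have e := h.lj
    try simp only [hy, hs, pow_succ, pow_zero, one_mul, mul_inv_rev, inv_inv, mul_assoc] at e
    simpa only [ev, ltX, List.map_cons, List.map_nil, List.prod_cons, List.prod_nil, mul_one] using e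
  · have e := (h.large.comm_z _ (PlusHom.mem_i h.toPlus)).symm
    try simp only [hy, hs, pow_succ, pow_zero, one_mul, mul_inv_rev, inv_inv, mul_assoc] at e
    simpa only [ev, ltX, List.map_cons, List.map_nil, List.prod_cons, List.prod_nil, mul_one] using e
  · have e := (h.large.comm_z _ (PlusHom.mem_j h.toPlus)).symm
    try simp only [hy, hs, pow_succ, pow_zero, one_mul, mul_inv_rev, inv_inv, mul_assoc] at e
    simpa only [ev, ltX, List.map_cons, List.map_nil, List.prod_cons, List.prod_nil, mul_one] using e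
  · have e := (h.large.comm_z _ (PlusHom.mem_k h.toPlus)).symm
    try simp only [hy, hs, pow_succ, pow_zero, one_mul, mul_inv_rev, inv_inv, mul_assoc] at e
    simpa only [ev, ltX, List.map_cons, List.map_nil, List.prod_cons, List.prod_nil, mul_one] using e
  · have e := (h.large.comm_z _ (PlusHom.mem_l h.toPlus)).symm
    try simp only [hy, hs, pow_succ, pow_zero, one_mul, mul_inv_rev, inv_inv, mul_assoc] at e
    simpa only [ev, ltX, List.map_cons, List.map_nil, List.prod_cons, List.prod_nil, mul_one] using e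
  · have e := f.x3
    try simp only [hy, hs, pow_succ, pow_zero, one_mul, mul_inv_rev, inv_inv, mul_assoc] at e
    simpa only [ev, ltX, List.map_cons, List.map_nil, List.prod_cons, List.prod_nil, mul_one] using e
  · have e := f.xz
    try simp only [hy, hs, pow_succ, pow_zero, one_mul, mul_inv_rev, inv_inv, mul_assoc] at e
    simpa only [ev, ltX, List.map_cons, List.map_nil, List.prod_cons, List.prod_nil, mul_one] using e
  · have e := f.xi
    try simp only [hy, hs, pow_succ, pow_zero, one_mul, mul_inv_rev, inv_inv, mul_assoc] at e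
    simpa only [ev, ltX, List.map_cons, List.map_nil, List.prod_cons, List.prod_nil, mul_one] using e
  · have e := f.xj
    try simp only [hy, hs, pow_succ, pow_zero, one_mul, mul_inv_rev, inv_inv, mul_assoc] at e
    simpa only [ev, ltX, List.map_cons, List.map_nil, List.prod_cons, List.prod_nil, mul_one] using e
  · have e := f.xl
    try simp only [hy, hs, pow_succ, pow_zero, one_mul, mul_inv_rev, inv_inv, mul_assoc] at e
    simpa only [ev, ltX, List.map_cons, List.map_nil, List.prod_cons, List.prod_nil, mul_one] using e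
  · have e := f.xk
    try simp only [hy, hs, pow_succ, pow_zero, one_mul, mul_inv_rev, inv_inv, mul_assoc] at e
    simpa only [ev, ltX, List.map_cons, List.map_nil, List.prod_cons, List.prod_nil, mul_one] using e
  · have e := h.y_act.z
    try simp only [hy, hs, pow_succ, pow_zero, one_mul, mul_inv_rev, inv_inv, mul_assoc] at e
    simpa only [ev, ltX, List.map_cons, List.map_nil, List.prod_cons, List.prod_nil, mul_one] using e
  · have e := h.y_act.i
    try simp only [hy, hs, pow_succ, pow_zero, one_mul, mul_inv_rev, inv_inv, mul_assoc] at e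
    simpa only [ev, ltX, List.map_cons, List.map_nil, List.prod_cons, List.prod_nil, mul_one] using e
  · have e := h.y_act.j
    try simp only [hy, hs, pow_succ, pow_zero, one_mul, mul_inv_rev, inv_inv, mul_assoc] at e
    simpa only [ev, ltX, List.map_cons, List.map_nil, List.prod_cons, List.prod_nil, mul_one] using e
  · have e := h.y_act.k
    try simp only [hy, hs, pow_succ, pow_zero, one_mul, mul_inv_rev, inv_inv, mul_assoc] at e
    simpa only [ev, ltX, List.map_cons, List.map_nil, List.prod_cons, List.prod_nil, mul_one] using e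
  · have e := h.y_act.l
    try simp only [hy, hs, pow_succ, pow_zero, one_mul, mul_inv_rev, inv_inv, mul_assoc] at e
    simpa only [ev, ltX, List.map_cons, List.map_nil, List.prod_cons, List.prod_nil, mul_one] using e
  · have e := h.s_act.z
    try simp only [hy, hs, pow_succ, pow_zero, one_mul, mul_inv_rev, inv_inv, mul_assoc] at e
    simpa only [ev, ltX, List.map_cons, List.map_nil, List.prod_cons, List.prod_nil, mul_one] using e
  · have e := h.s_act.i
    try simp only [hy, hs, pow_succ, pow_zero, one_mul, mul_inv_rev, inv_inv, mul_assoc] at e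
    simpa only [ev, ltX, List.map_cons, List.map_nil, List.prod_cons, List.prod_nil, mul_one] using e
  · have e := h.s_act.j
    try simp only [hy, hs, pow_succ, pow_zero, one_mul, mul_inv_rev, inv_inv, mul_assoc] at e
    simpa only [ev, ltX, List.map_cons, List.map_nil, List.prod_cons, List.prod_nil, mul_one] using e
  · have e := h.s_act.k
    try simp only [hy, hs, pow_succ, pow_zero, one_mul, mul_inv_rev, inv_inv, mul_assoc] at e
    simpa only [ev, ltX, List.map_cons, List.map_nil, List.prod_cons, List.prod_nil, mul_one] using e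
  · have e := h.s_act.l
    try simp only [hy, hs, pow_succ, pow_zero, one_mul, mul_inv_rev, inv_inv, mul_assoc] at e
    simpa only [ev, ltX, List.map_cons, List.map_nil, List.prod_cons, List.prod_nil, mul_one] using e
  · have e := f.yx
    try simp only [hy, hs, pow_succ, pow_zero, one_mul, mul_inv_rev, inv_inv, mul_assoc] at e
    simpa only [ev, ltX, List.map_cons, List.map_nil, List.prod_cons, List.prod_nil, mul_one] using e
  · have e := f.sx
    try simp only [hy, hs, pow_succ, pow_zero, one_mul, mul_inv_rev, inv_inv, mul_assoc] at e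
    simpa only [ev, ltX, List.map_cons, List.map_nil, List.prod_cons, List.prod_nil, mul_one] using e
  · have e := h.s_y
    try simp only [hy, hs, pow_succ, pow_zero, one_mul, mul_inv_rev, inv_inv, mul_assoc] at e
    simpa only [ev, ltX, List.map_cons, List.map_nil, List.prod_cons, List.prod_nil, mul_one] using e
  · have e := h.w'3
    try simp only [hy, hs, pow_succ, pow_zero, one_mul, mul_inv_rev, inv_inv, mul_assoc] at e
    simpa only [ev, ltX, List.map_cons, List.map_nil, List.prod_cons, List.prod_nil, mul_one] using e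
  · have e := h.w'_s
    try simp only [hy, hs, pow_succ, pow_zero, one_mul, mul_inv_rev, inv_inv, mul_assoc] at e
    simpa only [ev, ltX, List.map_cons, List.map_nil, List.prod_cons, List.prod_nil, mul_one] using e
  · have e := h.w'_dz
    try simp only [hy, hs, pow_succ, pow_zero, one_mul, mul_inv_rev, inv_inv, mul_assoc] at e
    simpa only [ev, ltX, List.map_cons, List.map_nil, List.prod_cons, List.prod_nil, mul_one] using e
  · have e := h.w'_d
    try simp only [hy, hs, pow_succ, pow_zero, one_mul, mul_inv_rev, inv_inv, mul_assoc] at e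
    simpa only [ev, ltX, List.map_cons, List.map_nil, List.prod_cons, List.prod_nil, mul_one] using e
  · have e := h.w'_sy
    try simp only [hy, hs, pow_succ, pow_zero, one_mul, mul_inv_rev, inv_inv, mul_assoc] at e
    simpa only [ev, ltX, List.map_cons, List.map_nil, List.prod_cons, List.prod_nil, mul_one] using e
  · have e := h.w'_z2
    try simp only [hy, hs, pow_succ, pow_zero, one_mul, mul_inv_rev, inv_inv, mul_assoc] at e
    simpa only [ev, ltX, List.map_cons, List.map_nil, List.prod_cons, List.prod_nil, mul_one] using e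
  · have e := h.w'_inv
    try simp only [hy, hs, pow_succ, pow_zero, one_mul, mul_inv_rev, inv_inv, mul_assoc] at e
    simpa only [ev, ltX, List.map_cons, List.map_nil, List.prod_cons, List.prod_nil, mul_one] using e
  · have e := cox
    try simp only [hy, hs, pow_succ, pow_zero, one_mul, mul_inv_rev, inv_inv, mul_assoc] at e
    simpa only [ev, ltX, List.map_cons, List.map_nil, List.prod_cons, List.prod_nil, mul_one] using e

/-- inverse letters -/
def liX : ℕ → ℕ
  | 3 => 4 | 4 => 3 | 5 => 6 | 6 => 5 | 7 => 8 | 8 => 7 | 9 => 10 | 10 => 9 | 11 => 12 | 12 => 11 | 13 => 14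
  | 14 => 13 | n => n

theorem liX_lt {z y s i j k l x w : G} (hz : z * z = 1) (hy : y * y = 1) (hs : s * s = 1) (n : ℕ) (hn : n < 15) :
    liX n < 15 ∧ ltX z y s i j k l x w n * ltX z y s i j k l x w (liX n) = 1 := by
  interval_cases n <;> refine ⟨by decide, ?_⟩ <;> simp [ltX, liX, hz, hy, hs]

theorem inv_X (n : ℕ) (hn : n < 15) : EnumXData.C.inv n = liX n := by interval_cases n <;> rfl
theorem inv_V (n : ℕ) (hn : n < 15) : EnumVData.C.inv n = liX n := by interval_cases n <;> rfl

theorem relsN : (EnumXData.rels.all (Cfsg.Agent.SporadicRecognition.CosetCertHyp.okRel liX 15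
    (eqN.map (relOf liX (fun x => [x]))))) = true := by decide +kernel

theorem relsM : (EnumVData.rels.all (Cfsg.Agent.SporadicRecognition.CosetCertHyp.okRel liX 15
    (eqM.map (relOf liX (fun x => [x]))))) = true := by decide +kernel

theorem X1 (h : Pres Q z i j k l x₁ x₂ y s θ w w') : w⁻¹ * i⁻¹ * w * i * w = x₁ * x₂ := by
  have hl := liX_lt (z := z) (i := i) (j := j) (k := k) (l := l) (x := x₁ * x₂) (w := w) h.large.z_sq h.y_sq h.s_sq
  have hr := rels_one (g := ltX z y s i j k l (x₁ * x₂) w) (K := 15) (k := 15) eqN EnumXData.rels hl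
    (sub := fun x => [x]) (by intro x _; simp [ev]) (by intro x hx y hy; simpa using (by simpa using hy : y = x) ▸ hx)
    (by decide +kernel) relsN (sateqN h)
  have := EnumX.eq_one (ltX z y s i j k l (x₁ * x₂) w) (by intro x hx; rw [inv_X x hx]; exact (hl x hx).2) hr
    [14, 4, 13, 3, 13, 12] (by simp [EnumXData.targets])
  simp only [ev, ltX, List.map_cons, List.map_nil, List.prod_cons, List.prod_nil, mul_one] at this
  rw [← mul_inv_eq_one]
  simpa only [mul_assoc] using this

theorem X2 (h : Pres Q z i j k l x₁ x₂ y s θ w w') : w'⁻¹ * i⁻¹ * w' * i * w' = x₁ * x₂⁻¹ := by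
  have hl := liX_lt (z := z) (i := i) (j := j) (k := k) (l := l) (x := x₁ * x₂⁻¹) (w := w') h.large.z_sq h.y_sq
    h.s_sq
  have hr := rels_one (g := ltX z y s i j k l (x₁ * x₂⁻¹) w') (K := 15) (k := 15) eqM EnumVData.rels hl
    (sub := fun x => [x]) (by intro x _; simp [ev]) (by intro x hx y hy; simpa using (by simpa using hy : y = x) ▸ hx)
    (by decide +kernel) relsM (sateqM h)
  have := EnumV.eq_one (ltX z y s i j k l (x₁ * x₂⁻¹) w') (by intro x hx; rw [inv_V x hx]; exact (hl x hx).2) hr
    [14, 4, 13, 3, 13, 12] (by simp [EnumVData.targets])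
  simp only [ev, ltX, List.map_cons, List.map_nil, List.prod_cons, List.prod_nil, mul_one] at this
  rw [← mul_inv_eq_one]
  simpa only [mul_assoc] using this

end

end Cfsg.Agent.LargeExtra.W2.LFour.EnumXRel
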