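import Cfsg.Agent.LargeExtra.W2.LFour.EnumBound
import Cfsg.Agent.LargeExtra.W2.LFour.EnumModel
import Cfsg.Agent.LargeExtra.W2.LFour.EnumXRel
import Cfsg.Agent.LargeExtra.W2.Graph

/-!
# The presentation of `L₄(3)`: identification (helper842)

`Pres Q z i j k l x₁ x₂ y s θ w w'` implies `⟨i, j, k, l, x₁, x₂, y, s, w, w'⟩ ≃* PSL(4, 3)`.
-/

set_option autoImplicit false

namespace Cfsg.Agent.LargeExtra.W2.LFour.EnumFinal

open Cfsg.Agent.SporadicRecognition.CosetCert Cfsg.Agent.LargeExtra.W2.LFour.EnumSat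
  Cfsg.Agent.LargeExtra.W2.LFour.EnumBound Cfsg.Agent.LargeExtra.W2.LFour.EnumModel
  Cfsg.Agent.LargeExtra.W2.LFour.PresDef Cfsg.Agent.LargeExtra.W2

section

variable {G : Type*} [Group G] {z y s i j k l a b w v : G}

theorem ev_prod {P : Type*} [Group P] (z y s i j k l a b w v : G) (z' y' s' i' j' k' l' a' b' w' v' : P)
    (r : List ℕ) : ev (lt19 (z, z') (y, y') (s, s') (i, i') (j, j') (k, k') (l, l') (a, a') (b, b') (w, w') (v, v')) r =
      (ev (lt19 z y s i j k l a b w v) r, ev (lt19 z' y' s' i' j' k' l' a' b' w' v') r) := by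
  apply Prod.ext
  · exact (map_ev (MonoidHom.fst G P) (z, z') (y, y') (s, s') (i, i') (j, j') (k, k') (l, l') (a, a') (b, b')
      (w, w') (v, v') r).symm
  · exact (map_ev (MonoidHom.snd G P) (z, z') (y, y') (s, s') (i, i') (j, j') (k, k') (l, l') (a, a') (b, b')
      (w, w') (v, v') r).symm

theorem Sat.prod {P : Type*} [Group P] {z' y' s' i' j' k' l' a' b' w' v' : P}
    (S : Sat z y s i j k l a b w v) (S' : Sat z' y' s' i' j' k' l' a' b' w' v') :
    Sat (z, z') (y, y') (s, s') (i, i') (j, j') (k, k') (l, l') (a, a') (b, b') (w, w') (v, v') where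
  zz := Prod.ext S.zz S'.zz
  yy := Prod.ext S.yy S'.yy
  ss := Prod.ext S.ss S'.ss
  C := by
    intro p hp
    rw [ev_prod, ev_prod, S.C p hp, S'.C p hp]
  W := by
    intro p hp
    rw [ev_prod, ev_prod, S.W p hp, S'.W p hp]

theorem lt13_prod {P : Type*} [Group P] (z y s i j a w v : G) (z' y' s' i' j' a' w' v' : P) (n : ℕ) :
    lt13 (z, z') (y, y') (s, s') (i, i') (j, j') (a, a') (w, w') (v, v') n =
      (lt13 z y s i j a w v n, lt13 z' y' s' i' j' a' w' v' n) := by
  unfold lt13
  split <;> rfl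

/-- **Identification from the equations.** -/
theorem nonempty_of_sat (S : Sat z y s i j k l a b w v) (hz : z ≠ 1) :
    Nonempty (Subgroup.closure (lt13 z y s i j a w v '' {n | n < 13}) ≃*
      Matrix.ProjectiveSpecialLinearGroup (Fin 4) (ZMod 3)) := by
  have SP := Sat.prod S EnumModel.sat
  obtain ⟨hfin, hcard⟩ := card_le SP
  have himg : (lt13 (z, mk mZ) (y, mk mY) (s, mk mS) (i, mk mI) (j, mk mJ) (a, mk mA) (w, mk mW) (v, mk mV) ''
      {n | n < 13}) = (fun n => (lt13 z y s i j a w v n,
        lt13 (mk mZ) (mk mY) (mk mS) (mk mI) (mk mJ) (mk mA) (mk mW) (mk mV) n)) '' {n | n < 13} := by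
    apply Set.image_congr
    intro n _
    exact lt13_prod z y s i j a w v (mk mZ) (mk mY) (mk mS) (mk mI) (mk mJ) (mk mA) (mk mW) (mk mV) n
  rw [himg] at hfin hcard
  have hsimple : IsSimpleGroup (⊤ : Subgroup PSL43) :=
    (MulEquiv.isSimpleGroup_congr (Subgroup.topEquiv (G := PSL43))).mpr PslFacts.simple_psl
  have hcardT : Nat.card (⊤ : Subgroup PSL43) = 6065280 := by
    rw [Nat.card_congr (Subgroup.topEquiv (G := PSL43)).toEquiv]
    exact PslFacts.card_psl
  obtain ⟨-, ⟨e⟩⟩ := Graph.iso_of_graph (Subgroup.closure ((fun n => (lt13 z y s i j a w v n,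
      lt13 (mk mZ) (mk mY) (mk mS) (mk mI) (mk mJ) (mk mA) (mk mW) (mk mV) n)) '' {n | n < 13}))
      (⊤ : Subgroup PSL43) hsimple
    (by rw [Graph.map_snd_closure, EnumModel.closure_eq_top]) (by rw [hcardT]; exact hcard)
    (by
      rw [Graph.map_fst_closure]
      intro h
      have : z ∈ Subgroup.closure (lt13 z y s i j a w v '' {n | n < 13}) :=
        Subgroup.subset_closure ⟨0, by norm_num, rfl⟩
      rw [h, Subgroup.mem_bot] at this
      exact hz this)
  rw [Graph.map_fst_closure] at e
  exact ⟨e.trans (Subgroup.topEquiv (G := PSL43))⟩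

theorem closure_letters (S : Sat z y s i j k l a b w v) :
    Subgroup.closure (lt13 z y s i j a w v '' {n | n < 13}) =
      Subgroup.closure ({i, j, k, l, a, b, y, s, w, v} : Set G) := by
  apply le_antisymm
  · rw [Subgroup.closure_le]
    rintro x ⟨n, hn, rfl⟩
    have hn : n < 13 := hn
    have mi : i ∈ Subgroup.closure ({i, j, k, l, a, b, y, s, w, v} : Set G) := Subgroup.subset_closure (by simp)
    have mj : j ∈ Subgroup.closure ({i, j, k, l, a, b, y, s, w, v} : Set G) := Subgroup.subset_closure (by simp)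
    have ma : a ∈ Subgroup.closure ({i, j, k, l, a, b, y, s, w, v} : Set G) := Subgroup.subset_closure (by simp)
    have my : y ∈ Subgroup.closure ({i, j, k, l, a, b, y, s, w, v} : Set G) := Subgroup.subset_closure (by simp)
    have ms : s ∈ Subgroup.closure ({i, j, k, l, a, b, y, s, w, v} : Set G) := Subgroup.subset_closure (by simp)
    have mw : w ∈ Subgroup.closure ({i, j, k, l, a, b, y, s, w, v} : Set G) := Subgroup.subset_closure (by simp)
    have mv : v ∈ Subgroup.closure ({i, j, k, l, a, b, y, s, w, v} : Set G) := Subgroup.subset_closure (by simp)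
    have mz : z ∈ Subgroup.closure ({i, j, k, l, a, b, y, s, w, v} : Set G) := by
      have := S.C ([3, 3], [0]) (by simp [eqC])
      simp only [ev, lt19, List.map_cons, List.map_nil, List.prod_cons, List.prod_nil, mul_one] at this
      rw [← this]
      exact mul_mem mi mi
    interval_cases n
    · exact mz
    · exact my
    · exact ms
    · exact mi
    · exact inv_mem mi
    · exact mj
    · exact inv_mem mj
    · exact ma
    · exact inv_mem ma
    · exact mw
    · exact inv_mem mw
    · exact mv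
    · exact inv_mem mv
  · rw [Subgroup.closure_le]
    have hm : ∀ n, n < 13 → lt13 z y s i j a w v n ∈ Subgroup.closure (lt13 z y s i j a w v '' {n | n < 13}) :=
      fun n hn => Subgroup.subset_closure ⟨n, hn, rfl⟩
    have mi := hm 3 (by norm_num)
    have mj := hm 5 (by norm_num)
    have ma := hm 7 (by norm_num)
    have ms := hm 2 (by norm_num)
    rintro x (rfl | rfl | rfl | rfl | rfl | rfl | rfl | rfl | rfl | rfl)
    · exact mi
    · exact mj
    · rw [← k_eq S]; exact mul_mem ms (mul_mem mi ms)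
    · rw [← l_eq S]; exact mul_mem ms (mul_mem mj ms)
    · exact ma
    · rw [← b_eq S]; exact mul_mem ms (mul_mem ma ms)
    · exact hm 1 (by norm_num)
    · exact ms
    · exact hm 9 (by norm_num)
    · exact hm 11 (by norm_num)

end

variable {G : Type*} [Group G] {Q : Subgroup G} {z i j k l x₁ x₂ y s θ w w' : G}

theorem sat_of_pres (h : Pres Q z i j k l x₁ x₂ y s θ w w') : Sat z y s i j k l x₁ x₂ w w' :=
  Sat.of_pres h (EnumXRel.X1 h) (EnumXRel.X2 h)

/-- **`L₄(3)` from the presentation.** -/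
theorem of_pres (h : Pres Q z i j k l x₁ x₂ y s θ w w') :
    Nonempty (Subgroup.closure ({i, j, k, l, x₁, x₂, y, s, w, w'} : Set G) ≃*
      Matrix.ProjectiveSpecialLinearGroup (Fin 4) (ZMod 3)) := by
  have S := sat_of_pres h
  have := nonempty_of_sat S h.large.z_ne
  rwa [closure_letters S] at this

/-- **`L₄(3)` from the presentation**, when the elements generate `G`. -/
theorem psl_of_pres (h : Pres Q z i j k l x₁ x₂ y s θ w w')
    (htop : Subgroup.closure ({i, j, k, l, x₁, x₂, y, s, w, w'} : Set G) = ⊤) :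
    Nonempty (G ≃* Matrix.ProjectiveSpecialLinearGroup (Fin 4) (ZMod 3)) := by
  obtain ⟨e⟩ := of_pres h
  rw [htop] at e
  exact ⟨(Subgroup.topEquiv (G := G)).symm.trans e⟩

end Cfsg.Agent.LargeExtra.W2.LFour.EnumFinal
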