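import Cfsg.Agent.LargeExtra.W2.LFour.MainOf
import Cfsg.Agent.LargeExtra.W2.LFour.Closing
import Cfsg.Agent.LargeExtra.W2.LFour.EnumFinal

/-!
# S1759, `L₄(3)`: the recognition theorem (helper465, helper995, helper221, helper156, helper842, helper125,
helper373, helper438)
-/

set_option autoImplicit false

universe u

namespace Cfsg.Agent.LargeExtra.W2.LFour.Main

/-- `Case9aa`, `z` weakly closed in `Q`: `G ≃ PSL₄(3)`. -/
theorem recognize {G : Type u} [Group G] [Finite G] [IsSimpleGroup G]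
    (Q : Subgroup G) (z i j k l x₁ x₂ y s : G) (h : Case9aa Q z i j k l x₁ x₂ y s)
    (hw : ∀ g : G, g * z * g⁻¹ ∈ Q → g * z * g⁻¹ = z) :
    ∃ (F : Type) (_ : Field F) (_ : Fintype F), Fintype.card F = 3 ∧
      Nonempty (G ≃* Matrix.ProjectiveSpecialLinearGroup (Fin 4) F) :=
  MainOf.recognize_of (fun _ _ _ _ _ _ _ _ _ _ _ _ _ h => Closing.closure_eq_top h)
    (fun _ _ _ _ _ _ _ _ _ _ _ _ _ h => EnumFinal.of_pres h) Q z i j k l x₁ x₂ y s h hw

end Cfsg.Agent.LargeExtra.W2.LFour.Main
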