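import Cfsg.Agent.LargeExtra.W2.LFour.ElemN
import Cfsg.Agent.LargeExtra.W2.LFourFus
import Cfsg.Agent.LargeExtra.W2.LFour.PresDef
import Cfsg.Agent.SmallExtra438.ClassA

/-!
# S1759, `L₄(3)`: from the fusion data `LFour` to the automorphism `θ` of `E` (helper156)
-/

set_option autoImplicit false
set_option linter.unusedSimpArgs false

namespace Cfsg.Agent.LargeExtra.W2.LFour.Bridge

open Cfsg.Agent.LargeExtra.W2 Cfsg.Agent.LargeExtra.W2.LFour.TwoT DihedralGroup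
open Cfsg.Agent.LargeExtra.W2.LFour.ElemN
open Cfsg.Agent.SmallExtra438.ModelA Cfsg.Agent.SmallExtra438.FrameA
open Cfsg.Agent.SmallExtra438.ClassA

variable {G : Type*} [Group G] {Q : Subgroup G} {z i j k l x₁ x₂ y s θ : G}

/-- codes of `E = ⟨z, y, d, s⟩` -/
def EL : List ℕ := [0, 15, 16, 31, 288, 303, 304, 319, 576, 591, 592, 607, 864, 879, 880, 895]

theorem EL_cent : ∀ m < 1152, mm 0 m 288 = mm 0 288 m → m ∈ EL := by decide +kernel

theorem EL_lt : ∀ m ∈ EL, m < 1152 := by decide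

theorem EL_sq : ∀ m ∈ EL, mm 0 m m = 0 := by decide +kernel

theorem EL_comm : ∀ m ∈ EL, ∀ n ∈ EL, mm 0 m n = mm 0 n m := by decide +kernel

/-- every element of `E` is a product of the generators -/
theorem EL_gen : ∀ m ∈ EL, ∃ a ∈ ([0, 15] : List ℕ), ∃ b ∈ ([0, 16] : List ℕ), ∃ c ∈ ([0, 288] : List ℕ),
    ∃ e ∈ ([0, 576] : List ℕ), mm 0 (mm 0 (mm 0 a b) c) e = m := by decide +kernel

section

variable [Finite G] (h : Case9aa Q z i j k l x₁ x₂ y s) (ht : Tw 0 z y s)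
include h ht

/-- `C_G({z, y}) = E` -/
theorem cent_zy {c : G} (h1 : c * z = z * c) (h2 : c * y = y * c) :
    ∃ m ∈ EL, F z i j k l x₁ x₂ y s m = c := by
  obtain ⟨m, hm, rfl⟩ := exists_code h h1
  refine ⟨m, ?_, rfl⟩
  apply EL_cent m hm
  rw [← comm_iff h ht hm (by norm_num), F_288]
  exact h2

end

theorem tw0 (h1 : y * y = 1) (h2 : s * s = 1) (h3 : s * y = y * s) : Tw 0 z y s := tw_zero h1 h2 h3

/-- `C_G(E) = E` -/
theorem ce_of [Finite G] (h : Case9aa Q z i j k l x₁ x₂ y s) (hy : y * y = 1) (hs : s * s = 1)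
    (hsy : s * y = y * s) : CE (w7 h hy hs hsy) := by
  have ht := tw0 (z := z) hy hs hsy
  have W := w7 h hy hs hsy
  intro c hc
  have h1 : c * z = z * c := by
    have := hc (r 2, r 2) (by decide)
    rwa [phi_z] at this
  have h2 : c * y = y * c := by
    have := hc (sr 0, sr 0) (by decide)
    rwa [phi_y] at this
  obtain ⟨m, hm, rfl⟩ := cent_zy h ht h1 h2
  have hmul : ∀ m n, m < 1152 → n < 1152 →
      (∃ x, KK x ∧ F z i j k l x₁ x₂ y s m = phi W x) →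
      (∃ x, KK x ∧ F z i j k l x₁ x₂ y s n = phi W x) →
      ∃ x, KK x ∧ F z i j k l x₁ x₂ y s (mm 0 m n) = phi W x := by
    rintro m n hm hn ⟨x, hx, ex⟩ ⟨x', hx', ex'⟩
    exact ⟨x * x', K_mul x x' hx hx', by rw [F_mul h ht hm hn, ex, ex', map_mul]⟩
  have g0 : ∃ x, KK x ∧ F z i j k l x₁ x₂ y s 0 = phi W x :=
    ⟨1, by decide, by rw [F_0, map_one]⟩
  clear hc h1 h2
  obtain ⟨a, ha, b, hb, u, hu, e, he, rfl⟩ := EL_gen m hm
  have la : a < 1152 ∧ ∃ x, KK x ∧ F z i j k l x₁ x₂ y s a = phi W x := by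
    simp only [List.mem_cons, List.not_mem_nil, or_false] at ha
    rcases ha with rfl | rfl
    · exact ⟨by norm_num, g0⟩
    · exact ⟨by norm_num, (r 2, 1), by decide, by rw [F_15, phi_d]⟩
  have lb : b < 1152 ∧ ∃ x, KK x ∧ F z i j k l x₁ x₂ y s b = phi W x := by
    simp only [List.mem_cons, List.not_mem_nil, or_false] at hb
    rcases hb with rfl | rfl
    · exact ⟨by norm_num, g0⟩
    · exact ⟨by norm_num, (r 2, r 2), by decide, by rw [F_16, phi_z]⟩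
  have lc : u < 1152 ∧ ∃ x, KK x ∧ F z i j k l x₁ x₂ y s u = phi W x := by
    simp only [List.mem_cons, List.not_mem_nil, or_false] at hu
    rcases hu with rfl | rfl
    · exact ⟨by norm_num, g0⟩
    · exact ⟨by norm_num, (sr 0, sr 0), by decide, by rw [F_288, phi_y]⟩
  have le : e < 1152 ∧ ∃ x, KK x ∧ F z i j k l x₁ x₂ y s e = phi W x := by
    simp only [List.mem_cons, List.not_mem_nil, or_false] at he
    rcases he with rfl | rfl
    · exact ⟨by norm_num, g0⟩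
    · exact ⟨by norm_num, (1, sr 0), by decide, by rw [F_576, phi_s]⟩
  have h1 := hmul a b la.1 lb.1 la.2 lb.2
  have l1 := mm_lt (t := 0) la.1 lb.1
  have h2 := hmul _ u l1 lc.1 h1 lc.2
  exact hmul _ e (mm_lt l1 lc.1) le.1 h2 le.2

/-- **[N]**: the elements `w, w'` -/
theorem exists_elem [Finite G] (h : Fus Q z i j k l x₁ x₂ y s θ) :
    ∃ w w', Elem Q z i j k l x₁ x₂ y s θ w w' ∧
      (i * (s * y) * i⁻¹) * w * (i * (s * y) * i⁻¹)⁻¹ = w⁻¹ ∧
      (i⁻¹ * s * i) * w' * (i⁻¹ * s * i)⁻¹ = w'⁻¹ :=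
  exists_elem_of h (ce_of h.toCase9aa h.y_sq h.s_sq h.s_y)

/-- **[N]** in helper465's form -/
theorem exists_elem2 [Finite G] (h : Fus Q z i j k l x₁ x₂ y s θ) :
    ∃ w w', PresDef.Elem2 Q z i j k l x₁ x₂ y s θ w w' := by
  obtain ⟨w, w', h1, h2, h3⟩ := exists_elem h
  exact ⟨w, w', { h1 with w_inv := h2, w'_inv := h3 }⟩

/-! ### The construction of `θ` -/

/-- the types of the elements of `E`: `(m, r)`, `r` a representative -/
theorem EL_cls : ∀ m ∈ EL, m = 0 ∨ m ∈ ([15, 31, 576, 607, 864, 879] : List ℕ) ∨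
    ∃ r ∈ ([16, 288, 592, 880] : List ℕ), ∃ c < 1152, mm 0 c m = mm 0 r c := by
  intro m hm
  have h1 : ∀ m ∈ EL, m = 0 ∨ m ∈ ([15, 31, 576, 607, 864, 879] : List ℕ) ∨
    ∃ x ∈ cls0, x.1 = m ∧ x.2.2 ∈ ([16, 288, 592, 880] : List ℕ) := by decide +kernel
  rcases h1 m hm with h2 | h2 | ⟨x, hx, rfl, h3⟩
  · exact Or.inl h2
  · exact Or.inr (Or.inl h2)
  · obtain ⟨-, h4, -, h5⟩ := cls0_ok x hx
    exact Or.inr (Or.inr ⟨_, h3, _, h4, h5⟩)

/-- the fusion data in the frame with `s` of type `d` -/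
structure Pre (Q : Subgroup G) (z i j k l x₁ x₂ y s : G) : Prop extends Case9aa Q z i j k l x₁ x₂ y s where
  y_sq : y * y = 1
  s_sq : s * s = 1
  s_y : s * y = y * s
  weak : ∀ x ∈ Q, IsConj z x → x = z
  c_y : IsConj z y
  c_zs : IsConj z (z * s)
  c_zys : IsConj z (z * (y * s))
  n_s : ¬ IsConj z s
  n_ys : ¬ IsConj z (y * s)

section

variable [Finite G] (h : Pre Q z i j k l x₁ x₂ y s)
include h

theorem tw : Tw 0 z y s := tw0 h.y_sq h.s_sq h.s_y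

theorem F_592 : F z i j k l x₁ x₂ y s 592 = z * s := by
  rw [show 592 = mm 0 16 576 by decide +kernel,
      F_mul h.toCase9aa (tw h) (by norm_num) (by norm_num),
    F_16, F_576]

theorem F_864 : F z i j k l x₁ x₂ y s 864 = y * s := by
  rw [show 864 = mm 0 288 576 by decide +kernel,
      F_mul h.toCase9aa (tw h) (by norm_num) (by norm_num),
    F_288, F_576]

theorem F_880 : F z i j k l x₁ x₂ y s 880 = z * (y * s) := by
  rw [show 880 = mm 0 16 864 by decide +kernel,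
      F_mul h.toCase9aa (tw h) (by norm_num) (by norm_num),
    F_16, F_864 h]

/-- the elements of `E` not conjugate to `z` -/
theorem not_conj {m : ℕ} (hm : m ∈ EL) (h0 : m ≠ 0) (hn : ¬ IsConj z (F z i j k l x₁ x₂ y s m)) :
    m ∈ ([15, 31, 576, 607, 864, 879] : List ℕ) := by
  rcases EL_cls m hm with h1 | h1 | ⟨r, hr, c, hc, he⟩
  · exact absurd h1 h0
  · exact h1
  · exfalso
    apply hn
    have hr' : r < 1152 := by
      have : ∀ r ∈ ([16, 288, 592, 880] : List ℕ), r < 1152 := by decide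
      exact this r hr
    refine IsConj.trans ?_ (isConj_of h.toCase9aa (tw h) hc (EL_lt m hm) hr' he).symm
    simp only [List.mem_cons, List.not_mem_nil, or_false] at hr
    rcases hr with rfl | rfl | rfl | rfl
    · rw [F_16]
    · rw [F_288]; exact h.c_y
    · rw [F_592 h]; exact h.c_zs
    · rw [F_880 h]; exact h.c_zys

/-- there is `τ` swapping `z` and `y` -/
theorem exists_swap : ∃ τ : G, τ * z * τ⁻¹ = y ∧ τ * y * τ⁻¹ = z := by
  have hC := h.toCase9aa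
  have ht := tw h
  obtain ⟨g, hg⟩ := isConj_iff.1 h.c_y.symm
  have hzy : z * y = y * z := by
    have := F_comm hC 288
    rw [F_288] at this
    exact this.symm
  have hyz : y ≠ z := by
    intro he
    rw [← F_288 (z := z) (i := i) (j := j) (k := k) (l := l) (x₁ := x₁) (x₂ := x₂) (y := y) (s := s)] at he
    have h1 := F_inj hC (m := 288) (n := 16) (by norm_num) (by norm_num) (by rw [he, F_16])
    norm_num at h1
  have h1 : g * z * g⁻¹ * z = z * (g * z * g⁻¹) := by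
    have e : g * z * g⁻¹ * (g * y * g⁻¹) = g * y * g⁻¹ * (g * z * g⁻¹) := by
      calc g * z * g⁻¹ * (g * y * g⁻¹) = g * (z * y) * g⁻¹ := by group
        _ = g * (y * z) * g⁻¹ := by rw [hzy]
        _ = g * y * g⁻¹ * (g * z * g⁻¹) := by group
    rwa [hg] at e
  have h2 : g * z * g⁻¹ * (g * z * g⁻¹) = 1 := by
    calc g * z * g⁻¹ * (g * z * g⁻¹) = g * (z * z) * g⁻¹ := by group
      _ = 1 := by rw [h.large.z_sq]; group
  have h3 : g * z * g⁻¹ ≠ 1 := by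
    intro he
    apply h.large.z_ne
    have : z = g⁻¹ * (g * z * g⁻¹) * g := by group
    rw [this, he]; group
  obtain ⟨r, hr, c, hc, he⟩ := class0 hC ht h1 h2 h3
  -- an element of order three of `C_G({z, t})`, `t = c⁻¹ F r c`, is impossible
  have key : ∀ u : G, u * z = z * u → u * F z i j k l x₁ x₂ y s r = F z i j k l x₁ x₂ y s r * u →
      u ^ 3 = 1 → u = 1 := by
    intro u hu1 hu2 hu3
    have e1 : ∀ a b : G, u * a = a * u → (g⁻¹ * c⁻¹ * u * c * g) * (g⁻¹ * c⁻¹ * a * c * g) =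
        (g⁻¹ * c⁻¹ * a * c * g) * (g⁻¹ * c⁻¹ * u * c * g) := by
      intro a _ hua
      calc (g⁻¹ * c⁻¹ * u * c * g) * (g⁻¹ * c⁻¹ * a * c * g) = g⁻¹ * c⁻¹ * (u * a) * c * g := by group
        _ = g⁻¹ * c⁻¹ * (a * u) * c * g := by rw [hua]
        _ = (g⁻¹ * c⁻¹ * a * c * g) * (g⁻¹ * c⁻¹ * u * c * g) := by group
    have e2 : g⁻¹ * c⁻¹ * z * c * g = y := by
      have : c⁻¹ * z * c = z := by
        rw [mul_assoc, ← hc, ← mul_assoc, inv_mul_cancel, one_mul]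
      calc g⁻¹ * c⁻¹ * z * c * g = g⁻¹ * (c⁻¹ * z * c) * g := by group
        _ = g⁻¹ * (g * y * g⁻¹) * g := by rw [this, hg]
        _ = y := by group
    have e3 : g⁻¹ * c⁻¹ * F z i j k l x₁ x₂ y s r * c * g = z := by
      rw [← he]; group
    have c1 := e1 z 1 hu1
    have c2 := e1 _ 1 hu2
    rw [e2] at c1
    rw [e3] at c2
    obtain ⟨m, hm, hu⟩ := cent_zy hC ht c2 c1
    have h5 := (sq_iff hC ht (EL_lt m hm)).2 (EL_sq m hm)
    rw [hu] at h5
    have h6 : u * u = 1 := by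
      have : u * u = c * g * ((g⁻¹ * c⁻¹ * u * c * g) * (g⁻¹ * c⁻¹ * u * c * g)) * g⁻¹ * c⁻¹ := by group
      rw [this, h5]; group
    have h7 : u ^ 3 = u * u * u := by rw [pow_succ, pow_two]
    rw [h7, h6, one_mul] at hu3
    exact hu3
  have hpow : ∀ m n : ℕ, m < 1152 → mm 0 m m = n → mm 0 n m = 0 →
      (F z i j k l x₁ x₂ y s m) ^ 3 = 1 := by
    rintro m n hm rfl hn'
    rw [pow_succ, pow_two, ← F_mul hC ht hm hm, ← F_mul hC ht (mm_lt hm hm) hm, hn', F_0]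
  have key2 : ∀ m < 1152, m ≠ 0 → r < 1152 → mm 0 m r = mm 0 r m → mm 0 (mm 0 m m) m = 0 → False := by
    intro m hm hm0 hr' h5 h6
    apply hm0
    apply F_inj hC hm (by norm_num)
    rw [F_0]
    exact key _ (F_comm hC m) ((comm_iff hC ht hm hr').2 h5) (hpow m _ hm rfl h6)
  simp only [List.mem_cons, List.not_mem_nil, or_false] at hr
  have hconj : IsConj z (F z i j k l x₁ x₂ y s r) :=
    (isConj_iff.2 ⟨g, rfl⟩ : IsConj z (g * z * g⁻¹)).trans (isConj_iff.2 ⟨c, he⟩)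
  rcases hr with rfl | rfl | rfl | rfl | rfl | rfl | rfl
  · exfalso
    rw [F_16] at he
    have h5 : g * z * g⁻¹ = z := by
      have : g * z * g⁻¹ = c⁻¹ * (c * (g * z * g⁻¹) * c⁻¹) * c := by group
      rw [this, he, mul_assoc, ← hc, ← mul_assoc, inv_mul_cancel, one_mul]
    apply hyz
    have h6 : g * y * g⁻¹ = g * z * g⁻¹ := by rw [hg, h5]
    exact mul_left_cancel (mul_right_cancel h6)
  · exfalso
    have h5 := h.weak _ ((mem_Q_iff hC (by norm_num)).2 (by norm_num)) hconj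
    have h6 := F_inj hC (m := 5) (n := 16) (by norm_num) (by norm_num) (by rw [h5, F_16])
    norm_num at h6
  · refine ⟨c * g, ?_, ?_⟩
    · rw [← F_288 (z := z) (i := i) (j := j) (k := k) (l := l) (x₁ := x₁) (x₂ := x₂) (y := y) (s := s),
        ← he]
      group
    · have : c * g * y * (c * g)⁻¹ = c * (g * y * g⁻¹) * c⁻¹ := by group
      rw [this, hg, hc]; group
  · exfalso
    rw [F_576] at hconj
    exact h.n_s hconj
  · exact (key2 128 (by norm_num) (by norm_num) (by norm_num) (by decide +kernel) (by decide +kernel)).elim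
  · exfalso
    rw [F_864 h] at hconj
    exact h.n_ys hconj
  · exact (key2 224 (by norm_num) (by norm_num) (by norm_num) (by decide +kernel) (by decide +kernel)).elim

end

/-- the action of `θ` on codes, `θ d θ⁻¹ = m`, `θ s θ⁻¹ = n` -/
def img (m n c : ℕ) : ℕ :=
  mm 0 (mm 0 (mm 0 (if c % 2 = 1 then m else 0) (if c / 16 % 2 = 1 then 288 else 0))
    (if c / 288 % 2 = 1 then 304 else 0)) (if c / 576 = 1 then n else 0)

theorem EL_dec : ∀ c ∈ EL, mm 0 (mm 0 (mm 0 (if c % 2 = 1 then 15 else 0) (if c / 16 % 2 = 1 then 16 else 0))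
    (if c / 288 % 2 = 1 then 288 else 0)) (if c / 576 = 1 then 576 else 0) = c := by decide +kernel

theorem img_EL : ∀ m ∈ EL, ∀ n ∈ EL, ∀ c ∈ EL, img m n c ∈ EL := by decide +kernel

theorem img_three : ∀ m ∈ EL, ∀ n ∈ EL, m ∈ ([15, 31, 576, 607, 864, 879] : List ℕ) →
    mm 0 m 288 ∈ ([15, 31, 576, 607, 864, 879] : List ℕ) →
    n ∈ ([15, 31, 576, 607, 864, 879] : List ℕ) →
    mm 0 n 304 ∈ ([15, 31, 576, 607, 864, 879] : List ℕ) →
    img m n (img m n (img m n 15)) = 15 → m = 864 ∧ n = 607 := by decide +kernel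

section

variable [Finite G] (h : Pre Q z i j k l x₁ x₂ y s)
include h

theorem F_304 : F z i j k l x₁ x₂ y s 304 = z * y := by
  rw [show 304 = mm 0 16 288 by decide +kernel,
      F_mul h.toCase9aa (tw h) (by norm_num) (by norm_num),
    F_16, F_288]

theorem F_607 : F z i j k l x₁ x₂ y s 607 = i * j * k * l * s * z := by
  rw [show 607 = mm 0 (mm 0 15 576) 16 by decide +kernel,
    F_mul h.toCase9aa (tw h) (mm_lt (by norm_num) (by norm_num)) (by norm_num),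
    F_mul h.toCase9aa (tw h) (by norm_num) (by norm_num), F_15, F_16, F_576]

theorem conj_img {θ : G} {m n : ℕ} (hm : m ∈ EL) (hn : n ∈ EL) (h1 : θ * z * θ⁻¹ = y)
    (h2 : θ * y * θ⁻¹ = z * y) (h3 : θ * (i * j * k * l) * θ⁻¹ = F z i j k l x₁ x₂ y s m)
    (h4 : θ * s * θ⁻¹ = F z i j k l x₁ x₂ y s n) : ∀ c ∈ EL,
    θ * F z i j k l x₁ x₂ y s c * θ⁻¹ = F z i j k l x₁ x₂ y s (img m n c) := by
  intro c hc
  have hC := h.toCase9aa
  have ht := tw h
  have lm := EL_lt m hm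
  have ln := EL_lt n hn
  have z0 : ∀ (P : Prop) [Decidable P] (u v : ℕ), v < 1152 → u < 1152 →
      θ * F z i j k l x₁ x₂ y s u * θ⁻¹ = F z i j k l x₁ x₂ y s v →
      (if P then u else 0) < 1152 ∧ (if P then v else 0) < 1152 ∧
      θ * F z i j k l x₁ x₂ y s (if P then u else 0) * θ⁻¹ =
        F z i j k l x₁ x₂ y s (if P then v else 0) := by
    intro P _ u v hv hu he
    by_cases hP : P
    · simp only [if_pos hP]; exact ⟨hu, hv, he⟩
    · simp only [if_neg hP]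
      exact ⟨by norm_num, by norm_num, by rw [F_0]; group⟩
  obtain ⟨a1, a2, a3⟩ := z0 (c % 2 = 1) 15 m lm (by norm_num) (by rw [F_15]; exact h3)
  obtain ⟨b1, b2, b3⟩ := z0 (c / 16 % 2 = 1) 16 288 (by norm_num) (by norm_num)
    (by rw [F_16, F_288]; exact h1)
  obtain ⟨c1, c2, c3⟩ := z0 (c / 288 % 2 = 1) 288 304 (by norm_num) (by norm_num)
    (by rw [F_288, F_304 h]; exact h2)
  obtain ⟨e1, e2, e3⟩ := z0 (c / 576 = 1) 576 n ln (by norm_num) (by rw [F_576]; exact h4)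
  conv_lhs => rw [← EL_dec c hc]
  unfold img
  rw [F_mul hC ht (mm_lt (mm_lt a1 b1) c1) e1, F_mul hC ht (mm_lt a1 b1) c1, F_mul hC ht a1 b1,
    F_mul hC ht (mm_lt (mm_lt a2 b2) c2) e2, F_mul hC ht (mm_lt a2 b2) c2, F_mul hC ht a2 b2]
  exact conj_mul (conj_mul (conj_mul a3 b3) c3) e3

/-- **the bridge** -/
theorem exists_fus : ∃ θ : G, Fus Q z i j k l x₁ x₂ y s θ := by
  have hC := h.toCase9aa
  have ht := tw h
  have W := w7 hC h.y_sq h.s_sq h.s_y
  obtain ⟨τ, t1, t2⟩ := exists_swap h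
  have a1 : (τ * (i * j)) * z * (τ * (i * j))⁻¹ = y := by
    have e : (i * j) * z * (i * j)⁻¹ = z := by simp only [mul_assoc, W.ii, W.ii_, W.zi, W.zi_, W.jj, W.jj_, W.zj, W.zj_, W.kk, W.kk_, W.zk, W.zk_, W.ll, W.ll_, W.zl, W.zl_, W.zz, W.zz_, W.ji, W.ji_, W.ki, W.ki_, W.li, W.li_, W.kj, W.kj_, W.lj, W.lj_, W.lk, W.lk_, W.yi, W.yi_, W.yj, W.yj_, W.yk, W.yk_, W.yl, W.yl_, W.yz, W.yz_, W.yy, W.yy_, W.si, W.si_, W.sj, W.sj_, W.sk, W.sk_, W.sl, W.sl_, W.sz, W.sz_, W.sy, W.sy_, W.ss, W.ss_, mul_inv_rev, W.inv_i, W.inv_j, W.inv_k, W.inv_l, W.inv_z, W.inv_y, W.inv_s, mul_one, one_mul]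
    calc (τ * (i * j)) * z * (τ * (i * j))⁻¹ = τ * ((i * j) * z * (i * j)⁻¹) * τ⁻¹ := by group
      _ = y := by rw [e, t1]
  have a2 : (τ * (i * j)) * y * (τ * (i * j))⁻¹ = z * y := by
    have e : (i * j) * y * (i * j)⁻¹ = z * y := by simp only [mul_assoc, W.ii, W.ii_, W.zi, W.zi_, W.jj, W.jj_, W.zj, W.zj_, W.kk, W.kk_, W.zk, W.zk_, W.ll, W.ll_, W.zl, W.zl_, W.zz, W.zz_, W.ji, W.ji_, W.ki, W.ki_, W.li, W.li_, W.kj, W.kj_, W.lj, W.lj_, W.lk, W.lk_, W.yi, W.yi_, W.yj, W.yj_, W.yk, W.yk_, W.yl, W.yl_, W.yz, W.yz_, W.yy, W.yy_, W.si, W.si_, W.sj, W.sj_, W.sk, W.sk_, W.sl, W.sl_, W.sz, W.sz_, W.sy, W.sy_, W.ss, W.ss_, mul_inv_rev, W.inv_i, W.inv_j, W.inv_k, W.inv_l, W.inv_z, W.inv_y, W.inv_s, mul_one, one_mul]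
    calc (τ * (i * j)) * y * (τ * (i * j))⁻¹ = τ * ((i * j) * y * (i * j)⁻¹) * τ⁻¹ := by group
      _ = z * y := by rw [e, conj_mul t1 t2, W.yz]
  generalize τ * (i * j) = g at a1 a2
  have a3 : g * (z * y) * g⁻¹ = z := by
    rw [conj_mul a1 a2, W.yz_, W.yy, mul_one]
  have g3z : (g * (g * g)) * z = z * (g * (g * g)) := by
    rw [← mul_inv_eq_iff_eq_mul]
    calc g * (g * g) * z * (g * (g * g))⁻¹ = g * (g * (g * z * g⁻¹) * g⁻¹) * g⁻¹ := by group
      _ = z := by rw [a1, a2, a3]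
  have g3y : (g * (g * g)) * y = y * (g * (g * g)) := by
    rw [← mul_inv_eq_iff_eq_mul]
    calc g * (g * g) * y * (g * (g * g))⁻¹ = g * (g * (g * y * g⁻¹) * g⁻¹) * g⁻¹ := by group
      _ = y := by rw [a2, a3, a1]
  obtain ⟨m0, hm0, e0⟩ := cent_zy hC ht g3z g3y
  have g6 : g * (g * g) * (g * (g * g)) = 1 := by
    rw [← e0]
    exact (sq_iff hC ht (EL_lt m0 hm0)).2 (EL_sq m0 hm0)
  have hg4 : g ^ 4 = g * (g * (g * g)) := by
    simp only [pow_succ, pow_zero, one_mul, mul_assoc]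
  have hθ3 : (g ^ 4) ^ 3 = 1 := by
    have : (g ^ 4) ^ 3 = ((g * (g * g)) * (g * (g * g))) ^ 2 := by
      simp only [pow_succ, pow_zero, one_mul, mul_assoc]
    rw [this, g6, one_pow]
  have h1 : g ^ 4 * z * (g ^ 4)⁻¹ = y := by
    rw [hg4]
    calc g * (g * (g * g)) * z * (g * (g * (g * g)))⁻¹
        = g * ((g * (g * g)) * z * (g * (g * g))⁻¹) * g⁻¹ := by group
      _ = y := by rw [g3z, mul_inv_cancel_right, a1]
  have h2 : g ^ 4 * y * (g ^ 4)⁻¹ = z * y := by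
    rw [hg4]
    calc g * (g * (g * g)) * y * (g * (g * (g * g)))⁻¹
        = g * ((g * (g * g)) * y * (g * (g * g))⁻¹) * g⁻¹ := by group
      _ = z * y := by rw [g3y, mul_inv_cancel_right, a2]
  clear hg4 g6 e0 g3y g3z
  generalize g ^ 4 = θ at hθ3 h1 h2
  have inE : ∀ a : G, a * z = z * a → a * y = y * a →
      ∃ m ∈ EL, F z i j k l x₁ x₂ y s m = θ * a * θ⁻¹ := by
    intro a haz hay
    have c1 : θ * a * θ⁻¹ * y = y * (θ * a * θ⁻¹) := by
      have : θ * a * θ⁻¹ * (θ * z * θ⁻¹) = θ * z * θ⁻¹ * (θ * a * θ⁻¹) := by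
        calc θ * a * θ⁻¹ * (θ * z * θ⁻¹) = θ * (a * z) * θ⁻¹ := by group
          _ = θ * (z * a) * θ⁻¹ := by rw [haz]
          _ = _ := by group
      rwa [h1] at this
    have c2 : θ * a * θ⁻¹ * (z * y) = z * y * (θ * a * θ⁻¹) := by
      have : θ * a * θ⁻¹ * (θ * y * θ⁻¹) = θ * y * θ⁻¹ * (θ * a * θ⁻¹) := by
        calc θ * a * θ⁻¹ * (θ * y * θ⁻¹) = θ * (a * y) * θ⁻¹ := by group
          _ = θ * (y * a) * θ⁻¹ := by rw [hay]
          _ = _ := by group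
      rwa [h2] at this
    have c3 : θ * a * θ⁻¹ * z = z * (θ * a * θ⁻¹) := by
      have e : z = z * y * y := by rw [mul_assoc, W.yy, mul_one]
      calc θ * a * θ⁻¹ * z = θ * a * θ⁻¹ * (z * y) * y := by
            rw [mul_assoc (θ * a * θ⁻¹), ← e]
        _ = z * y * (θ * a * θ⁻¹ * y) := by rw [c2]; simp only [mul_assoc]
        _ = z * y * y * (θ * a * θ⁻¹) := by rw [c1]; simp only [mul_assoc]
        _ = z * (θ * a * θ⁻¹) := by rw [← e]
    exact cent_zy hC ht c3 c1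
  obtain ⟨m, hm, em⟩ := inE (i * j * k * l) (by simp only [mul_assoc, W.ii, W.ii_, W.zi, W.zi_, W.jj, W.jj_, W.zj, W.zj_, W.kk, W.kk_, W.zk, W.zk_, W.ll, W.ll_, W.zl, W.zl_, W.zz, W.zz_, W.ji, W.ji_, W.ki, W.ki_, W.li, W.li_, W.kj, W.kj_, W.lj, W.lj_, W.lk, W.lk_, W.yi, W.yi_, W.yj, W.yj_, W.yk, W.yk_, W.yl, W.yl_, W.yz, W.yz_, W.yy, W.yy_, W.si, W.si_, W.sj, W.sj_, W.sk, W.sk_, W.sl, W.sl_, W.sz, W.sz_, W.sy, W.sy_, W.ss, W.ss_, mul_inv_rev, W.inv_i, W.inv_j, W.inv_k, W.inv_l, W.inv_z, W.inv_y, W.inv_s, mul_one, one_mul]) (by simp only [mul_assoc, W.ii, W.ii_, W.zi, W.zi_, W.jj, W.jj_, W.zj, W.zj_, W.kk, W.kk_, W.zk, W.zk_, W.ll, W.ll_, W.zl, W.zl_, W.zz, W.zz_, W.ji, W.ji_, W.ki, W.ki_, W.li, W.li_, W.kj, W.kj_, W.lj, W.lj_, W.lk, W.lk_, W.yi, W.yi_, W.yj, W.yj_, W.yk, W.yk_, W.yl, W.yl_, W.yz, W.yz_, W.yy, W.yy_, W.si, W.si_, W.sj, W.sj_, W.sk, W.sk_, W.sl, W.sl_, W.sz, W.sz_, W.sy, W.sy_, W.ss,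 W.ss_, mul_inv_rev, W.inv_i, W.inv_j, W.inv_k, W.inv_l, W.inv_z, W.inv_y, W.inv_s, mul_one, one_mul])
  obtain ⟨n, hn, en⟩ := inE s (by simp only [mul_assoc, W.ii, W.ii_, W.zi, W.zi_, W.jj, W.jj_, W.zj, W.zj_, W.kk, W.kk_, W.zk, W.zk_, W.ll, W.ll_, W.zl, W.zl_, W.zz, W.zz_, W.ji, W.ji_, W.ki, W.ki_, W.li, W.li_, W.kj, W.kj_, W.lj, W.lj_, W.lk, W.lk_, W.yi, W.yi_, W.yj, W.yj_, W.yk, W.yk_, W.yl, W.yl_, W.yz, W.yz_, W.yy, W.yy_, W.si, W.si_, W.sj, W.sj_, W.sk, W.sk_, W.sl, W.sl_, W.sz, W.sz_, W.sy, W.sy_, W.ss, W.ss_, mul_inv_rev, W.inv_i, W.inv_j, W.inv_k, W.inv_l, W.inv_z, W.inv_y, W.inv_s, mul_one, one_mul]) (by simp only [mul_assoc, W.ii, W.ii_, W.zi, W.zi_, W.jj, W.jj_, W.zj, W.zj_, W.kk, W.kk_, W.zk, W.zk_, W.ll, W.ll_, W.zl, W.zl_, W.zz, W.zz_, W.ji, W.ji_, W.ki, W.ki_, W.li, W.li_, W.kj, W.kj_, W.lj, W.lj_, W.lk, W.lk_, W.yi, W.yi_, W.yj, W.yj_, W.yk, W.yk_, W.yl, W.yl_, W.yz, W.yz_, W.yy, W.yy_,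 W.si, W.si_, W.sj, W.sj_, W.sk, W.sk_, W.sl, W.sl_, W.sz, W.sz_, W.sy, W.sy_, W.ss, W.ss_, mul_inv_rev, W.inv_i, W.inv_j, W.inv_k, W.inv_l, W.inv_z, W.inv_y, W.inv_s, mul_one, one_mul])
  have hall := conj_img h hm hn h1 h2 em.symm en.symm
  have hE15 : (15 : ℕ) ∈ EL := by decide
  have h15 : img m n (img m n (img m n 15)) = 15 := by
    have i1 := img_EL m hm n hn 15 hE15
    have i2 := img_EL m hm n hn _ i1
    have i3 := img_EL m hm n hn _ i2
    apply F_inj hC (EL_lt _ i3) (by norm_num)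
    rw [← hall _ i2, ← hall _ i1, ← hall _ hE15]
    have e3 : θ * θ * θ = 1 := by rw [← hθ3, pow_succ, pow_two]
    calc θ * (θ * (θ * F z i j k l x₁ x₂ y s 15 * θ⁻¹) * θ⁻¹) * θ⁻¹
        = (θ * θ * θ) * F z i j k l x₁ x₂ y s 15 * (θ * θ * θ)⁻¹ := by group
      _ = F z i j k l x₁ x₂ y s 15 := by rw [e3]; simp
  -- types
  have nd : ∀ u ∈ ([15, 31, 576, 864] : List ℕ), ¬ IsConj z (F z i j k l x₁ x₂ y s u) := by
    intro u hu hc
    simp only [List.mem_cons, List.not_mem_nil, or_false] at hu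
    rcases hu with rfl | rfl | rfl | rfl
    · have h5 := h.weak _ ((mem_Q_iff hC (by norm_num)).2 (by norm_num)) hc
      have h6 := F_inj hC (m := 15) (n := 16) (by norm_num) (by norm_num) (by rw [h5, F_16])
      norm_num at h6
    · have h5 := h.weak _ ((mem_Q_iff hC (by norm_num)).2 (by norm_num)) hc
      have h6 := F_inj hC (m := 31) (n := 16) (by norm_num) (by norm_num) (by rw [h5, F_16])
      norm_num at h6
    · rw [F_576] at hc; exact h.n_s hc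
    · rw [F_864 h] at hc; exact h.n_ys hc
  have nt : ∀ u ∈ EL, u ∈ ([15, 31, 576, 864] : List ℕ) →
      img m n u ∈ ([15, 31, 576, 607, 864, 879] : List ℕ) := by
    intro u hu hu'
    have i1 := img_EL m hm n hn u hu
    apply not_conj h i1
    · intro h0
      have h5 := hall u hu
      rw [h0, F_0] at h5
      have h6 : F z i j k l x₁ x₂ y s u = 1 := by
        have : F z i j k l x₁ x₂ y s u = θ⁻¹ * (θ * F z i j k l x₁ x₂ y s u * θ⁻¹) * θ := by group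
        rw [this, h5]; group
      have h7 := F_inj hC (EL_lt u hu) (by norm_num) (h6.trans F_0.symm)
      subst h7
      revert hu'
      decide
    · intro hc
      apply nd u hu'
      refine hc.trans (IsConj.symm ?_)
      exact isConj_iff.2 ⟨θ, hall u hu⟩
  have k1 := nt 15 hE15 (by decide)
  have k2 := nt 31 (by decide) (by decide)
  have k3 := nt 576 (by decide) (by decide)
  have k4 := nt 864 (by decide) (by decide)
  have hval : ∀ m ∈ EL, ∀ n ∈ EL, img m n 15 = m ∧ img m n 31 = mm 0 m 288 ∧ img m n 576 = n ∧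
      img m n 864 = mm 0 n 304 := by decide +kernel
  obtain ⟨v1, v2, v3, v4⟩ := hval m hm n hn
  rw [v1] at k1
  rw [v2] at k2
  rw [v3] at k3
  rw [v4] at k4
  obtain ⟨rfl, rfl⟩ := img_three m hm n hn k1 k2 k3 k4 h15
  refine ⟨θ, { hC with
    y_sq := h.y_sq
    s_sq := h.s_sq
    s_y := h.s_y
    θ3 := hθ3
    θz := h1
    θy := h2
    θd := ?_
    θs := ?_
    nc := ?_ }⟩
  · rw [← em, F_864 h, h.s_y]
  · rw [← en, F_607 h]
  · have := nd 15 (by decide)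
    rwa [F_15] at this

end

/-! ### Change of the frame: `s ↦ s z` -/

theorem pre_of_lfour (h : LFour Q z i j k l x₁ x₂ y s) : Pre Q z i j k l x₁ x₂ y (s * z) := by
  have W := w7 h.toCase9aa h.y1' h.s1' h.sy'
  have hz1 := z1 h.toCase9aa
  have hz2 := z2 h.toCase9aa
  have hzs : (s * z) * (s * z) = 1 := by simp only [mul_assoc, W.ii, W.ii_, W.zi, W.zi_, W.jj, W.jj_, W.zj, W.zj_, W.kk, W.kk_, W.zk, W.zk_, W.ll, W.ll_, W.zl, W.zl_, W.zz, W.zz_, W.ji, W.ji_, W.ki, W.ki_, W.li, W.li_, W.kj, W.kj_, W.lj, W.lj_, W.lk, W.lk_, W.yi, W.yi_, W.yj, W.yj_, W.yk, W.yk_, W.yl, W.yl_, W.yz, W.yz_, W.yy, W.yy_, W.si, W.si_, W.sj, W.sj_, W.sk, W.sk_, W.sl, W.sl_, W.sz, W.sz_, W.sy, W.sy_, W.ss, W.ss_, mul_inv_rev, W.inv_i, W.inv_j, W.inv_k, W.inv_l, W.inv_z, W.inv_y, W.inv_s, mul_one, one_mul]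
  have hcz : ∀ a b : G, Commute z a → s * a * s⁻¹ = b → s * z * a * (s * z)⁻¹ = b := by
    intro a b hc he
    calc s * z * a * (s * z)⁻¹ = s * (z * a) * z⁻¹ * s⁻¹ := by group
      _ = s * (a * z) * z⁻¹ * s⁻¹ := by rw [hc.eq]
      _ = s * a * s⁻¹ := by group
      _ = b := he
  have hy : s * z * y = y * (s * z) := by simp only [mul_assoc, W.ii, W.ii_, W.zi, W.zi_, W.jj, W.jj_, W.zj, W.zj_, W.kk, W.kk_, W.zk, W.zk_, W.ll, W.ll_, W.zl, W.zl_, W.zz, W.zz_, W.ji, W.ji_, W.ki, W.ki_, W.li, W.li_, W.kj, W.kj_, W.lj, W.lj_, W.lk, W.lk_, W.yi, W.yi_, W.yj, W.yj_, W.yk, W.yk_, W.yl, W.yl_, W.yz, W.yz_, W.yy, W.yy_, W.si, W.si_, W.sj, W.sj_, W.sk, W.sk_, W.sl, W.sl_, W.sz, W.sz_, W.sy, W.sy_, W.ss, W.ss_, mul_inv_rev, W.inv_i, W.inv_j, W.inv_k, W.inv_l, W.inv_z, W.inv_y, W.inv_s, mul_one, one_mul]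
  refine { h.toPlus with
    x₁3 := h.x₁3, x₂3 := h.x₂3, x₁_act := h.x₁_act, x₂_act := h.x₂_act, y_act := h.y_act,
    s_act := ⟨hcz _ _ (Commute.refl z) h.s_act.z, hcz _ _ W.zi h.s_act.i, hcz _ _ W.zj h.s_act.j,
      hcz _ _ W.zk h.s_act.k, hcz _ _ W.zl h.s_act.l⟩
    xx := h.xx, y1 := h.y1, y2 := h.y2, s1 := hcz _ _ hz1.symm h.s1, s2 := hcz _ _ hz2.symm h.s2,
    yy := h.yy, ss := Or.inl hzs, ys := Or.inl (by rw [hy, mul_inv_cancel_right]),
    cent := ?_, card_cent := h.card_cent, y_sq := h.y1', s_sq := hzs, s_y := hy, weak := h.weak,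
    c_y := h.conj_y, c_zs := ?_, c_zys := ?_, n_s := h.nconj_sz, n_ys := ?_ }
  · rw [h.cent]
    apply le_antisymm <;> rw [Subgroup.closure_le] <;> intro g hg <;>
      simp only [Set.mem_insert_iff, Set.mem_singleton_iff] at hg
    · have hi : i ∈ Subgroup.closure ({i, j, k, l, x₁, x₂, y, s * z} : Set G) :=
        Subgroup.subset_closure (by simp)
      have hzm : z ∈ Subgroup.closure ({i, j, k, l, x₁, x₂, y, s * z} : Set G) := by
        have := mul_mem hi hi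
        rwa [h.ii] at this
      rcases hg with rfl | rfl | rfl | rfl | rfl | rfl | rfl | rfl
      · exact Subgroup.subset_closure (by simp)
      · exact Subgroup.subset_closure (by simp)
      · exact Subgroup.subset_closure (by simp)
      · exact Subgroup.subset_closure (by simp)
      · exact Subgroup.subset_closure (by simp)
      · exact Subgroup.subset_closure (by simp)
      · exact Subgroup.subset_closure (by simp)
      · have h1 : g * z ∈ Subgroup.closure ({i, j, k, l, x₁, x₂, y, g * z} : Set G) :=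
          Subgroup.subset_closure (by simp)
        have h2 := mul_mem h1 hzm
        rwa [mul_assoc, W.zz, mul_one] at h2
    · have hi : i ∈ Subgroup.closure ({i, j, k, l, x₁, x₂, y, s} : Set G) :=
        Subgroup.subset_closure (by simp)
      have hzm : z ∈ Subgroup.closure ({i, j, k, l, x₁, x₂, y, s} : Set G) := by
        have := mul_mem hi hi
        rwa [h.ii] at this
      rcases hg with rfl | rfl | rfl | rfl | rfl | rfl | rfl | rfl
      · exact Subgroup.subset_closure (by simp)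
      · exact Subgroup.subset_closure (by simp)
      · exact Subgroup.subset_closure (by simp)
      · exact Subgroup.subset_closure (by simp)
      · exact Subgroup.subset_closure (by simp)
      · exact Subgroup.subset_closure (by simp)
      · exact Subgroup.subset_closure (by simp)
      · exact mul_mem (Subgroup.subset_closure (by simp)) hzm
  · have : z * (s * z) = s := by simp only [mul_assoc, W.ii, W.ii_, W.zi, W.zi_, W.jj, W.jj_, W.zj, W.zj_, W.kk, W.kk_, W.zk, W.zk_, W.ll, W.ll_, W.zl, W.zl_, W.zz, W.zz_, W.ji, W.ji_, W.ki, W.ki_, W.li, W.li_, W.kj, W.kj_, W.lj, W.lj_, W.lk, W.lk_, W.yi, W.yi_, W.yj, W.yj_, W.yk, W.yk_, W.yl, W.yl_, W.yz, W.yz_, W.yy, W.yy_, W.si, W.si_, W.sj, W.sj_, W.sk, W.sk_, W.sl, W.sl_, W.sz, W.sz_, W.sy, W.sy_, W.ss, W.ss_, mul_inv_rev, W.inv_i, W.inv_j, W.inv_k, W.inv_l, W.inv_z, W.inv_y, W.inv_s, mul_one, one_mul]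
    rw [this]; exact h.conj_s
  · have : z * (y * (s * z)) = s * y := by simp only [mul_assoc, W.ii, W.ii_, W.zi, W.zi_, W.jj, W.jj_, W.zj, W.zj_, W.kk, W.kk_, W.zk, W.zk_, W.ll, W.ll_, W.zl, W.zl_, W.zz, W.zz_, W.ji, W.ji_, W.ki, W.ki_, W.li, W.li_, W.kj, W.kj_, W.lj, W.lj_, W.lk, W.lk_, W.yi, W.yi_, W.yj, W.yj_, W.yk, W.yk_, W.yl, W.yl_, W.yz, W.yz_, W.yy, W.yy_, W.si, W.si_, W.sj, W.sj_, W.sk, W.sk_, W.sl, W.sl_, W.sz, W.sz_, W.sy, W.sy_, W.ss, W.ss_, mul_inv_rev, W.inv_i, W.inv_j, W.inv_k, W.inv_l, W.inv_z, W.inv_y, W.inv_s, mul_one, one_mul]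
    rw [this]; exact h.conj_sy
  · have : y * (s * z) = s * y * z := by simp only [mul_assoc, W.ii, W.ii_, W.zi, W.zi_, W.jj, W.jj_, W.zj, W.zj_, W.kk, W.kk_, W.zk, W.zk_, W.ll, W.ll_, W.zl, W.zl_, W.zz, W.zz_, W.ji, W.ji_, W.ki, W.ki_, W.li, W.li_, W.kj, W.kj_, W.lj, W.lj_, W.lk, W.lk_, W.yi, W.yi_, W.yj, W.yj_, W.yk, W.yk_, W.yl, W.yl_, W.yz, W.yz_, W.yy, W.yy_, W.si, W.si_, W.sj, W.sj_, W.sk, W.sk_, W.sl, W.sl_, W.sz, W.sz_, W.sy, W.sy_, W.ss, W.ss_, mul_inv_rev, W.inv_i, W.inv_j, W.inv_k, W.inv_l, W.inv_z, W.inv_y, W.inv_s, mul_one, one_mul]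
    rw [this]; exact h.nconj_syz

/-- **the bridge from helper465's fusion data** -/
theorem exists_fus_of_lfour [Finite G] (h : LFour Q z i j k l x₁ x₂ y s) :
    ∃ θ : G, Fus Q z i j k l x₁ x₂ y (s * z) θ := exists_fus (pre_of_lfour h)

end Cfsg.Agent.LargeExtra.W2.LFour.Bridge
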