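import Cfsg.Agent.CoOneType.LThree
import Cfsg.Agent.LargeExtra.W2.ThreeA
import Cfsg.Agent.S0051

/-!
# S1759, `L₄(3)`: abstract part of the structure of `C_G(v)` (helper465)

`v` of order four with `v² = d`, `C_G(⟨v, ζ⟩) = ⟨v⟩ ⟨σ, τ⟩`, `⟨σ, τ⟩` dihedral of order eight with centre `ζ`,
`ζ` not conjugate to `d ζ`, and an amalgam `ζ σ τ x y` in `C_G(v)`. Then `C_G(v) = ⟨v⟩ × ⟨σ, τ, x, y⟩` and the second
factor has order 168 or 360.
-/

set_option autoImplicit false

namespace Cfsg.Agent.LargeExtra.W2.LFour.CVAbs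

open Subgroup Cfsg.Agent.CoOneType.LThree Cfsg.Agent.LargeExtra.W2.ThreeA

/-- squares of elements of `⟨s, t⟩` -/
theorem sq_cases {G : Type*} [Group G] {z s t x y : G} (h : Amalgam z s t x y) {g : G}
    (hg : g ∈ closure ({s, t} : Set G)) : g * g = 1 ∨ g * g = z := by
  have hs := h.comm.1
  have ht := h.comm.2
  have hst : s * t * z = z * (s * t) := by rw [mul_assoc, h.comm.2, ← mul_assoc, h.comm.1, mul_assoc]
  rcases h.cases hg with rfl | rfl | rfl | rfl | rfl | rfl | rfl | rfl
  · left; rw [one_mul]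
  · left; exact h.zz
  · left; exact h.ss
  · left; exact h.zs_sq
  · left; exact h.tt
  · left; exact h.zt_sq
  · right; exact h.hz
  · right
    have h4 : z * (s * t) * (z * (s * t)) = z * z * (s * t * (s * t)) := by
      rw [mul_assoc, ← mul_assoc (s * t) z, hst]
      simp only [mul_assoc]
    rw [h4, h.zz, one_mul, h.hz]

/-- Two-subgroups which contain their normalizer are Sylow subgroups. -/
theorem exists_sylow_eq {X : Type*} [Group X] [Finite X] {D : Subgroup X} (hD : IsPGroup 2 D)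
    (hN : ∀ n, (∀ q ∈ D, n * q * n⁻¹ ∈ D) → n ∈ D) : ∃ S : Sylow 2 X, (S : Subgroup X) = D := by
  have hp2 : Fact (Nat.Prime 2) := ⟨Nat.prime_two⟩
  obtain ⟨S, hS⟩ := hD.exists_le_sylow
  refine ⟨S, ?_⟩
  by_contra hne
  obtain ⟨r, hr1, hr2, hr3⟩ := exists_normalizing (T := (S : Subgroup X)) (Q := D) S.isPGroup' hS
    (fun e => hne e.symm)
  exact hr2 (hN r hr3)

section perfect

variable {X : Type*} [Group X] [Finite X] {z s t x y : X}

theorem isPGroup_D (h : Amalgam z s t x y) : IsPGroup 2 (closure ({s, t} : Set X)) :=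
  IsPGroup.of_card (n := 3) h.card_D

theorem norm_D (h : Amalgam z s t x y)
    (hC : ∀ g : X, g * z = z * g → g ∈ closure ({s, t} : Set X)) (n : X)
    (hn : ∀ q ∈ closure ({s, t} : Set X), n * q * n⁻¹ ∈ closure ({s, t} : Set X)) :
    n ∈ closure ({s, t} : Set X) := by
  have hst : s * t ∈ closure ({s, t} : Set X) :=
    mul_mem (subset_closure (by simp)) (subset_closure (by simp))
  have h1 := hn _ hst
  have h2 := sq_cases h h1
  have h3 : n * (s * t) * n⁻¹ * (n * (s * t) * n⁻¹) = n * z * n⁻¹ := by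
    rw [← h.hz]; group
  rw [h3] at h2
  apply hC
  rcases h2 with h2 | h2
  · exact absurd (by rwa [conj_eq_one_iff] at h2) h.z1
  · exact mul_inv_eq_iff_eq_mul.1 h2

theorem perfect_of (h : Amalgam z s t x y)
    (hC : ∀ g : X, g * z = z * g → g ∈ closure ({s, t} : Set X)) : commutator X = ⊤ := by
  have hp2 : Fact (Nat.Prime 2) := ⟨Nat.prime_two⟩
  obtain ⟨S, hS⟩ := exists_sylow_eq (isPGroup_D h) (norm_D h hC)
  have hz : z ∈ commutator X := by
    have h1 : z = s⁻¹ * (x⁻¹ * (s⁻¹)⁻¹ * (x⁻¹)⁻¹) := by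
      rw [inv_inv, inv_inv, h.conj_zs, inv_eq_of_mul_eq_one_left h.ss, ← mul_assoc, h.comm.1, mul_assoc, h.ss,
        mul_one]
    rw [h1, ← mul_assoc, ← mul_assoc]
    exact Subgroup.commutator_mem_commutator (Subgroup.mem_top _) (Subgroup.mem_top _)
  have h4 := h.closure_le (commutator X) inferInstance hz
  have hD : (S : Subgroup X) ≤ commutator X := by
    rw [hS]
    exact le_trans (closure_mono (by intro g hg; simp only [Set.mem_insert_iff, Set.mem_singleton_iff] at hg ⊢; tauto)) h4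
  have h5 := Sylow.normalizer_sup_eq_top' S hD
  rw [eq_top_iff, ← h5]
  apply sup_le _ le_rfl
  intro n hn
  apply hD
  rw [hS]
  apply norm_D h hC
  intro q hq
  rw [← hS] at hq ⊢
  exact (Subgroup.mem_normalizer_iff.1 hn q).1 hq

/-- The order is 168 or 360 even without the hypothesis that the amalgam generates. -/
theorem card_of (h : Amalgam z s t x y)
    (hC : ∀ g : X, g * z = z * g → g ∈ closure ({s, t} : Set X)) :
    Nat.card X = 168 ∨ Nat.card X = 360 := by
  obtain ⟨e⟩ := h.card_closure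
  have hz : orderOf z = 2 := orderOf_eq_prime (by rw [pow_two, h.zz]) h.z1
  exact Cfsg.Agent.S0848.result (perfect_of h hC) z hz
    ((MulEquiv.subgroupCongr (h.centralizer_eq hC)).trans e)

end perfect

end Cfsg.Agent.LargeExtra.W2.LFour.CVAbs
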