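import Cfsg.Agent.LargeExtra.W2.LFour.CVInst

/-!
# S1759, `L₄(3)`: `C_G(v) = ⟨v⟩ × M`, `M = ⟨s, T, w, b⟩` (helper465)
-/

set_option autoImplicit false

namespace Cfsg.Agent.LargeExtra.W2.LFour.CVCent

open Subgroup Cfsg.Agent.CoOneType.LThree Cfsg.Agent.LargeExtra.W2.LFour.CVAbs
  Cfsg.Agent.LargeExtra.W2.LFour.CVComp Cfsg.Agent.LargeExtra.W2.LFour.CVMain
  Cfsg.Agent.LargeExtra.W2.LFour.ModF Cfsg.Agent.LargeExtra.W2.LFour.PresDef
  Cfsg.Agent.LargeExtra.W2.LFour.CVInst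

variable {G : Type*} [Group G] {Q : Subgroup G} {z i j k l x₁ x₂ y s θ w w' : G}

theorem f_vp {f : Fin 1152 → G} (M : Mod f z i j k l x₁ x₂ y s) (n : ℕ) : f (vp n) = (y * (i * k)) ^ n := by
  induction n with
  | zero => rw [pow_zero]; exact M.f_one
  | succ n ih =>
    have e : f 298 = y * (i * k) := by symm; code M
    show f (mu (vp n) 298) = _
    rw [M.f_mu, ih, e, pow_succ]

theorem f_dl {f : Fin 1152 → G} (M : Mod f z i j k l x₁ x₂ y s) {e : Fin 1152} (he : e ∈ dl) :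
    f e ∈ closure ({i * j * k * l * z * s, i * j * k * l * z * (i * (s * y) * i⁻¹)} : Set G) := by
  have h1 : f cσ = i * j * k * l * z * s := by symm; code M
  have h2 : f cτ = i * j * k * l * z * (i * (s * y) * i⁻¹) := by symm; code M
  have m1 : f cσ ∈ closure ({i * j * k * l * z * s, i * j * k * l * z * (i * (s * y) * i⁻¹)} : Set G) := by
    rw [h1]; exact subset_closure (by simp)
  have m2 : f cτ ∈ closure ({i * j * k * l * z * s, i * j * k * l * z * (i * (s * y) * i⁻¹)} : Set G) := by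
    rw [h2]; exact subset_closure (by simp)
  simp only [dl, List.mem_cons, List.not_mem_nil, or_false] at he
  rcases he with rfl | rfl | rfl | rfl | rfl | rfl | rfl | rfl <;> try simp only [M.f_mu, M.f_one]
  · exact one_mem _
  · exact m1
  · exact m2
  · exact mul_mem m1 m2
  · exact mul_mem m2 m1
  · exact mul_mem (mul_mem m1 m2) m1
  · exact mul_mem (mul_mem m2 m1) m2
  · exact mul_mem (mul_mem m1 m2) (mul_mem m1 m2)

/-- `C_G(⟨v, ζ⟩) = ⟨v⟩ ⟨σ, τ⟩` -/
theorem cent_vz [Finite G] (h : Elem2 Q z i j k l x₁ x₂ y s θ w w') {g : G}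
    (hv : g * (y * (i * k)) = y * (i * k) * g) (hz : g * z = z * g) :
    ∃ n : ℕ, ∃ e ∈ closure ({i * j * k * l * z * s, i * j * k * l * z * (i * (s * y) * i⁻¹)} : Set G),
      g = (y * (i * k)) ^ n * e := by
  obtain ⟨f, M⟩ := mod_of h
  obtain ⟨m, rfl⟩ := M.surj g hz
  have e298 : f 298 = y * (i * k) := by symm; code M
  have h1 : mu m 298 = mu 298 m := by
    apply M.inj
    rw [M.f_mu, M.f_mu, e298, hv]
  obtain ⟨n, -, e, he, hme⟩ := dec_cent m h1
  refine ⟨n, f e, f_dl M he, ?_⟩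
  rw [← f_vp M, ← M.f_mu, ← hme]

theorem z_eq [Finite G] (h : Elem2 Q z i j k l x₁ x₂ y s θ w w') :
    y * (i * k) * (y * (i * k)) * (i * j * k * l * z) = z := by
  obtain ⟨f, M⟩ := mod_of h
  code M

theorem not_conj [Finite G] (h : Elem2 Q z i j k l x₁ x₂ y s θ w w') (g : G) :
    g * z * g⁻¹ ≠ i * j * k * l * z := by
  intro e
  obtain ⟨f, M⟩ := mod_of h
  apply h.nc
  have e1 : i * (i * j * k * l * z) * i⁻¹ = i * j * k * l := by code M
  refine isConj_iff.2 ⟨i * g, ?_⟩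
  rw [← e1, ← e]; group

theorem mem_v [Finite G] (h : Elem2 Q z i j k l x₁ x₂ y s θ w w') :
    (i * j * k * l * z ∈ centralizer ({y * (i * k)} : Set G)) ∧
    (i * j * k * l * z * s ∈ centralizer ({y * (i * k)} : Set G)) ∧
    (i * j * k * l * z * (i * (s * y) * i⁻¹) ∈ centralizer ({y * (i * k)} : Set G)) ∧
    (w⁻¹ ∈ centralizer ({y * (i * k)} : Set G)) ∧
    ((i * w' * i⁻¹)⁻¹ ∈ centralizer ({y * (i * k)} : Set G)) := by
  obtain ⟨f, M⟩ := mod_of h
  refine ⟨?_, ?_, ?_, ?_, ?_⟩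
  · rw [mem_centralizer_singleton_iff]; code M
  · rw [mem_centralizer_singleton_iff]; code M
  · rw [mem_centralizer_singleton_iff]; code M
  · exact inv_mem (mem_centralizer_singleton_iff.2 (v_w h).symm)
  · exact inv_mem (mem_centralizer_singleton_iff.2 (v_b h).symm)

/-- the main structure in `C_G(v)` -/
theorem cen [Finite G] (h : Elem2 Q z i j k l x₁ x₂ y s θ w w') :
    Cen (⟨y * (i * k), mem_centralizer_singleton_iff.2 rfl⟩ : centralizer ({y * (i * k)} : Set G))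
      ⟨_, (mem_v h).1⟩ ⟨_, (mem_v h).2.1⟩ ⟨_, (mem_v h).2.2.1⟩ ⟨_, (mem_v h).2.2.2.1⟩ ⟨_, (mem_v h).2.2.2.2⟩ := by
  obtain ⟨f, M⟩ := mod_of h
  refine
    { am := am_sub (amalgam h) _ _ _ _ _ _
      vc := ?_, v4 := ?_, v2 := ?_, nc := ?_, cent := ?_ }
  · rintro ⟨g, hg⟩
    exact Subtype.ext (mem_centralizer_singleton_iff.1 hg).symm
  · apply Subtype.ext
    show y * (i * k) * (y * (i * k)) * (y * (i * k) * (y * (i * k))) = 1
    code M
  · intro e
    have e1 : y * (i * k) * (y * (i * k)) = 1 := congrArg Subtype.val e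
    have h1 : f 15 = f 0 := by
      rw [M.f_one, ← e1]; symm; code M
    exact absurd (M.inj _ _ h1) (by decide)
  · rintro ⟨g, hg⟩ e
    have e1 : g * (y * (i * k) * (y * (i * k)) * (i * j * k * l * z)) * g⁻¹ = i * j * k * l * z :=
      congrArg Subtype.val e
    rw [z_eq h] at e1
    exact not_conj h g e1
  · rintro ⟨g, hg⟩ e
    have e1 : g * (i * j * k * l * z) = i * j * k * l * z * g := congrArg Subtype.val e
    have hgv := mem_centralizer_singleton_iff.1 hg
    have hgz : g * z = z * g := by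
      have hc : Commute g (y * (i * k) * (y * (i * k)) * (i * j * k * l * z)) :=
        ((show Commute g (y * (i * k)) from hgv).mul_right hgv).mul_right e1
      rw [z_eq h] at hc
      exact hc.eq
    obtain ⟨n, e', he', rfl⟩ := cent_vz h hgv hgz
    have he'' : e' ∈ centralizer ({y * (i * k)} : Set G) := by
      have hle : closure ({i * j * k * l * z * s, i * j * k * l * z * (i * (s * y) * i⁻¹)} : Set G) ≤
          centralizer ({y * (i * k)} : Set G) := by
        rw [closure_le]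
        rintro g (rfl | rfl)
        · exact (mem_v h).2.1
        · exact (mem_v h).2.2.1
      exact hle he'
    refine ⟨n, ⟨e', he''⟩, mem_closure_sub (mem_v h).2.1 (mem_v h).2.2.1 he' he'', ?_⟩
    apply Subtype.ext
    simp

/-- the image in `G` -/
theorem map_closure4 {A : Subgroup G} {a b c d : G} (ha : a ∈ A) (hb : b ∈ A) (hc : c ∈ A) (hd : d ∈ A) :
    (closure ({⟨a, ha⟩, ⟨b, hb⟩, ⟨c, hc⟩, ⟨d, hd⟩} : Set A)).map A.subtype = closure ({a, b, c, d} : Set G) := by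
  rw [MonoidHom.map_closure]
  congr 1
  simp [Set.image_insert_eq]

theorem map_closure2 {A : Subgroup G} {a b : G} (ha : a ∈ A) (hb : b ∈ A) :
    (closure ({⟨a, ha⟩, ⟨b, hb⟩} : Set A)).map A.subtype = closure ({a, b} : Set G) := by
  rw [MonoidHom.map_closure]
  congr 1
  simp [Set.image_insert_eq]

/-- `M = ⟨s, T, w, b⟩` -/
theorem gen_eq [Finite G] (h : Elem2 Q z i j k l x₁ x₂ y s θ w w') :
    closure ({i * j * k * l * z * s, i * j * k * l * z * (i * (s * y) * i⁻¹), w⁻¹, (i * w' * i⁻¹)⁻¹} : Set G) =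
      closure ({s, i * (s * y) * i⁻¹, w, i * w' * i⁻¹} : Set G) := by
  obtain ⟨f, M⟩ := mod_of h
  have k1 : ∀ N : Subgroup G, s ∈ N → i * (s * y) * i⁻¹ ∈ N → i * j * k * l * z ∈ N := by
    intro N hs hT
    have : i * j * k * l * z = s * (i * (s * y) * i⁻¹) * (s * (i * (s * y) * i⁻¹)) := by code M
    rw [this]; exact mul_mem (mul_mem hs hT) (mul_mem hs hT)
  have k2 : ∀ N : Subgroup G, i * j * k * l * z * s ∈ N → i * j * k * l * z * (i * (s * y) * i⁻¹) ∈ N →
      s ∈ N ∧ i * (s * y) * i⁻¹ ∈ N := by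
    intro N hs hT
    have e1 : s = i * j * k * l * z * s * (i * j * k * l * z * (i * (s * y) * i⁻¹)) *
        (i * j * k * l * z * s * (i * j * k * l * z * (i * (s * y) * i⁻¹))) * (i * j * k * l * z * s) := by code M
    have e2 : i * (s * y) * i⁻¹ = i * j * k * l * z * s * (i * j * k * l * z * (i * (s * y) * i⁻¹)) *
        (i * j * k * l * z * s * (i * j * k * l * z * (i * (s * y) * i⁻¹))) *
          (i * j * k * l * z * (i * (s * y) * i⁻¹)) := by code M
    constructor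
    · rw [e1]; exact mul_mem (mul_mem (mul_mem hs hT) (mul_mem hs hT)) hs
    · rw [e2]; exact mul_mem (mul_mem (mul_mem hs hT) (mul_mem hs hT)) hT
  apply le_antisymm
  · rw [closure_le]
    have hs : s ∈ closure ({s, i * (s * y) * i⁻¹, w, i * w' * i⁻¹} : Set G) := subset_closure (by simp)
    have hT : i * (s * y) * i⁻¹ ∈ closure ({s, i * (s * y) * i⁻¹, w, i * w' * i⁻¹} : Set G) :=
      subset_closure (by simp)
    have hz := k1 _ hs hT
    have hw : w ∈ closure ({s, i * (s * y) * i⁻¹, w, i * w' * i⁻¹} : Set G) := subset_closure (by simp)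
    have hb : i * w' * i⁻¹ ∈ closure ({s, i * (s * y) * i⁻¹, w, i * w' * i⁻¹} : Set G) :=
      subset_closure (by simp)
    rintro g (rfl | rfl | rfl | rfl)
    · exact mul_mem hz hs
    · exact mul_mem hz hT
    · exact inv_mem hw
    · exact inv_mem hb
  · rw [closure_le]
    have h1 : i * j * k * l * z * s ∈ closure ({i * j * k * l * z * s,
      i * j * k * l * z * (i * (s * y) * i⁻¹), w⁻¹, (i * w' * i⁻¹)⁻¹} : Set G) := subset_closure (Or.inl rfl)
    have h2 : i * j * k * l * z * (i * (s * y) * i⁻¹) ∈ closure ({i * j * k * l * z * s,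
      i * j * k * l * z * (i * (s * y) * i⁻¹), w⁻¹, (i * w' * i⁻¹)⁻¹} : Set G) :=
        subset_closure (Or.inr (Or.inl rfl))
    have h3 : w⁻¹ ∈ closure ({i * j * k * l * z * s,
      i * j * k * l * z * (i * (s * y) * i⁻¹), w⁻¹, (i * w' * i⁻¹)⁻¹} : Set G) :=
        subset_closure (Or.inr (Or.inr (Or.inl rfl)))
    have h4 : (i * w' * i⁻¹)⁻¹ ∈ closure ({i * j * k * l * z * s,
      i * j * k * l * z * (i * (s * y) * i⁻¹), w⁻¹, (i * w' * i⁻¹)⁻¹} : Set G) :=
        subset_closure (Or.inr (Or.inr (Or.inr rfl)))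
    generalize closure ({i * j * k * l * z * s,
      i * j * k * l * z * (i * (s * y) * i⁻¹), w⁻¹, (i * w' * i⁻¹)⁻¹} : Set G) = N at h1 h2 h3 h4 ⊢
    obtain ⟨h5, h6⟩ := k2 N h1 h2
    rintro g (rfl | rfl | rfl | rfl)
    · exact h5
    · exact h6
    · rw [← inv_inv g]; exact inv_mem h3
    · rw [← inv_inv (i * w' * i⁻¹)]; exact inv_mem h4

/-- MAIN: `C_G(v) = ⟨v⟩ × M`. -/
theorem main [Finite G] (h : Elem2 Q z i j k l x₁ x₂ y s θ w w') :
    (∀ g ∈ closure ({s, i * (s * y) * i⁻¹, w, i * w' * i⁻¹} : Set G), g * (i * j * k * l * z) =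
      i * j * k * l * z * g → g ∈ closure ({i * j * k * l * z * s,
        i * j * k * l * z * (i * (s * y) * i⁻¹)} : Set G)) ∧
    (∀ n : ℤ, (y * (i * k)) ^ n ∈ closure ({s, i * (s * y) * i⁻¹, w, i * w' * i⁻¹} : Set G) →
      (y * (i * k)) ^ n = 1) ∧
    (∀ g : G, g * (y * (i * k)) = y * (i * k) * g → ∃ n : ℤ, ∃ a ∈ closure ({s, i * (s * y) * i⁻¹, w,
      i * w' * i⁻¹} : Set G), g = (y * (i * k)) ^ n * a) ∧
    (Nat.card (closure ({s, i * (s * y) * i⁻¹, w, i * w' * i⁻¹} : Set G)) = 168 ∨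
      Nat.card (closure ({s, i * (s * y) * i⁻¹, w, i * w' * i⁻¹} : Set G)) = 360) := by
  obtain ⟨h1, h2, h3, h4⟩ := CenM.main (cen h)
  have hmap := map_closure4 (mem_v h).2.1 (mem_v h).2.2.1 (mem_v h).2.2.2.1 (mem_v h).2.2.2.2
  rw [gen_eq h] at hmap
  have hmem : ∀ g (hg : g ∈ centralizer ({y * (i * k)} : Set G)),
      g ∈ closure ({s, i * (s * y) * i⁻¹, w, i * w' * i⁻¹} : Set G) →
      (⟨g, hg⟩ : centralizer ({y * (i * k)} : Set G)) ∈ closure ({⟨_, (mem_v h).2.1⟩, ⟨_, (mem_v h).2.2.1⟩,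
        ⟨_, (mem_v h).2.2.2.1⟩, ⟨_, (mem_v h).2.2.2.2⟩} : Set (centralizer ({y * (i * k)} : Set G))) := by
    intro g hg hgM
    rw [← hmap] at hgM
    obtain ⟨g', hg', he⟩ := hgM
    have : g' = ⟨g, hg⟩ := Subtype.ext he
    rwa [← this]
  have hle : closure ({s, i * (s * y) * i⁻¹, w, i * w' * i⁻¹} : Set G) ≤ centralizer ({y * (i * k)} : Set G) := by
    rw [← hmap]
    rintro _ ⟨g, -, rfl⟩
    exact g.2
  refine ⟨?_, ?_, ?_, ?_⟩
  · intro g hg hgz
    have h5 := h1 ⟨g, hle hg⟩ (hmem g _ hg) (Subtype.ext hgz)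
    have h6 := map_closure2 (mem_v h).2.1 (mem_v h).2.2.1
    rw [← h6]
    exact ⟨_, h5, rfl⟩
  · intro n hn
    have h5 := h2 n (by
      have := hmem _ (hle hn) hn
      convert this using 1
      apply Subtype.ext; simp)
    have h6 := congrArg Subtype.val h5
    simpa using h6
  · intro g hg
    obtain ⟨n, a, ha, e⟩ := h3 ⟨g, mem_centralizer_singleton_iff.2 hg⟩
    refine ⟨n, a, ?_, ?_⟩
    · rw [← hmap]; exact ⟨a, ha, rfl⟩
    · have := congrArg Subtype.val e
      simpa using this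
  · have h5 : Nat.card (closure ({s, i * (s * y) * i⁻¹, w, i * w' * i⁻¹} : Set G)) =
        Nat.card (closure ({⟨_, (mem_v h).2.1⟩, ⟨_, (mem_v h).2.2.1⟩,
        ⟨_, (mem_v h).2.2.2.1⟩, ⟨_, (mem_v h).2.2.2.2⟩} : Set (centralizer ({y * (i * k)} : Set G)))) := by
      rw [← hmap]
      exact Subgroup.card_map_of_injective (Subgroup.subtype_injective _)
    rw [h5]
    exact h4

end Cfsg.Agent.LargeExtra.W2.LFour.CVCent
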