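import Cfsg.Agent.LargeExtra.W2.LFour.CVAbs

/-!
# S1759, `L₄(3)`: the centralizer of an element of order four splits (helper465)
-/

set_option autoImplicit false

namespace Cfsg.Agent.LargeExtra.W2.LFour.CVComp

open Subgroup Cfsg.Agent.CoOneType.LThree Cfsg.Agent.LargeExtra.W2.ThreeA Cfsg.Agent.LargeExtra.W2.LFour.CVAbs

/-- `v` of order four is central, `C(ζ) = ⟨v⟩ ⟨σ, τ⟩`. -/
structure Cen {X : Type*} [Group X] (v z s t x y : X) : Prop where
  am : Amalgam z s t x y
  vc : ∀ g, v * g = g * v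
  v4 : v * v * (v * v) = 1
  v2 : v * v ≠ 1
  nc : ∀ g : X, g * (v * v * z) * g⁻¹ ≠ z
  cent : ∀ g, g * z = z * g → ∃ n : ℕ, ∃ e ∈ closure ({s, t} : Set X), g = v ^ n * e

namespace Cen

variable {X : Type*} [Group X] {v z s t x y : X} (h : Cen v z s t x y)

include h

theorem d_ne : v * v ∉ closure ({s, t} : Set X) := by
  intro hd
  have hdx : v * v * x = x * (v * v) := by rw [mul_assoc, h.vc x, ← mul_assoc, h.vc x, mul_assoc]
  have hdy : v * v * y = y * (v * v) := by rw [mul_assoc, h.vc y, ← mul_assoc, h.vc y, mul_assoc]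
  have hdd := h.v4
  have hs := h.am.comm.1
  have ht := h.am.comm.2
  rcases h.am.cases hd with e | e | e | e | e | e | e | e
  · exact h.v2 e
  · rw [e] at hdx
    have h1 : s = z := (mul_left_cancel (hdx.symm.trans h.am.zx)).symm
    apply h.am.z1
    rw [← h.am.hz, h1]
    rw [mul_assoc, ← mul_assoc t z t, ht, mul_assoc z t t, h.am.tt, mul_one, h.am.zz]
  · rw [e] at hdx
    have h1 : s = z * s := mul_left_cancel (hdx.symm.trans h.am.sx)
    exact h.am.z1 (right_eq_mul.1 h1)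
  · rw [e] at hdx
    have h1 : z * s * x = x * z := by
      rw [mul_assoc, h.am.sx, ← mul_assoc, h.am.zx, mul_assoc, ← mul_assoc s z s, hs, mul_assoc, h.am.ss, mul_one]
    have h2 : z * s = z := mul_left_cancel (hdx.symm.trans h1)
    exact h.am.s1 (mul_eq_left.1 h2)
  · rw [e] at hdy
    have h1 : t = z * t := mul_left_cancel (hdy.symm.trans h.am.ty)
    exact h.am.z1 (right_eq_mul.1 h1)
  · rw [e] at hdy
    have h1 : z * t * y = y * z := by
      rw [mul_assoc, h.am.ty, ← mul_assoc, h.am.zy, mul_assoc, ← mul_assoc t z t, ht, mul_assoc, h.am.tt, mul_one]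
    have h2 : z * t = z := mul_left_cancel (hdy.symm.trans h1)
    exact h.am.t1 (mul_eq_left.1 h2)
  · rw [e, h.am.hz] at hdd
    exact h.am.z1 hdd
  · have hst : s * t * z = z * (s * t) := by rw [mul_assoc, h.am.comm.2, ← mul_assoc, h.am.comm.1, mul_assoc]
    have h4 : z * (s * t) * (z * (s * t)) = z * z * (s * t * (s * t)) := by
      rw [mul_assoc, ← mul_assoc (s * t) z, hst]
      simp only [mul_assoc]
    rw [e, h4, h.am.zz, one_mul, h.am.hz] at hdd
    exact h.am.z1 hdd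

theorem vcomm (g : X) : Commute v g := h.vc g

theorem sq_v (n : ℤ) : v ^ n * v ^ n = 1 ∨ v ^ n * v ^ n = v * v := by
  have h2 : v ^ n * v ^ n = (v * v) ^ n := by
    rw [← zpow_add, ← two_mul, zpow_mul]; congr 1; exact zpow_ofNat v 2 |>.trans (pow_two v)
  rw [h2]
  rcases Int.even_or_odd n with ⟨m, hm⟩ | ⟨m, hm⟩
  · left
    rw [hm, zpow_add, ← (Commute.refl (v * v)).mul_zpow, h.v4, one_zpow]
  · right
    rw [hm, zpow_add, two_mul, zpow_add, ← (Commute.refl (v * v)).mul_zpow, h.v4, one_zpow, one_mul, zpow_one]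

/-- `⟨v⟩ ∩ ⟨s, t⟩ = 1` -/
theorem zpow_mem {n : ℤ} (hn : v ^ n ∈ closure ({s, t} : Set X)) : v ^ n = 1 := by
  rcases h.sq_v n with h1 | h1
  · -- `v ^ n` is `1` or `v * v`
    have h2 : v ^ (2 * n) = 1 := by rw [two_mul, zpow_add]; exact h1
    have h4 : v ^ (4 : ℤ) = 1 := by
      have : v ^ (4 : ℤ) = v * v * (v * v) := by
        rw [show (4 : ℤ) = 1 + 1 + (1 + 1) by norm_num]
        simp only [zpow_add, zpow_one]
      rw [this, h.v4]
    rcases Int.even_or_odd n with ⟨m, hm⟩ | ⟨m, hm⟩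
    · rcases Int.even_or_odd m with ⟨k, hk⟩ | ⟨k, hk⟩
      · have : n = 4 * k := by omega
        rw [this, zpow_mul, h4, one_zpow]
      · exfalso
        have e : v ^ n = v * v := by
          have : n = 4 * k + (1 + 1) := by omega
          rw [this, zpow_add, zpow_mul, h4, one_zpow, one_mul, zpow_add, zpow_one]
        exact h.d_ne (e ▸ hn)
    · exfalso
      apply h.v2
      have : 2 * n = 4 * m + (1 + 1) := by omega
      rw [this, zpow_add, zpow_mul, h4, one_zpow, one_mul, zpow_add, zpow_one] at h2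
      exact h2
  · exfalso
    rcases sq_cases h.am hn with h2 | h2
    · exact h.v2 (h1.symm.trans h2)
    · apply h.d_ne
      rw [← h1, h2]
      have : z ∈ closure ({s, t} : Set X) := by
        rw [← h.am.hz]
        exact mul_mem (mul_mem (subset_closure (by simp)) (subset_closure (by simp)))
          (mul_mem (subset_closure (by simp)) (subset_closure (by simp)))
      exact this

/-- the elements `v ^ n e` -/
def U : Subgroup X where
  carrier := {g | ∃ n : ℤ, ∃ e ∈ closure ({s, t} : Set X), g = v ^ n * e}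
  one_mem' := ⟨0, 1, one_mem _, by simp⟩
  mul_mem' := by
    rintro a b ⟨n, e, he, rfl⟩ ⟨m, f, hf, rfl⟩
    refine ⟨n + m, e * f, mul_mem he hf, ?_⟩
    have := ((h.vcomm e).zpow_left m).eq
    rw [zpow_add]
    calc v ^ n * e * (v ^ m * f) = v ^ n * (e * v ^ m) * f := by group
      _ = v ^ n * v ^ m * (e * f) := by rw [← this]; group
  inv_mem' := by
    rintro a ⟨n, e, he, rfl⟩
    refine ⟨-n, e⁻¹, inv_mem he, ?_⟩
    have := ((h.vcomm e⁻¹).zpow_left (-n)).eq
    rw [mul_inv_rev, ← zpow_neg, this]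

theorem mem_U {g : X} : g ∈ h.U ↔ ∃ n : ℤ, ∃ e ∈ closure ({s, t} : Set X), g = v ^ n * e := Iff.rfl

theorem sq_U {g : X} (hg : g ∈ h.U) : g * g = 1 ∨ g * g = v * v ∨ g * g = z ∨ g * g = v * v * z := by
  obtain ⟨n, e, he, rfl⟩ := hg
  have h1 : v ^ n * e * (v ^ n * e) = v ^ n * v ^ n * (e * e) := by
    have := ((h.vcomm e).zpow_left n).eq
    calc v ^ n * e * (v ^ n * e) = v ^ n * (e * v ^ n) * e := by group
      _ = v ^ n * v ^ n * (e * e) := by rw [← this]; group
  rw [h1]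
  rcases h.sq_v n with h2 | h2 <;> rcases sq_cases h.am he with h3 | h3 <;> rw [h2, h3]
  · left; rw [one_mul]
  · right; right; left; rw [one_mul]
  · right; left; rw [mul_one]
  · right; right; right; rfl

theorem dz : Commute (v * v) z := (h.vcomm z).mul_left (h.vcomm z)

theorem pow_U {g : X} (hg : g ∈ h.U) : g ^ 2 ^ 2 = 1 := by
  have e : g ^ 2 ^ 2 = g * g * (g * g) := by
    simp only [pow_succ, pow_zero, one_mul, mul_assoc]; norm_num [pow_succ, mul_assoc]
  rw [e]
  rcases h.sq_U hg with h1 | h1 | h1 | h1 <;> rw [h1]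
  · rw [one_mul]
  · exact h.v4
  · exact h.am.zz
  · have := h.dz.eq
    calc v * v * z * (v * v * z) = v * v * (z * (v * v)) * z := by group
      _ = v * v * (v * v) * (z * z) := by rw [← this]; group
      _ = 1 := by rw [h.v4, h.am.zz, one_mul]

theorem isPGroup_U : IsPGroup 2 h.U := by
  intro g
  exact ⟨2, Subtype.ext (h.pow_U g.2)⟩

theorem norm_U (n : X) (hn : ∀ q ∈ h.U, n * q * n⁻¹ ∈ h.U) : n ∈ h.U := by
  have hst : s * t ∈ closure ({s, t} : Set X) :=
    mul_mem (subset_closure (by simp)) (subset_closure (by simp))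
  have h0 : v * (s * t) ∈ h.U := ⟨1, s * t, hst, by rw [zpow_one]⟩
  have h1 : v * (s * t) * (v * (s * t)) = v * v * z := by
    calc v * (s * t) * (v * (s * t)) = v * ((s * t) * v) * (s * t) := by group
      _ = v * v * (s * t * (s * t)) := by rw [← h.vc (s * t)]; group
      _ = v * v * z := by rw [h.am.hz]
  have h2 := h.sq_U (hn _ h0)
  have h3 : n * (v * (s * t)) * n⁻¹ * (n * (v * (s * t)) * n⁻¹) = n * (v * v * z) * n⁻¹ := by
    rw [← h1]; group
  rw [h3] at h2
  have hd : ∀ g, v * v * g = g * (v * v) := fun g => ((h.vcomm g).mul_left (h.vcomm g)).eq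
  have hnd : n * (v * v * z) * n⁻¹ = v * v * (n * z * n⁻¹) := by
    calc n * (v * v * z) * n⁻¹ = n * (v * v) * (z * n⁻¹) := by group
      _ = v * v * (n * z * n⁻¹) := by rw [← hd n]; group
  have hz1 : v * v * z ≠ 1 := by
    intro e
    have : z = v * v := by
      have h5 : v * v * z = v * v * (v * v) := by rw [e, h.v4]
      exact mul_left_cancel h5
    apply h.d_ne
    rw [← this, ← h.am.hz]
    exact mul_mem hst hst
  rcases h2 with h2 | h2 | h2 | h2
  · exact absurd (by rwa [conj_eq_one_iff] at h2) hz1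
  · rw [hnd] at h2
    exact absurd (by rw [mul_eq_left, conj_eq_one_iff] at h2; exact h2) h.am.z1
  · exact absurd h2 (h.nc n)
  · rw [hnd] at h2
    have h4 : n * z * n⁻¹ = z := mul_left_cancel h2
    obtain ⟨m, e, he, rfl⟩ := h.cent n (mul_inv_eq_iff_eq_mul.1 h4)
    exact ⟨m, e, he, by rw [zpow_natCast]⟩

theorem D_le : closure ({s, t} : Set X) ≤ h.U := fun e he => ⟨0, e, he, by simp⟩

theorem V_le : zpowers v ≤ h.U := by
  rintro _ ⟨n, rfl⟩
  exact ⟨n, 1, one_mem _, by simp⟩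

variable [Finite X]

/-- MAIN RESULT: a complement -/
theorem exists_compl : ∃ A : Subgroup X, (∀ n : ℤ, v ^ n ∈ A → v ^ n = 1) ∧
    (∀ g, ∃ n : ℤ, ∃ a ∈ A, g = v ^ n * a) := by
  have hp2 : Fact (Nat.Prime 2) := ⟨Nat.prime_two⟩
  have hVn : (zpowers v).Normal := by
    refine ⟨fun a ha g => ?_⟩
    obtain ⟨n, rfl⟩ := ha
    have := ((h.vcomm g).zpow_left n).eq
    have e : g * v ^ n * g⁻¹ = v ^ n := by rw [← this]; group
    show g * v ^ n * g⁻¹ ∈ zpowers v
    rw [e]; exact ⟨n, rfl⟩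
  obtain ⟨S, hS⟩ := exists_sylow_eq h.isPGroup_U h.norm_U
  have hidx : ¬ 2 ∣ h.U.index := by
    rw [← hS]; exact S.not_dvd_index
  have hcard : Nat.card (zpowers v) ∣ 4 := by
    rw [Nat.card_zpowers]
    apply orderOf_dvd_of_pow_eq_one
    have := h.pow_U (h.V_le (mem_zpowers v))
    simpa using this
  have hcop : (Nat.card (zpowers v)).Coprime h.U.index := by
    have h1 : Nat.Coprime 2 h.U.index := (Nat.prime_two.coprime_iff_not_dvd).2 hidx
    exact Nat.Coprime.coprime_dvd_left hcard (by simpa using Nat.Coprime.pow_left 2 h1)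
  have hDV : closure ({s, t} : Set X) ⊓ zpowers v = ⊥ := by
    rw [eq_bot_iff]
    rintro g ⟨h1, ⟨n, rfl⟩⟩
    exact h.zpow_mem h1
  have hVD : zpowers v ⊔ closure ({s, t} : Set X) = h.U := by
    apply le_antisymm (sup_le h.V_le h.D_le)
    rintro _ ⟨n, e, he, rfl⟩
    exact mul_mem (mem_sup_left ⟨n, rfl⟩) (mem_sup_right he)
  obtain ⟨A, hA⟩ := Cfsg.Agent.S0051.result (zpowers v) h.U h.V_le hcop _ h.D_le hDV hVD
  refine ⟨A, ?_, ?_⟩
  · intro n hn
    have := hA.disjoint
    rw [disjoint_iff] at this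
    have h1 : v ^ n ∈ zpowers v ⊓ A := ⟨⟨n, rfl⟩, hn⟩
    rw [this] at h1
    exact h1
  · intro g
    have h1 : g ∈ (⊤ : Subgroup X) := mem_top g
    obtain ⟨⟨⟨_, ⟨n, rfl⟩⟩, a⟩, hg⟩ := hA.2 g
    exact ⟨n, a, a.2, hg.symm⟩

end Cen

end Cfsg.Agent.LargeExtra.W2.LFour.CVComp
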