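import Cfsg.Agent.SmallExtra438.FrameA
import Cfsg.Agent.LargeExtra.W2.LFour.PresDef

/-!
# S1759, `L₄(3)`: a convenient form of helper438's model of `C_G(z)` (helper465)

`Mod f z i j k l x₁ x₂ y s`: an opaque function `f : Fin 1152 → G` with `f (mu a b) = f a * f b`,
`f (iv a) = (f a)⁻¹`. An identity between words in `i, …, s` is proved by
`simp only [← M.f_i, …, ← M.f_mu, ← M.f_iv]; exact congrArg f (by decide +kernel)` (tactic `code M`).
-/

set_option autoImplicit false

namespace Cfsg.Agent.LargeExtra.W2.LFour.ModF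

open Cfsg.Agent.SmallExtra438.ModelA Cfsg.Agent.SmallExtra438.FrameA

/-- multiplication of codes -/
def mu (a b : Fin 1152) : Fin 1152 := ⟨mm 0 a b, mm_lt a.2 b.2⟩

/-- `a ^ 23` -/
def iv (a : Fin 1152) : Fin 1152 :=
  mu (mu (mu (mu (mu a a) (mu a a)) (mu (mu a a) (mu a a))) (mu (mu (mu a a) (mu a a)) (mu (mu a a) (mu a a))))
    (mu (mu (mu a a) (mu a a)) (mu (mu a a) a))

theorem mu_iv : ∀ a : Fin 1152, mu a (iv a) = 0 := by decide +kernel

/-- the model map -/
structure Mod {G : Type*} [Group G] (f : Fin 1152 → G) (z i j k l x₁ x₂ y s : G) : Prop where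
  f_mu : ∀ a b, f (mu a b) = f a * f b
  f_iv : ∀ a, f (iv a) = (f a)⁻¹
  f_one : f 0 = 1
  f_i : f 1 = i
  f_j : f 2 = j
  f_k : f 4 = k
  f_l : f 8 = l
  f_z : f 16 = z
  f_x1 : f 32 = x₁
  f_x2 : f 96 = x₂
  f_y : f 288 = y
  f_s : f 576 = s
  inj : ∀ a b, f a = f b → a = b
  surj : ∀ c, c * z = z * c → ∃ a, f a = c

theorem exists_mod {G : Type*} [Group G] [Finite G] {Q : Subgroup G} {z i j k l x₁ x₂ y s : G}
    (h : Case9aa Q z i j k l x₁ x₂ y s) (h1 : y * y = 1) (h2 : s * s = 1) (h3 : s * y = y * s) :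
    ∃ f : Fin 1152 → G, Mod f z i j k l x₁ x₂ y s := by
  have ht : Tw 0 z y s := tw_zero h1 h2 h3
  have hmu : ∀ a b : Fin 1152, F z i j k l x₁ x₂ y s (mu a b) =
      F z i j k l x₁ x₂ y s a * F z i j k l x₁ x₂ y s b := fun a b => F_mul h ht a.2 b.2
  refine ⟨fun a => F z i j k l x₁ x₂ y s a, ?_⟩
  exact
    { f_mu := hmu
      f_iv := by
        intro a
        apply eq_inv_of_mul_eq_one_right
        rw [← hmu, mu_iv]
        exact F_0
      f_one := F_0
      f_i := F_1
      f_j := F_2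
      f_k := F_4
      f_l := F_8
      f_z := F_16
      f_x1 := F_32
      f_x2 := F_96
      f_y := F_288
      f_s := F_576
      inj := fun a b e => Fin.ext (F_inj h a.2 b.2 e)
      surj := by
        intro c hc
        obtain ⟨m, hm, e⟩ := exists_code h hc
        exact ⟨⟨m, hm⟩, e⟩ }

/-- identities between words in the generators of `C_G(z)` -/
macro "code " M:term : tactic => `(tactic| (
  simp only [pow_succ, pow_zero, one_mul, ← ($M).f_one, ← ($M).f_i, ← ($M).f_j, ← ($M).f_k, ← ($M).f_l, ← ($M).f_z, ← ($M).f_x1,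
    ← ($M).f_x2, ← ($M).f_y, ← ($M).f_s, ← ($M).f_mu, ← ($M).f_iv]
  exact congrArg _ (by decide +kernel)))

section test

variable {G : Type*} [Group G] {z i j k l x₁ x₂ y s : G} {f : Fin 1152 → G}

example (M : Mod f z i j k l x₁ x₂ y s) : y * (i * k) * (y * (i * k)) = i * j * k * l := by code M
example (M : Mod f z i j k l x₁ x₂ y s) : i * (s * y) * i⁻¹ * (i * (s * y) * i⁻¹) = 1 := by code M
example (M : Mod f z i j k l x₁ x₂ y s) : i⁻¹ * (y * (i * k)) * i = s * (i * l * (i * j * k * l) * s * y) := by code M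

end test

end Cfsg.Agent.LargeExtra.W2.LFour.ModF
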