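import Cfsg.Agent.LargeExtra.W2.LFour.CVMain
import Cfsg.Agent.LargeExtra.W2.LFour.ModF

/-!
# S1759, `L₄(3)`: the structure of `C_G(v)`, `v = y i k` (helper465)
-/

set_option autoImplicit false

namespace Cfsg.Agent.LargeExtra.W2.LFour.CVInst

open Subgroup Cfsg.Agent.CoOneType.LThree Cfsg.Agent.LargeExtra.W2.LFour.CVAbs
  Cfsg.Agent.LargeExtra.W2.LFour.CVComp Cfsg.Agent.LargeExtra.W2.LFour.CVMain
  Cfsg.Agent.LargeExtra.W2.LFour.ModF Cfsg.Agent.LargeExtra.W2.LFour.PresDef

section codes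

/-- codes: `v = 298`, `ζ = d z = 31`, `σ = ζ s`, `τ = ζ T` -/
def cσ : Fin 1152 := mu 31 576
def cτ : Fin 1152 := mu 31 873

def vp : ℕ → Fin 1152
  | 0 => 0
  | n + 1 => mu (vp n) 298

def dl : List (Fin 1152) := [0, cσ, cτ, mu cσ cτ, mu cτ cσ, mu (mu cσ cτ) cσ, mu (mu cτ cσ) cτ,
  mu (mu cσ cτ) (mu cσ cτ)]

theorem dec_cent : ∀ m : Fin 1152, mu m 298 = mu 298 m → ∃ n ∈ [0, 1, 2, 3], ∃ e ∈ dl, m = mu (vp n) e := by
  decide +kernel

end codes

variable {G : Type*} [Group G] {Q : Subgroup G} {z i j k l x₁ x₂ y s θ w w' : G}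

theorem mod_of [Finite G] (h : Elem2 Q z i j k l x₁ x₂ y s θ w w') :
    ∃ f : Fin 1152 → G, Mod f z i j k l x₁ x₂ y s := exists_mod h.toCase9aa h.y_sq h.s_sq h.s_y

/-- `ζ, σ, τ, w⁻¹, (i w' i⁻¹)⁻¹` -/
theorem amalgam [Finite G] (h : Elem2 Q z i j k l x₁ x₂ y s θ w w') :
    Amalgam (i * j * k * l * z) (i * j * k * l * z * s) (i * j * k * l * z * (i * (s * y) * i⁻¹)) w⁻¹
      (i * w' * i⁻¹)⁻¹ := by
  obtain ⟨f, M⟩ := mod_of h
  have e1 : w * (i * j * k * l * z) * w⁻¹ = i * j * k * l * z * s := by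
    rw [h.w_dz]; code M
  have e2 : w * s * w⁻¹ = i * j * k * l * z := h.w_s
  have hb1 : i * w' * i⁻¹ * (i * j * k * l * z) * (i * w' * i⁻¹)⁻¹ =
      i * j * k * l * z * (i * (s * y) * i⁻¹) := by
    have c1 : i⁻¹ * (i * j * k * l * z) * i = i * j * k * l := by code M
    calc i * w' * i⁻¹ * (i * j * k * l * z) * (i * w' * i⁻¹)⁻¹
        = i * (w' * (i⁻¹ * (i * j * k * l * z) * i) * w'⁻¹) * i⁻¹ := by group
      _ = i * (i * j * k * l * s * y) * i⁻¹ := by rw [c1, h.w'_d]
      _ = _ := by code M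
  have hb2 : i * w' * i⁻¹ * (i * (s * y) * i⁻¹) * (i * w' * i⁻¹)⁻¹ = i * j * k * l * z := by
    calc i * w' * i⁻¹ * (i * (s * y) * i⁻¹) * (i * w' * i⁻¹)⁻¹
        = i * (w' * (s * y) * w'⁻¹) * i⁻¹ := by group
      _ = i * (i * j * k * l) * i⁻¹ := by rw [h.w'_sy]
      _ = _ := by code M
  have hd1 : i * j * k * l * z ≠ 1 := by
    intro e
    have h1 : f 31 = f 0 := by
      rw [M.f_one, ← e]; symm; code M
    exact absurd (M.inj _ _ h1) (by decide)
  exact
    { ss := by code M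
      tt := by code M
      hz := by code M
      zz := by code M
      z1 := hd1
      xxx := by
        have h3 : w * w * w = 1 := by rw [← h.w3, pow_succ, pow_two]
        calc w⁻¹ * w⁻¹ * w⁻¹ = (w * w * w)⁻¹ := by group
          _ = 1 := by rw [h3, inv_one]
      yyy := by
        have h3 : w' * w' * w' = 1 := by rw [← h.w'3, pow_succ, pow_two]
        calc (i * w' * i⁻¹)⁻¹ * (i * w' * i⁻¹)⁻¹ * (i * w' * i⁻¹)⁻¹ = i * (w' * w' * w')⁻¹ * i⁻¹ := by group
          _ = 1 := by rw [h3]; group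
      zx := by rw [← e1]; group
      sx := by
        have e3 : w * (i * j * k * l * z * s) * w⁻¹ = i * j * k * l * z * (i * j * k * l * z * s) := by
          calc w * (i * j * k * l * z * s) * w⁻¹ = (w * (i * j * k * l * z) * w⁻¹) * (w * s * w⁻¹) := by group
            _ = i * j * k * l * z * s * (i * j * k * l * z) := by rw [e1, e2]
            _ = _ := by code M
        rw [← e3]; group
      zy := by rw [← hb1]; group
      ty := by
        have e3 : i * w' * i⁻¹ * (i * j * k * l * z * (i * (s * y) * i⁻¹)) * (i * w' * i⁻¹)⁻¹ =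
            i * j * k * l * z * (i * j * k * l * z * (i * (s * y) * i⁻¹)) := by
          calc i * w' * i⁻¹ * (i * j * k * l * z * (i * (s * y) * i⁻¹)) * (i * w' * i⁻¹)⁻¹
              = (i * w' * i⁻¹ * (i * j * k * l * z) * (i * w' * i⁻¹)⁻¹) *
                (i * w' * i⁻¹ * (i * (s * y) * i⁻¹) * (i * w' * i⁻¹)⁻¹) := by group
            _ = i * j * k * l * z * (i * (s * y) * i⁻¹) * (i * j * k * l * z) := by rw [hb1, hb2]
            _ = _ := by code M
        rw [← e3]; group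
      ix := by
        have c1 : i * j * k * l * z * (i * j * k * l * z * (i * (s * y) * i⁻¹)) = i * (s * y) * i⁻¹ := by code M
        have c2 : (i * (s * y) * i⁻¹)⁻¹ = i * (s * y) * i⁻¹ := by code M
        have c3 := h.w_inv
        rw [c2] at c3
        rw [c1]
        have c4 : i * (s * y) * i⁻¹ * w⁻¹ * (i * (s * y) * i⁻¹) = w := by
          rw [← c3]
          have c5 : i * (s * y) * i⁻¹ * (i * (s * y) * i⁻¹) = 1 := by code M
          calc i * (s * y) * i⁻¹ * (i * (s * y) * i⁻¹ * w * (i * (s * y) * i⁻¹)) * (i * (s * y) * i⁻¹)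
              = (i * (s * y) * i⁻¹ * (i * (s * y) * i⁻¹)) * w * (i * (s * y) * i⁻¹ * (i * (s * y) * i⁻¹)) := by
                simp only [mul_assoc]
            _ = w := by rw [c5, one_mul, mul_one]
        rw [c4, mul_inv_cancel]
      iy := by
        have c1 : i * j * k * l * z * (i * j * k * l * z * s) = s := by code M
        have c3 : s * (i * w' * i⁻¹) * s⁻¹ = (i * w' * i⁻¹)⁻¹ := by
          calc s * (i * w' * i⁻¹) * s⁻¹ = i * (i⁻¹ * s * i * w' * (i⁻¹ * s * i)⁻¹) * i⁻¹ := by group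
            _ = i * w'⁻¹ * i⁻¹ := by rw [h.w'_inv]
            _ = _ := by group
        have c2 : s⁻¹ = s := by code M
        rw [c1]
        have c4 : s * (i * w' * i⁻¹)⁻¹ * s = i * w' * i⁻¹ := by
          rw [← c3, c2]
          have c5 : s * s = 1 := h.s_sq
          calc s * (s * (i * w' * i⁻¹) * s) * s = (s * s) * (i * w' * i⁻¹) * (s * s) := by
                simp only [mul_assoc]
            _ = i * w' * i⁻¹ := by rw [c5, one_mul, mul_one]
        rw [c4, mul_inv_cancel] }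

theorem v_w [Finite G] (h : Elem2 Q z i j k l x₁ x₂ y s θ w w') : y * (i * k) * w = w * (y * (i * k)) := by
  obtain ⟨f, M⟩ := mod_of h
  have e : y * (i * k) = s * y * (s * (i * k)) := by code M
  rw [e]
  exact ((show Commute (s * y) w from h.w_sy.symm).mul_left (show Commute (s * (i * k)) w from h.w_z1.symm)).eq

theorem v_b [Finite G] (h : Elem2 Q z i j k l x₁ x₂ y s θ w w') :
    y * (i * k) * (i * w' * i⁻¹) = i * w' * i⁻¹ * (y * (i * k)) := by
  obtain ⟨f, M⟩ := mod_of h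
  have e : i⁻¹ * (y * (i * k)) * i = s * (i * l * (i * j * k * l) * s * y) := by code M
  have hc : Commute (i⁻¹ * (y * (i * k)) * i) w' := by
    rw [e]
    exact (show Commute s w' from h.w'_s.symm).mul_left
      (show Commute (i * l * (i * j * k * l) * s * y) w' from h.w'_z2.symm)
  calc y * (i * k) * (i * w' * i⁻¹) = i * ((i⁻¹ * (y * (i * k)) * i) * w') * i⁻¹ := by group
    _ = i * (w' * (i⁻¹ * (y * (i * k)) * i)) * i⁻¹ := by rw [hc.eq]
    _ = _ := by group

end Cfsg.Agent.LargeExtra.W2.LFour.CVInst
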