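import Cfsg.Agent.LargeExtra.W2.LFour.CVComp

/-!
# S1759, `L₄(3)`: `C_G(v) = ⟨v⟩ × ⟨σ, τ, x, y⟩` (helper465)
-/

set_option autoImplicit false

namespace Cfsg.Agent.LargeExtra.W2.LFour.CVMain

open Subgroup Cfsg.Agent.CoOneType.LThree Cfsg.Agent.LargeExtra.W2.LFour.CVAbs
  Cfsg.Agent.LargeExtra.W2.LFour.CVComp

/-- restriction of an amalgam to a subgroup -/
theorem am_sub {G : Type*} [Group G] {z s t x y : G} (h : Amalgam z s t x y) (A : Subgroup G) (hz : z ∈ A)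
    (hs : s ∈ A) (ht : t ∈ A) (hx : x ∈ A) (hy : y ∈ A) :
    Amalgam (⟨z, hz⟩ : A) ⟨s, hs⟩ ⟨t, ht⟩ ⟨x, hx⟩ ⟨y, hy⟩ where
  ss := Subtype.ext h.ss
  tt := Subtype.ext h.tt
  hz := Subtype.ext h.hz
  zz := Subtype.ext h.zz
  z1 := fun e => h.z1 (congrArg Subtype.val e)
  xxx := Subtype.ext h.xxx
  yyy := Subtype.ext h.yyy
  zx := Subtype.ext h.zx
  sx := Subtype.ext h.sx
  zy := Subtype.ext h.zy
  ty := Subtype.ext h.ty
  ix := Subtype.ext h.ix
  iy := Subtype.ext h.iy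

theorem mem_closure_sub {G : Type*} [Group G] {A : Subgroup G} {s t : G} (hs : s ∈ A) (ht : t ∈ A) {g : G}
    (hg : g ∈ closure ({s, t} : Set G)) (hgA : g ∈ A) :
    (⟨g, hgA⟩ : A) ∈ closure ({⟨s, hs⟩, ⟨t, ht⟩} : Set A) := by
  have h2 : closure ({s, t} : Set G) ≤ (closure ({⟨s, hs⟩, ⟨t, ht⟩} : Set A)).map A.subtype := by
    rw [MonoidHom.map_closure]
    apply Subgroup.closure_mono
    rintro g (rfl | rfl)
    · exact ⟨⟨g, hs⟩, by simp, rfl⟩
    · exact ⟨⟨g, ht⟩, by simp, rfl⟩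
  obtain ⟨g', hg', he⟩ := h2 hg
  have : g' = ⟨g, hgA⟩ := Subtype.ext he
  rwa [← this]

theorem closure_four_top {G : Type*} [Group G] {s t x y : G} (M : Subgroup G)
    (hM : closure ({s, t, x, y} : Set G) = M) (hs : s ∈ M) (ht : t ∈ M) (hx : x ∈ M) (hy : y ∈ M) :
    closure ({⟨s, hs⟩, ⟨t, ht⟩, ⟨x, hx⟩, ⟨y, hy⟩} : Set M) = ⊤ := by
  rw [eq_top_iff]
  rintro ⟨g, hg⟩ -
  have h1 : M ≤ (closure ({⟨s, hs⟩, ⟨t, ht⟩, ⟨x, hx⟩, ⟨y, hy⟩} : Set M)).map M.subtype := by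
    rw [MonoidHom.map_closure]
    refine le_trans (le_of_eq hM.symm) ?_
    apply Subgroup.closure_mono
    rintro g (rfl | rfl | rfl | rfl)
    · exact ⟨⟨g, hs⟩, by simp, rfl⟩
    · exact ⟨⟨g, ht⟩, by simp, rfl⟩
    · exact ⟨⟨g, hx⟩, by simp, rfl⟩
    · exact ⟨⟨g, hy⟩, by simp, rfl⟩
  obtain ⟨g', hg', he⟩ := h1 hg
  have : g' = ⟨g, hg⟩ := Subtype.ext he
  rwa [← this]

/-- The amalgam inside a larger group in which the centralizer is still `⟨s, t⟩` is everything. -/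
theorem closure_eq_top {X : Type*} [Group X] [Finite X] {z s t x y : X} (h : Amalgam z s t x y)
    (hC : ∀ g : X, g * z = z * g → g ∈ closure ({s, t} : Set X)) :
    closure ({s, t, x, y} : Set X) = ⊤ := by
  have hs : s ∈ closure ({s, t, x, y} : Set X) := subset_closure (by simp)
  have ht : t ∈ closure ({s, t, x, y} : Set X) := subset_closure (by simp)
  have hx : x ∈ closure ({s, t, x, y} : Set X) := subset_closure (by simp)
  have hy : y ∈ closure ({s, t, x, y} : Set X) := subset_closure (by simp)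
  have hz : z ∈ closure ({s, t, x, y} : Set X) := by
    rw [← h.hz]; exact mul_mem (mul_mem hs ht) (mul_mem hs ht)
  have h1 := card_of h hC
  have h2 : Nat.card (closure ({s, t, x, y} : Set X)) = 168 ∨ Nat.card (closure ({s, t, x, y} : Set X)) = 360 := by
    refine (am_sub h _ hz hs ht hx hy).card_cases (closure_four_top _ rfl hs ht hx hy) ?_
    rintro ⟨g, hg⟩ hc
    exact mem_closure_sub hs ht (hC g (congrArg Subtype.val hc)) hg
  have h3 := card_subgroup_dvd_card (closure ({s, t, x, y} : Set X))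
  apply Subgroup.eq_top_of_card_eq
  rcases h1 with h1 | h1 <;> rcases h2 with h2 | h2 <;> rw [h1, h2] at h3 ⊢ <;> omega

namespace CenM

variable {X : Type*} [Group X] [Finite X] {v z s t x y : X} (h : Cen v z s t x y)

include h

/-- MAIN: the amalgam generates a complement of `⟨v⟩`. -/
theorem main : (∀ g, g ∈ closure ({s, t, x, y} : Set X) → g * z = z * g → g ∈ closure ({s, t} : Set X)) ∧
    (∀ n : ℤ, v ^ n ∈ closure ({s, t, x, y} : Set X) → v ^ n = 1) ∧
    (∀ g, ∃ n : ℤ, ∃ a ∈ closure ({s, t, x, y} : Set X), g = v ^ n * a) ∧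
    (Nat.card (closure ({s, t, x, y} : Set X)) = 168 ∨ Nat.card (closure ({s, t, x, y} : Set X)) = 360) := by
  obtain ⟨A, hA1, hA2⟩ := h.exists_compl
  have hv4 : v ^ (4 : ℤ) = 1 := by
    have : v ^ (4 : ℤ) = v * v * (v * v) := by
      rw [show (4 : ℤ) = 1 + 1 + (1 + 1) by norm_num]
      simp only [zpow_add, zpow_one]
    rw [this, h.v4]
  -- elements of order three
  have h3A : ∀ g : X, g * g * g = 1 → g ∈ A := by
    intro g hg
    obtain ⟨n, a, ha, rfl⟩ := hA2 g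
    have hc := (h.vcomm a).zpow_left n
    have e : v ^ n * a * (v ^ n * a) * (v ^ n * a) = v ^ (3 * n) * (a * a * a) := by
      have e0 : ∀ g : X, g * g * g = g ^ 3 := fun g => by rw [pow_succ, pow_two]
      rw [e0, e0, Commute.mul_pow hc, mul_comm 3 n, zpow_mul]
      congr 1
      exact (zpow_ofNat (v ^ n) 3).symm
    rw [e] at hg
    have h1 : v ^ (3 * n) ∈ A := by
      rw [eq_inv_of_mul_eq_one_left hg]
      exact inv_mem (mul_mem (mul_mem ha ha) ha)
    have h2 := hA1 _ h1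
    have h3 : v ^ n = 1 := by
      have e3 : v ^ n = (v ^ (4 : ℤ)) ^ n * (v ^ (3 * n))⁻¹ := by
        rw [← zpow_mul, ← zpow_neg, ← zpow_add]; congr 1; ring
      rw [e3, hv4, h2, one_zpow, inv_one, one_mul]
    rw [h3, one_mul]; exact ha
  -- commutators
  have hcA : ∀ g k : X, g * k * g⁻¹ * k⁻¹ ∈ A := by
    intro g k
    obtain ⟨n, a, ha, rfl⟩ := hA2 g
    obtain ⟨m, b, hb, rfl⟩ := hA2 k
    have c1 : ∀ c, v ^ n * c = c * v ^ n := fun c => ((h.vcomm c).zpow_left n).eq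
    have c2 : ∀ c, v ^ m * c = c * v ^ m := fun c => ((h.vcomm c).zpow_left m).eq
    have e : v ^ n * a * (v ^ m * b) * (v ^ n * a)⁻¹ * (v ^ m * b)⁻¹ = a * b * a⁻¹ * b⁻¹ := by
      calc v ^ n * a * (v ^ m * b) * (v ^ n * a)⁻¹ * (v ^ m * b)⁻¹
          = v ^ n * (a * (v ^ m * b) * a⁻¹) * (v ^ n)⁻¹ * (v ^ m * b)⁻¹ := by group
        _ = (a * (v ^ m * b) * a⁻¹) * (v ^ m * b)⁻¹ := by rw [c1]; group
        _ = a * b * (v ^ m * a⁻¹) * (v ^ m)⁻¹ * b⁻¹ := by rw [c2 b]; group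
        _ = a * b * a⁻¹ * b⁻¹ := by rw [c2 a⁻¹]; group
    rw [e]
    exact mul_mem (mul_mem (mul_mem ha hb) (inv_mem ha)) (inv_mem hb)
  have hxA : x ∈ A := h3A x h.am.xxx
  have hyA : y ∈ A := h3A y h.am.yyy
  have hzz : z⁻¹ = z := inv_eq_of_mul_eq_one_left h.am.zz
  -- `z s ∈ A`, `z t ∈ A`
  have hzs : z * s ∈ A := by
    have e : z * s = x * s * x⁻¹ * s⁻¹ := by
      have e1 : x * s * x⁻¹ = z := by rw [← h.am.zx]; group
      rw [e1, inv_eq_of_mul_eq_one_left h.am.ss]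
    rw [e]; exact hcA x s
  have hzt : z * t ∈ A := by
    have e : z * t = y * t * y⁻¹ * t⁻¹ := by
      have e1 : y * t * y⁻¹ = z := by rw [← h.am.zy]; group
      rw [e1, inv_eq_of_mul_eq_one_left h.am.tt]
    rw [e]; exact hcA y t
  have hsA : s ∈ A := by
    have e : s = x * (z * s) * x⁻¹ := by rw [← h.am.sx]; group
    rw [e]; exact mul_mem (mul_mem hxA hzs) (inv_mem hxA)
  have htA : t ∈ A := by
    have e : t = y * (z * t) * y⁻¹ := by rw [← h.am.ty]; group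
    rw [e]; exact mul_mem (mul_mem hyA hzt) (inv_mem hyA)
  have hzA : z ∈ A := by rw [← h.am.hz]; exact mul_mem (mul_mem hsA htA) (mul_mem hsA htA)
  have hDA : closure ({s, t} : Set X) ≤ A := by
    rw [closure_le]; rintro g (rfl | rfl) <;> assumption
  have hCA : ∀ g ∈ A, g * z = z * g → g ∈ closure ({s, t} : Set X) := by
    intro g hg hgz
    obtain ⟨n, e, he, rfl⟩ := h.cent g hgz
    have h1 : v ^ n ∈ A := by
      have : v ^ n = v ^ n * e * e⁻¹ := by group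
      rw [this]; exact mul_mem hg (inv_mem (hDA he))
    have h2 := hA1 n (by rwa [zpow_natCast])
    rw [zpow_natCast] at h2
    rw [h2, one_mul]; exact he
  have hMA : closure ({s, t, x, y} : Set X) = A := by
    have h1 := closure_eq_top (am_sub h.am A hzA hsA htA hxA hyA) (by
      rintro ⟨g, hg⟩ hc
      exact mem_closure_sub hsA htA (hCA g hg (congrArg Subtype.val hc)) hg)
    have h2 := congrArg (Subgroup.map A.subtype) h1
    rw [MonoidHom.map_closure] at h2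
    have h3 : (A.subtype '' {⟨s, hsA⟩, ⟨t, htA⟩, ⟨x, hxA⟩, ⟨y, hyA⟩} : Set X) = {s, t, x, y} := by
      simp [Set.image_insert_eq]
    rw [← h3]
    refine h2.trans ?_
    rw [← MonoidHom.range_eq_map, Subgroup.range_subtype]
  rw [hMA]
  refine ⟨hCA, hA1, hA2, ?_⟩
  exact card_of (am_sub h.am A hzA hsA htA hxA hyA) (by
      rintro ⟨g, hg⟩ hc
      exact mem_closure_sub hsA htA (hCA g hg (congrArg Subtype.val hc)) hg)

end CenM

end Cfsg.Agent.LargeExtra.W2.LFour.CVMain
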