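import Cfsg.Agent.LargeExtra.W2.Iface

/-!
# S1759, case `9aa` with `z` weakly closed in `Q` (`L₄(3)`): interfaces (helper995)

Blueprint: `blueprints/S1759-L43-helper995.md`. Notation `d = i j k l`.
-/

set_option autoImplicit false

namespace Cfsg.Agent.LargeExtra.W2.LFour

variable {G : Type*} [Group G]

/-- The output of the fusion analysis. `V = ⟨z, y⟩` is pure, `θ` of order three permutes `z → y → z y`,
`d → s y → d s y`, `d z → s → d s z`. -/
structure Fus (Q : Subgroup G) (z i j k l x₁ x₂ y s θ : G) : Prop extends Case9aa Q z i j k l x₁ x₂ y s where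
  y_sq : y * y = 1
  s_sq : s * s = 1
  s_y : s * y = y * s
  θ3 : θ ^ 3 = 1
  θz : θ * z * θ⁻¹ = y
  θy : θ * y * θ⁻¹ = z * y
  θd : θ * (i * j * k * l) * θ⁻¹ = s * y
  θs : θ * s * θ⁻¹ = i * j * k * l * s * z
  nc : ¬ IsConj z (i * j * k * l)

/-- The elements `w, w'` of order three of `N_G(E)`, `E = ⟨z, y, d, s⟩`: `w` centralises `U₁ = {1, d, s y, d s y}` and
permutes `s → d z → d s z`; `w'` centralises `U₂ = {1, d z, s, d s z}` and permutes `d → d s y → s y`. -/
structure Elem (Q : Subgroup G) (z i j k l x₁ x₂ y s θ w w' : G) : Prop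
    extends Fus Q z i j k l x₁ x₂ y s θ where
  w3 : w ^ 3 = 1
  w_d : w * (i * j * k * l) = i * j * k * l * w
  w_sy : w * (s * y) = s * y * w
  w_s : w * s * w⁻¹ = i * j * k * l * z
  w_dz : w * (i * j * k * l * z) * w⁻¹ = i * j * k * l * s * z
  w_z1 : w * (s * (i * k)) = s * (i * k) * w
  w'3 : w' ^ 3 = 1
  w'_s : w' * s = s * w'
  w'_dz : w' * (i * j * k * l * z) = i * j * k * l * z * w'
  w'_d : w' * (i * j * k * l) * w'⁻¹ = i * j * k * l * s * y
  w'_sy : w' * (s * y) * w'⁻¹ = i * j * k * l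
  w'_z2 : w' * (i * l * (i * j * k * l) * s * y) = i * l * (i * j * k * l) * s * y * w'
  ww' : w * w' = w' * w

/-- The structure of `C_G(d)`, `d = i j k l`, needed for `C_G(w)`. -/
structure HOut (z i j k l y s w w' r : G) : Prop where
  card : Nat.card (Subgroup.centralizer {i * j * k * l}) = 2880
  gen : Subgroup.centralizer {i * j * k * l} ≤ Subgroup.closure {i * j, k * l, i * k, y, s, w, i * w' * i⁻¹}
  card_w : Nat.card (Subgroup.centralizer {i * j * k * l, w} : Subgroup G) = 72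
  r3 : r ^ 3 = 1
  r_ne : r ∉ Subgroup.zpowers w
  r_w : r * w = w * r
  r_d : r * (i * j * k * l) = i * j * k * l * r
  r_sy : s * y * r * (s * y)⁻¹ = r⁻¹
  r_z1 : s * (i * k) * r * (s * (i * k))⁻¹ = r⁻¹

/-- The maximal possible odd core of `C_G(x₁)` (order `3^5`). -/
structure Core (z i j k l x₁ x₂ y : G) (K : Subgroup G) : Prop where
  le : K ≤ Subgroup.centralizer {x₁}
  card : Nat.card K = 243
  conj : ∀ c, c * x₁ = x₁ * c → ∀ g ∈ K, c * g * c⁻¹ ∈ K
  inv : ∀ g ∈ K, z * g * z⁻¹ * g ∈ Subgroup.zpowers x₁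
  cent_y : Nat.card (K ⊓ Subgroup.centralizer {y} : Subgroup G) = 9
  exists_mul : ∀ c, c * x₁ = x₁ * c → ∃ g ∈ K, ∃ a ∈ Subgroup.closure {k, l, x₂}, c = g * a

end Cfsg.Agent.LargeExtra.W2.LFour
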