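import Cfsg.Agent.LargeExtra.W2.ThreeA
import Cfsg.Agent.LargeExtra.W2.LFour.Iface
import Cfsg.Agent.LargeExtra.W2.U43.Model

/-!
# `L₄(3)`: `|O(C_G(x₁))| = 3⁵` (helper805; piece [W2] of `blueprints/S1759-L43-helper995.md`)

* `half`: the data `ThreeA.Half` for `C_G(x₁)` in `Case9aa` with `y² = s² = 1`, `s y = y s`;
* `conj_z`: `s i k = p z p⁻¹`;
* `exists_B`: transport of the abelian group of order `81` from `C_G(w)` to `C_G(x₁)`;
* `exists_core`: `O(C_G(x₁))` satisfies `Core`.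
-/

set_option autoImplicit false
set_option linter.style.haveILetI false

namespace Cfsg.Agent.LargeExtra.W2.LFour.CoreOf

open Cfsg Cfsg.Agent.StandardComponent.CentCore Cfsg.Agent.LargeExtra.W2.CM

/-! ### computations in the model -/

/-- multiplication in the split model -/
abbrev mul (t u : T) : T := T.mul false false false t u

theorem cent_dec : allT (fun t => !(T.beq (mul t tx₁) (mul tx₁ t)) || (!t.w.a && (!t.w.b && (!t.e && !t.f)))) = true := by
  decide +kernel

def anyB (p : Bool → Bool) : Bool := p false || p true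

def anyQ (P : T → Bool) : Bool :=
  anyB fun a => anyB fun b => anyB fun c => anyB fun d => P ⟨⟨false, a, b, c, d⟩, C3.o, C3.o, false, false⟩

theorem anyB_spec {p : Bool → Bool} (h : anyB p = true) : ∃ a, p a = true := by
  simp only [anyB, Bool.or_eq_true] at h
  rcases h with h | h
  · exact ⟨_, h⟩
  · exact ⟨_, h⟩

theorem anyQ_spec {P : T → Bool} (h : anyQ P = true) : ∃ t, P t = true := by
  obtain ⟨a, h⟩ := anyB_spec h
  obtain ⟨b, h⟩ := anyB_spec h
  obtain ⟨c, h⟩ := anyB_spec h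
  obtain ⟨d, h⟩ := anyB_spec h
  exact ⟨_, h⟩

/-- `q t q³` -/
def cj (q t : T) : T := mul (mul q t) (mul q (mul q q))

theorem three_dec : allT (fun t => !(T.beq (mul t (mul t t)) T.one) || anyQ fun q =>
    T.beq (mul q (mul q (mul q q))) T.one && (T.beq (mul t (cj q tx₁)) (mul (cj q tx₁) t) &&
      T.beq (mul t (cj q tx₂)) (mul (cj q tx₂) t))) = true := by
  decide +kernel

variable {G : Type*} [Group G] {Q : Subgroup G} {z i j k l x₁ x₂ y s θ : G}

theorem rules (h : Case9aa Q z i j k l x₁ x₂ y s) (hy : y * y = 1) (hs : s * s = 1) (hsy : s * y = y * s) :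
    Rules false false false z i j k l x₁ x₂ y s := by
  obtain ⟨al, be, ga, R⟩ := rules_of_case h
  have h1 : al = false := by
    cases al
    · rfl
    · exact absurd (R.yy.symm.trans hy) h.large.z_ne
  have h2 : be = false := by
    cases be
    · rfl
    · exact absurd (R.ss.symm.trans hs) h.large.z_ne
  have h3 : ga = false := by
    cases ga
    · rfl
    · exfalso
      have h4 := R.sy
      rw [hsy] at h4
      have h5 : z = 1 := by
        have h6 : pw true z * (y * s) = 1 * (y * s) := by rw [one_mul]; exact h4.symm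
        exact mul_right_cancel h6
      exact h.large.z_ne h5
  subst h1; subst h2; subst h3
  exact R

theorem ev_eq [Finite G] (h : Case9aa Q z i j k l x₁ x₂ y s) (R : Rules false false false z i j k l x₁ x₂ y s)
    {t u : T} (htu : t.ev z i j k l x₁ x₂ y s = u.ev z i j k l x₁ x₂ y s) : t = u :=
  ev_inj h R htu

/-! ### the group `⟨k, l⟩` -/

/-- `z^s k^c l^d` -/
def kl (z k l : G) (s c d : Bool) : G := pw s z * (pw c k * pw d l)

theorem kl_mem (h : Plus Q z i j k l) (s c d : Bool) : kl z k l s c d ∈ Subgroup.closure ({k, l} : Set G) := by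
  have hk : k ∈ Subgroup.closure ({k, l} : Set G) := Subgroup.subset_closure (by simp)
  have hl : l ∈ Subgroup.closure ({k, l} : Set G) := Subgroup.subset_closure (by simp)
  have hz : z ∈ Subgroup.closure ({k, l} : Set G) := h.kk ▸ Subgroup.mul_mem _ hk hk
  have hp : ∀ (a : Bool) {g : G}, g ∈ Subgroup.closure ({k, l} : Set G) → pw a g ∈ Subgroup.closure ({k, l} : Set G) := by
    intro a g hg
    cases a
    · exact Subgroup.one_mem _
    · exact hg
  exact Subgroup.mul_mem _ (hp _ hz) (Subgroup.mul_mem _ (hp _ hk) (hp _ hl))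

theorem kl_mul (R : Rules false false false z i j k l x₁ x₂ y s) (a b c a' b' c' : Bool) :
    ∃ a'' b'' c'', kl z k l a b c * kl z k l a' b' c' = kl z k l a'' b'' c'' := by
  have h := evQ_mul R ⟨a, false, false, b, c⟩ ⟨a', false, false, b', c'⟩
  simp only [Qt.mul, Qt.ev, pw, Bool.and_self, Bool.xor_self, cond_false, one_mul] at h
  exact ⟨_, _, _, h⟩

theorem kl_pow (R : Rules false false false z i j k l x₁ x₂ y s) (a b c : Bool) (n : ℕ) :
    ∃ a' b' c', kl z k l a b c ^ n = kl z k l a' b' c' := by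
  induction n with
  | zero => exact ⟨false, false, false, by simp [kl, pw]⟩
  | succ n ih =>
    obtain ⟨a', b', c', h⟩ := ih
    rw [pow_succ, h]
    exact kl_mul R _ _ _ _ _ _

theorem mem_kl [Finite G] (h : Plus Q z i j k l) (R : Rules false false false z i j k l x₁ x₂ y s) {g : G}
    (hg : g ∈ Subgroup.closure ({k, l} : Set G)) : ∃ a b c, g = kl z k l a b c := by
  refine Subgroup.closure_induction (p := fun g _ => ∃ a b c, g = kl z k l a b c) ?_ ?_ ?_ ?_ hg
  · rintro g (rfl | rfl)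
    · exact ⟨false, true, false, by simp [kl, pw]⟩
    · exact ⟨false, false, true, by simp [kl, pw]⟩
  · exact ⟨false, false, false, by simp [kl, pw]⟩
  · rintro a b _ _ ⟨a1, a2, a3, rfl⟩ ⟨b1, b2, b3, rfl⟩
    exact kl_mul R _ _ _ _ _ _
  · rintro a _ ⟨a1, a2, a3, rfl⟩
    obtain ⟨b1, b2, b3, hb⟩ := kl_pow R a1 a2 a3 (orderOf (kl z k l a1 a2 a3) - 1)
    refine ⟨b1, b2, b3, ?_⟩
    rw [← hb, inv_eq_iff_mul_eq_one, ← pow_succ', Nat.sub_add_cancel (orderOf_pos _), pow_orderOf_eq_one]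

theorem half [Finite G] (h : Case9aa Q z i j k l x₁ x₂ y s) (hy : y * y = 1) (hs : s * s = 1)
    (hsy : s * y = y * s) : ThreeA.Half z y x₁ x₂ (Subgroup.closure {k, l}) := by
  have R := rules h hy hs hsy
  have hP : Plus Q z i j k l := h.toPlus
  have hx1 : x₁ ≠ 1 := by
    intro he
    have h1 : tx₁ = T.one := ev_eq h R (by rw [ev_x₁, ev_one, he])
    have h2 := congrArg T.m h1
    simp [tx₁, T.one] at h2
  have hzx : z * x₁ = x₁ * z := R.zx.symm
  have hzy : z * x₂ = x₂ * z := R.zw.symm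
  have hkk : ∀ a b c : Bool, kl z k l a b c * x₁ = x₁ * kl z k l a b c := by
    intro a b c
    cases a <;> cases b <;> cases c <;> simp only [kl] <;> coll R
  have hconj : ∀ a b c : Bool, ∃ a' b' c', x₂ * kl z k l a b c = kl z k l a' b' c' * x₂ := by
    intro a b c
    have h1 := ax2 R ⟨a, false, false, b, c⟩
    simp only [Qt.x2, Qt.ev, pw, cond_false, one_mul] at h1
    exact ⟨_, _, _, h1⟩
  refine ⟨h.large.z_ne, h.large.z_sq, hy, R.zy.symm, h.x₁3, hx1, h.x₂3, h.xx, hzx, hzy, h.y1, h.y2, ?_, ?_, ?_, ?_, ?_,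
    ?_, ?_, ?_, ?_, ?_⟩
  · intro g
    obtain ⟨a, b, c, hg⟩ := mem_kl hP R g.2
    refine ⟨2, Subtype.ext ?_⟩
    show (g : G) ^ 4 = 1
    rw [hg, show (4 : ℕ) = 1 + 1 + 1 + 1 from rfl, pow_succ, pow_succ, pow_succ, pow_one]
    cases a <;> cases b <;> cases c <;> simp only [kl] <;> coll R
  · have hk : k ∈ Subgroup.closure ({k, l} : Set G) := Subgroup.subset_closure (by simp)
    exact h.kk ▸ Subgroup.mul_mem _ hk hk
  · intro q hq hqq
    obtain ⟨a, b, c, rfl⟩ := mem_kl hP R hq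
    have hz1 := h.large.z_ne
    have e : kl z k l a b c * kl z k l a b c = pw (b || c) z := by
      cases a <;> cases b <;> cases c <;> simp only [kl] <;> coll R <;> rfl
    rw [e] at hqq
    cases b <;> cases c
    · cases a
      · left; simp [kl, pw]
      · right; simp [kl, pw]
    all_goals exact absurd hqq hz1
  · intro q hq
    obtain ⟨a, b, c, rfl⟩ := mem_kl hP R hq
    exact hkk a b c
  · intro q hq
    obtain ⟨a, b, c, rfl⟩ := mem_kl hP R hq
    obtain ⟨a', b', c', e⟩ := hconj a b c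
    rw [e, mul_inv_cancel_right]
    exact kl_mem hP _ _ _
  · intro q hq hqx
    obtain ⟨a, b, c, rfl⟩ := mem_kl hP R hq
    have h1 := ax2 R ⟨a, false, false, b, c⟩
    simp only [Qt.x2, Qt.ev, pw, cond_false, one_mul] at h1
    have h2 : kl z k l a b c * x₂ = kl z k l a c (xor b c) * x₂ := hqx.symm.trans h1
    have h3 := mul_right_cancel h2
    have h4 : (⟨⟨a, false, false, b, c⟩, C3.o, C3.o, false, false⟩ : T) =
        ⟨⟨a, false, false, c, xor b c⟩, C3.o, C3.o, false, false⟩ := by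
      apply ev_eq h R
      simpa [T.ev, Qt.ev, pw, pw3, kl] using h3
    simp only [T.mk.injEq, Qt.mk.injEq] at h4
    have h5 : b = c := h4.1.2.2.2.1
    have h6 : c = xor b c := h4.1.2.2.2.2
    subst h5
    rw [Bool.xor_self] at h6
    subst h6
    cases a
    · left; simp [kl, pw]
    · right; simp [kl, pw]
  · refine ⟨k, Subgroup.subset_closure (by simp), ?_⟩
    intro he
    have h1 : mul tx₂ tk = mul tk tx₂ := by
      apply ev_eq h R
      rw [← ev_mul R, ← ev_mul R, ev_x₂, ev_k, he]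
    have h2 := congrArg (fun t : T => t.w.c) h1
    simp [mul, T.mul, tx₂, tk, Qt.mul, Qt.X1, Qt.X2, Qt.Y, Qt.S, Qt.sg, Qt.x2] at h2
  · intro g hgz hgx
    obtain ⟨t, rfl⟩ := exists_ev h R hgz
    have h1 : mul t tx₁ = mul tx₁ t := by
      apply ev_eq h R
      rw [← ev_mul R, ← ev_mul R, ev_x₁, hgx]
    have h2 := allT_spec cent_dec t
    simp only [h1, T.beq_self, Bool.not_true, Bool.false_or, Bool.and_eq_true, Bool.not_eq_true'] at h2
    obtain ⟨⟨a0, a1, a2, a3, a4⟩, m, n, e, f⟩ := t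
    obtain ⟨h3, h4, h5, h6⟩ := h2
    simp only at h3 h4 h5 h6
    subst h3; subst h4; subst h5; subst h6
    have hm : ∃ a : ℤ, pw3 m x₁ = x₁ ^ a := by
      cases m
      · exact ⟨0, by simp [pw3]⟩
      · exact ⟨1, by simp [pw3]⟩
      · exact ⟨2, by rw [pw3, zpow_two]⟩
    have hn : ∃ b : ℤ, pw3 n x₂ = x₂ ^ b := by
      cases n
      · exact ⟨0, by simp [pw3]⟩
      · exact ⟨1, by simp [pw3]⟩
      · exact ⟨2, by rw [pw3, zpow_two]⟩
    obtain ⟨a, ha⟩ := hm
    obtain ⟨b, hb⟩ := hn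
    have hq : ∃ a' b' c', pw3 n x₂ * kl z k l a' b' c' = kl z k l a0 a3 a4 * pw3 n x₂ := by
      cases n
      · exact ⟨a0, a3, a4, by simp [pw3]⟩
      · have h7 := ax2 R ⟨a0, false, false, xor a3 a4, a3⟩
        simp only [Qt.x2, Qt.ev, pw, cond_false, one_mul] at h7
        refine ⟨a0, xor a3 a4, a3, ?_⟩
        have e1 : xor (xor a3 a4) a3 = a4 := by cases a3 <;> cases a4 <;> rfl
        rw [e1] at h7
        exact h7
      · have h7 := ax2 R ⟨a0, false, false, a4, xor a3 a4⟩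
        have h8 := ax2 R ⟨a0, false, false, xor a3 a4, a3⟩
        simp only [Qt.x2, Qt.ev, pw, cond_false, one_mul] at h7 h8
        refine ⟨a0, a4, xor a3 a4, ?_⟩
        have e1 : xor (xor a3 a4) a3 = a4 := by cases a3 <;> cases a4 <;> rfl
        have e2 : xor a4 (xor a3 a4) = a3 := by cases a3 <;> cases a4 <;> rfl
        rw [e1] at h8
        rw [e2] at h7
        show x₂ * x₂ * kl z k l a0 a4 (xor a3 a4) = kl z k l a0 a3 a4 * (x₂ * x₂)
        have h7' : x₂ * kl z k l a0 a4 (xor a3 a4) = kl z k l a0 (xor a3 a4) a3 * x₂ := h7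
        have h8' : x₂ * kl z k l a0 (xor a3 a4) a3 = kl z k l a0 a3 a4 * x₂ := h8
        rw [mul_assoc, h7', ← mul_assoc, h8', mul_assoc]
    obtain ⟨a', b', c', hq⟩ := hq
    refine ⟨a, b, kl z k l a' b' c', kl_mem hP _ _ _, ?_⟩
    rw [← ha, ← hb, hq]
    have h9 : kl z k l a0 a3 a4 * pw3 m x₁ = pw3 m x₁ * kl z k l a0 a3 a4 := by
      rw [ha]
      exact ((show Commute (kl z k l a0 a3 a4) x₁ from hkk _ _ _).zpow_right a).eq
    calc (⟨⟨a0, false, false, a3, a4⟩, m, n, false, false⟩ : T).ev z i j k l x₁ x₂ y s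
        = kl z k l a0 a3 a4 * pw3 m x₁ * pw3 n x₂ := by simp [T.ev, Qt.ev, pw, kl, mul_assoc]
      _ = pw3 m x₁ * (kl z k l a0 a3 a4 * pw3 n x₂) := by rw [h9, mul_assoc]
  · refine ⟨k * l, Subgroup.mul_mem _ (Subgroup.subset_closure (by simp)) (Subgroup.subset_closure (by simp)), ?_⟩
    rw [mul_inv_eq_iff_eq_mul]
    coll R
  · exact ⟨k, Subgroup.subset_closure (by simp), h.kk⟩

/-! ### `s i k` is conjugate to `z` -/

theorem rules_fus (h : Fus Q z i j k l x₁ x₂ y s θ) : Rules false false false z i j k l x₁ x₂ y s :=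
  rules h.toCase9aa h.y_sq h.s_sq h.s_y

theorem conj_z (h : Fus Q z i j k l x₁ x₂ y s θ) : ∃ p : G, p * z * p⁻¹ = s * (i * k) := by
  have R := rules_fus h
  have e1 : θ * (θ * (s * z) * θ⁻¹) * θ⁻¹ = i * j * k * l * y := by
    have h1 : θ * (s * z) * θ⁻¹ = (i * j * k * l * s * z) * y := by
      calc θ * (s * z) * θ⁻¹ = (θ * s * θ⁻¹) * (θ * z * θ⁻¹) := by group
        _ = _ := by rw [h.θs, h.θz]
    rw [h1]
    calc θ * ((i * j * k * l * s * z) * y) * θ⁻¹
        = (θ * (i * j * k * l) * θ⁻¹) * (θ * s * θ⁻¹) * (θ * z * θ⁻¹) * (θ * y * θ⁻¹) := by group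
      _ = (s * y) * (i * j * k * l * s * z) * y * (z * y) := by rw [h.θd, h.θs, h.θz, h.θy]
      _ = i * j * k * l * y := by coll R
  have e2 : i * (s * z) * i⁻¹ = s * (i * k) := by
    rw [mul_inv_eq_iff_eq_mul]
    coll R
  have e3 : (i * k) * y * (i * k)⁻¹ = i * j * k * l * y := by
    rw [mul_inv_eq_iff_eq_mul]
    coll R
  refine ⟨i * (θ * θ)⁻¹ * (i * k) * θ, ?_⟩
  calc i * (θ * θ)⁻¹ * (i * k) * θ * z * (i * (θ * θ)⁻¹ * (i * k) * θ)⁻¹
      = i * ((θ * θ)⁻¹ * ((i * k) * (θ * z * θ⁻¹) * (i * k)⁻¹) * (θ * θ)) * i⁻¹ := by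
        simp only [mul_inv_rev, inv_inv, mul_assoc]
    _ = i * ((θ * θ)⁻¹ * (θ * (θ * (s * z) * θ⁻¹) * θ⁻¹) * (θ * θ)) * i⁻¹ := by rw [h.θz, e3, e1]
    _ = i * (s * z) * i⁻¹ := by group
    _ = _ := e2

/-- Transport of the abelian subgroup of order `81`. -/
theorem exists_B [Finite G] (h : Fus Q z i j k l x₁ x₂ y s θ) {w : G} (w3 : w ^ 3 = 1)
    (w_z1 : w * (s * (i * k)) = s * (i * k) * w) {B : Subgroup G} (hB : ∀ a ∈ B, ∀ b ∈ B, a * b = b * a)
    (hc : Nat.card B = 81)
    (hW : ∀ g : G, g ^ 3 = 1 → g * w = w * g → g * (s * (i * k)) = s * (i * k) * g → g ∈ B) :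
    ∃ B' : Subgroup G, (∀ a ∈ B', ∀ b ∈ B', a * b = b * a) ∧ Nat.card B' = 81 ∧ x₁ ∈ B' ∧ x₂ ∈ B' := by
  have R := rules_fus h
  have hC := h.toCase9aa
  obtain ⟨p, hp⟩ := conj_z h
  have hu : (p⁻¹ * w * p) * z = z * (p⁻¹ * w * p) := by
    rw [← hp] at w_z1
    calc (p⁻¹ * w * p) * z = p⁻¹ * (w * (p * z * p⁻¹)) * p := by group
      _ = z * (p⁻¹ * w * p) := by rw [w_z1]; group
  obtain ⟨t, ht⟩ := exists_ev hC R hu
  have ht3 : mul t (mul t t) = T.one := by
    apply ev_eq hC R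
    rw [← ev_mul R, ← ev_mul R, ← ht, ev_one]
    calc (p⁻¹ * w * p) * ((p⁻¹ * w * p) * (p⁻¹ * w * p)) = p⁻¹ * w ^ 3 * p := by
          rw [pow_succ, pow_two]; group
      _ = 1 := by rw [w3]; group
  have h1 := allT_spec three_dec t
  rw [ht3, T.beq_self, Bool.not_true, Bool.false_or] at h1
  obtain ⟨q, hq⟩ := anyQ_spec h1
  simp only [Bool.and_eq_true] at hq
  obtain ⟨hq0, hq1, hq2⟩ := hq
  have hq0 := T.eq_of_beq hq0
  have hq1 := T.eq_of_beq hq1
  have hq2 := T.eq_of_beq hq2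
  set c := q.ev z i j k l x₁ x₂ y s with hc'
  have hc4 : c * (c * (c * c)) = 1 := by
    rw [hc', ev_mul R, ev_mul R, ev_mul R, ← ev_one (z := z) (i := i) (j := j) (k := k) (l := l) (x₁ := x₁)
      (x₂ := x₂) (y := y) (s := s)]
    exact congrArg _ hq0
  have hc3 : c * (c * c) = c⁻¹ := by
    rw [eq_comm, inv_eq_iff_mul_eq_one, hc4]
  have hcj : ∀ u : T, (cj q u).ev z i j k l x₁ x₂ y s = c * u.ev z i j k l x₁ x₂ y s * c⁻¹ := by
    intro u
    rw [← hc3]
    simp only [cj, mul, ← ev_mul R]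
    rfl
  have hcz : c * z = z * c := ev_comm R q
  have main : ∀ x : G, x ^ 3 = 1 → x * z = z * x → (p⁻¹ * w * p) * (c * x * c⁻¹) = (c * x * c⁻¹) * (p⁻¹ * w * p) →
      (p * c) * x * (p * c)⁻¹ ∈ B := by
    intro x hx hxz hxw
    apply hW
    · rw [conj_pow, hx, mul_one, mul_inv_cancel]
    · calc (p * c) * x * (p * c)⁻¹ * w = p * ((c * x * c⁻¹) * (p⁻¹ * w * p)) * p⁻¹ := by group
        _ = w * ((p * c) * x * (p * c)⁻¹) := by rw [← hxw]; group
    · rw [← hp]
      have h2 : (c * x * c⁻¹) * z = z * (c * x * c⁻¹) :=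
        (((show Commute c z from hcz).mul_left (show Commute x z from hxz)).mul_left
          (show Commute c z from hcz).inv_left).eq
      calc (p * c) * x * (p * c)⁻¹ * (p * z * p⁻¹) = p * ((c * x * c⁻¹) * z) * p⁻¹ := by group
        _ = p * z * p⁻¹ * ((p * c) * x * (p * c)⁻¹) := by rw [h2]; group
  refine ⟨B.map (MulAut.conj (p * c)⁻¹).toMonoidHom, ?_, ?_, ?_, ?_⟩
  · rintro _ ⟨a, ha, rfl⟩ _ ⟨b, hb, rfl⟩
    rw [← map_mul, ← map_mul, hB a ha b hb]
  · rw [Subgroup.card_map_of_injective (MulAut.conj (p * c)⁻¹).injective, hc]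
  · refine ⟨_, main x₁ h.x₁3 R.zx ?_, ?_⟩
    · rw [ht, show c * x₁ * c⁻¹ = (cj q tx₁).ev z i j k l x₁ x₂ y s by rw [hcj, ev_x₁], ev_mul R, ev_mul R]
      exact congrArg _ hq1
    · show (p * c)⁻¹ * ((p * c) * x₁ * (p * c)⁻¹) * (p * c)⁻¹⁻¹ = x₁
      group
  · refine ⟨_, main x₂ h.x₂3 R.zw ?_, ?_⟩
    · rw [ht, show c * x₂ * c⁻¹ = (cj q tx₂).ev z i j k l x₁ x₂ y s by rw [hcj, ev_x₂], ev_mul R, ev_mul R]
      exact congrArg _ hq2
    · show (p * c)⁻¹ * ((p * c) * x₂ * (p * c)⁻¹) * (p * c)⁻¹⁻¹ = x₂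
      group

/-! ### the order of `O(C_G(x₁))` -/

theorem card_cent_le [Finite G] (h : Fus Q z i j k l x₁ x₂ y s θ) :
    Nat.card (Subgroup.centralizer ({x₁} : Set G)) ≤ Nat.card (centralizerPPrimeCore 2 x₁) * 24 := by
  have R := rules_fus h
  have H := half h.toCase9aa h.y_sq h.s_sq h.s_y
  have key : ∀ g : Subgroup.centralizer ({x₁} : Set G), ∃ v : centralizerPPrimeCore 2 x₁ × (Fin 3 × Bool × Bool × Bool),
      (g : G) = v.1 * (x₂ ^ (v.2.1 : ℕ) * kl z k l v.2.2.1 v.2.2.2.1 v.2.2.2.2) := by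
    intro g
    obtain ⟨u, hu, c, hcz, hcx, hg⟩ := H.exists_decomp (mem_cent.1 g.2)
    obtain ⟨a, b, q, hq, hcq⟩ := H.cent c hcz hcx
    obtain ⟨q1, q2, q3, rfl⟩ := mem_kl h.toPlus R hq
    have hb : ∃ n : Fin 3, x₂ ^ b = x₂ ^ (n : ℕ) := by
      have h0 := Int.emod_nonneg b (show (3 : ℤ) ≠ 0 by norm_num)
      have h1 := Int.emod_lt_of_pos b (show (0 : ℤ) < 3 by norm_num)
      refine ⟨⟨(b % 3).toNat, by omega⟩, ?_⟩
      rw [← zpow_natCast, Int.toNat_of_nonneg h0]
      conv_lhs => rw [← Int.emod_add_mul_ediv b 3]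
      rw [zpow_add, zpow_mul]
      have : x₂ ^ (3 : ℤ) = 1 := by exact_mod_cast h.x₂3
      rw [this, one_zpow, mul_one]
    obtain ⟨n, hn⟩ := hb
    refine ⟨⟨⟨u * x₁ ^ a, Subgroup.mul_mem _ hu (Subgroup.zpow_mem _ H.x_mem a)⟩, n, q1, q2, q3⟩, ?_⟩
    show (g : G) = u * x₁ ^ a * (x₂ ^ (n : ℕ) * kl z k l q1 q2 q3)
    rw [hg, hcq, hn, mul_assoc]
  choose f hf using key
  have hinj : Function.Injective f := by
    intro a b hab
    apply Subtype.ext
    rw [hf a, hf b, hab]
  have h1 := Nat.card_le_card_of_injective f hinj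
  have h2 : Nat.card (Fin 3 × Bool × Bool × Bool) = 24 := by
    simp [Nat.card_eq_fintype_card]
  rwa [Nat.card_prod, h2] at h1

theorem exists_core [Finite G] (h : Fus Q z i j k l x₁ x₂ y s θ) {B : Subgroup G}
    (hB : ∀ a ∈ B, ∀ b ∈ B, a * b = b * a) (hc : Nat.card B = 81) (hx₁ : x₁ ∈ B) (hx₂ : x₂ ∈ B) :
    Core z i j k l x₁ x₂ y (centralizerPPrimeCore 2 x₁) := by
  have R := rules_fus h
  have H := half h.toCase9aa h.y_sq h.s_sq h.s_y
  have : Fact (Nat.Prime 3) := ⟨Nat.prime_three⟩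
  set K := centralizerPPrimeCore 2 x₁ with hK
  have hcard := H.card_core
  rw [← hK] at hcard
  set a := Nat.card (K ⊓ Subgroup.centralizer {y} : Subgroup G) with ha
  have hle := card_cent_le h
  rw [← hK] at hle
  have hBC : B ≤ Subgroup.centralizer ({x₁} : Set G) := fun b hb => mem_cent.2 (hB b hb x₁ hx₁)
  have hKC : K ≤ Subgroup.centralizer ({x₁} : Set G) := core_le x₁
  -- `a ∣ 1152`, `a` odd
  have hcy : Nat.card (Subgroup.centralizer ({y} : Set G)) = 1152 := by
    have h1 : Subgroup.centralizer ({y} : Set G) = (Subgroup.centralizer ({z} : Set G)).map (MulAut.conj θ).toMonoidHom := by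
      ext g
      rw [mem_cent, Subgroup.mem_map]
      constructor
      · intro hg
        refine ⟨θ⁻¹ * g * θ, mem_cent.2 ?_, ?_⟩
        · rw [← h.θz] at hg
          calc θ⁻¹ * g * θ * z = θ⁻¹ * (g * (θ * z * θ⁻¹)) * θ := by group
            _ = z * (θ⁻¹ * g * θ) := by rw [hg]; group
        · show θ * (θ⁻¹ * g * θ) * θ⁻¹ = g
          group
      · rintro ⟨c, hc, rfl⟩
        have hc' := mem_cent.1 hc
        show θ * c * θ⁻¹ * y = y * (θ * c * θ⁻¹)
        rw [← h.θz]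
        calc θ * c * θ⁻¹ * (θ * z * θ⁻¹) = θ * (c * z) * θ⁻¹ := by group
          _ = θ * z * θ⁻¹ * (θ * c * θ⁻¹) := by rw [hc']; group
    rw [h1, Subgroup.card_map_of_injective (MulAut.conj θ).injective, h.card_cent]
  have hadvd : a ∣ 1152 := hcy ▸ Subgroup.card_dvd_of_le (inf_le_right : K ⊓ Subgroup.centralizer {y} ≤ _)
  have haodd : Odd a := Odd.of_dvd_nat (core_odd x₁) (Subgroup.card_dvd_of_le inf_le_left)
  have ha9 : a ∣ 9 := by
    have h1 : a.Coprime (2 ^ 7) := Nat.Coprime.pow_right 7 (Nat.coprime_two_right.2 haodd)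
    exact h1.dvd_of_dvd_mul_left (show a ∣ 2 ^ 7 * 9 from hadvd)
  have hacases : a = 1 ∨ a = 3 ∨ a = 9 := by
    have h1 : a ≤ 9 := Nat.le_of_dvd (by norm_num) ha9
    interval_cases a <;> omega
  have hBle : 81 ≤ Nat.card (Subgroup.centralizer ({x₁} : Set G)) := hc ▸ Subgroup.card_le_of_le hBC
  have ha : a = 9 := by
    rcases hacases with h1 | h1 | h1
    · exfalso
      rw [h1] at hcard
      omega
    · exfalso
      rw [h1] at hcard
      -- `K ≤ B`
      have hK3 : IsPGroup 3 K := IsPGroup.of_card (n := 3) (by rw [hcard]; norm_num)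
      have hB3 : IsPGroup 3 B := IsPGroup.of_card (n := 4) (by rw [hc]; norm_num)
      have hnorm : B ≤ Subgroup.normalizer (K : Set G) := by
        intro b hb
        rw [Subgroup.mem_normalizer_iff]
        intro g
        have hbx := hB b hb x₁ hx₁
        constructor
        · exact fun hg => core_conj_mem hbx hg
        · intro hg
          have h2 := core_conj_mem (y := b⁻¹) (Commute.inv_left (show Commute b x₁ from hbx)).eq hg
          convert h2 using 1
          group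
      have hP : IsPGroup 3 (B ⊔ K : Subgroup G) := IsPGroup.to_sup_of_normal_right' hB3 hK3 hnorm
      obtain ⟨n, hn⟩ := IsPGroup.iff_card.1 hP
      have hPC : B ⊔ K ≤ Subgroup.centralizer ({x₁} : Set G) := sup_le hBC hKC
      have hdvd := Subgroup.card_dvd_of_le hPC
      have hn4 : n ≤ 4 := by
        by_contra hcon
        have h2 : 3 ^ 5 ∣ Nat.card (Subgroup.centralizer ({x₁} : Set G)) := by
          refine dvd_trans (pow_dvd_pow 3 (show 5 ≤ n by omega)) ?_
          rw [← hn]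
          exact hdvd
        have hQ8 : 8 ∣ Nat.card (Subgroup.centralizer ({x₁} : Set G)) := by
          have h3 : (Subgroup.closure {k, l} : Subgroup G) ≤ Subgroup.centralizer ({x₁} : Set G) :=
            fun q hq => mem_cent.2 (H.Qx q hq)
          have h4 : Nat.card (Subgroup.closure {k, l} : Subgroup G) = 8 := by
            let f : Bool × Bool × Bool → (Subgroup.closure {k, l} : Subgroup G) := fun v =>
              ⟨kl z k l v.1 v.2.1 v.2.2, kl_mem h.toPlus _ _ _⟩
            have hf : Function.Bijective f := by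
              constructor
              · rintro ⟨a, b, c⟩ ⟨a', b', c'⟩ he
                have he' : kl z k l a b c = kl z k l a' b' c' := congrArg Subtype.val he
                have h5 : (⟨⟨a, false, false, b, c⟩, C3.o, C3.o, false, false⟩ : T) =
                    ⟨⟨a', false, false, b', c'⟩, C3.o, C3.o, false, false⟩ := by
                  apply ev_eq h.toCase9aa R
                  simpa [T.ev, Qt.ev, pw, pw3, kl] using he'
                simp only [T.mk.injEq, Qt.mk.injEq, true_and, and_true] at h5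
                obtain ⟨rfl, rfl, rfl⟩ := h5
                rfl
              · rintro ⟨g, hg⟩
                obtain ⟨a, b, c, rfl⟩ := mem_kl h.toPlus R hg
                exact ⟨(a, b, c), rfl⟩
            rw [← Nat.card_congr (Equiv.ofBijective f hf)]
            simp [Nat.card_eq_fintype_card]
          rw [← h4]
          exact Subgroup.card_dvd_of_le h3
        have h3 : 8 * 3 ^ 5 ∣ Nat.card (Subgroup.centralizer ({x₁} : Set G)) :=
          Nat.Coprime.mul_dvd_of_dvd_of_dvd (by norm_num) hQ8 h2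
        have h4 := Nat.le_of_dvd (by omega) h3
        omega
      have h2 : Nat.card (B ⊔ K : Subgroup G) ≤ Nat.card B := by
        rw [hn, hc]
        calc 3 ^ n ≤ 3 ^ 4 := Nat.pow_le_pow_right (by norm_num) hn4
          _ = 81 := by norm_num
      have h3 : B = B ⊔ K := Subgroup.eq_of_le_of_card_ge le_sup_left h2
      have hKB : K ≤ B := h3 ▸ le_sup_right
      have h4 := H.eq_of_le_cent (fun u hu => hB u (hKB hu) x₂ hx₂)
      have h5 : Nat.card K ≤ Nat.card (Subgroup.zpowers x₁) := Subgroup.card_le_of_le h4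
      rw [Nat.card_zpowers, orderOf_eq_prime h.x₁3 H.x1, hcard] at h5
      omega
    · exact h1
  refine ⟨hKC, ?_, ?_, ?_, ha, ?_⟩
  · rw [hcard, ha]; norm_num
  · intro c hc g hg
    exact core_conj_mem hc hg
  · intro g hg
    obtain ⟨n, hn⟩ := H.z_conj hg
    refine ⟨n, ?_⟩
    show x₁ ^ n = z * g * z⁻¹ * g
    have hgx : Commute g x₁ := core_comm hg
    rw [hn, mul_assoc, ← (hgx.zpow_right n).eq]
    group
  · intro c hc
    obtain ⟨u, hu, c', hcz, hcx, rfl⟩ := H.exists_decomp hc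
    obtain ⟨a, b, q, hq, rfl⟩ := H.cent c' hcz hcx
    refine ⟨u * x₁ ^ a, Subgroup.mul_mem _ hu (Subgroup.zpow_mem _ H.x_mem a), x₂ ^ b * q, ?_, by group⟩
    refine Subgroup.mul_mem _ (Subgroup.zpow_mem _ (Subgroup.subset_closure (by simp)) b) ?_
    exact Subgroup.closure_mono (by
      intro g hg
      rcases hg with rfl | rfl <;> simp) hq

end Cfsg.Agent.LargeExtra.W2.LFour.CoreOf
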