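import Cfsg.Agent.LargeExtra.W2.LFour.PresDef
import Cfsg.Agent.SmallExtra438.FrameA

/-!
# S1759, `L₄(3)`: the two Coxeter relations of the presentation (helper373)

`E = ⟨z, s, i k, j l⟩` has five elements conjugate to `z` and not in `Q`, product one; `w = (1 2 3)`,
`x₁ x₂ = (4 5 3)`, `T w = (1 3)` and `τ = (2 5)` on them. The conjugates of `T w` and `τ` under
`w (x₁ x₂)⁻¹` lie in `C_G(z)`, where the statement is checked in the model of helper438. In the same way for
`E' = ⟨z, s y, i l, j k⟩`.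
-/

set_option autoImplicit false

namespace Cfsg.Agent.LargeExtra.W2.LFour.Cox

open Cfsg.Agent.LargeExtra.W2 Cfsg.Agent.LargeExtra.W2.LFour Cfsg.Agent.LargeExtra.W2.LFour.PresDef
open Cfsg.Agent.SmallExtra438.ModelA (mm mm_lt)
open Cfsg.Agent.SmallExtra438.FrameA

/-! ### facts about the model -/

/-- `m` is an involution with `m p.1 = p.2 m` for the pairs `p` -/
def cond (P : List (ℕ × ℕ)) (m : ℕ) : Bool := mm 0 m m == 0 && P.all fun p => mm 0 m p.1 == mm 0 p.2 m

/-- `m` lies in `LA` or is conjugate to `y` -/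
def concl (LA WA : List ℕ) (m : ℕ) : Bool := LA.any (fun c => c == m) || WA.any fun c => mm 0 c m == mm 0 288 c

def chk (P : List (ℕ × ℕ)) (LA WA : List ℕ) (m : ℕ) : Bool := !cond P m || concl LA WA m

theorem fA : ∀ m < 1152, chk [(592, 586), (591, 591), (581, 581)] [999, 1005, 1015, 1021]
    [129, 132, 130, 135] m = true := by decide +kernel

theorem fB : ∀ m < 1152, chk [(592, 592), (591, 581), (586, 586)] [992, 1002, 1008, 1018]
    [128, 133, 131, 134] m = true := by decide +kernel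

theorem fC : ∀ m ∈ [999, 1005, 1015, 1021], ∀ n ∈ [992, 1002, 1008, 1018], mm 0 m n = mm 0 n m := by
  decide +kernel

theorem fA' : ∀ m < 1152, chk [(880, 886), (895, 895), (889, 889)] [811, 813, 827, 829]
    [225, 228, 226, 231] m = true := by decide +kernel

theorem fB' : ∀ m < 1152, chk [(880, 880), (895, 889), (886, 886)] [800, 806, 816, 822]
    [224, 229, 227, 230] m = true := by decide +kernel

theorem fC' : ∀ m ∈ [811, 813, 827, 829], ∀ n ∈ [800, 806, 816, 822], mm 0 m n = mm 0 n m := by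
  decide +kernel

theorem of_chk {P : List (ℕ × ℕ)} {LA WA : List ℕ} {m : ℕ} (h : chk P LA WA m = true)
    (h0 : mm 0 m m = 0) (h1 : ∀ p ∈ P, mm 0 m p.1 = mm 0 p.2 m) :
    m ∈ LA ∨ ∃ c ∈ WA, mm 0 c m = mm 0 288 c := by
  have hc : cond P m = true := by
    simp only [cond, Bool.and_eq_true, beq_iff_eq, List.all_eq_true]
    exact ⟨h0, h1⟩
  simp only [chk, hc, Bool.not_true, Bool.false_or, concl, Bool.or_eq_true, List.any_eq_true,
    beq_iff_eq] at h
  rcases h with ⟨c, hc', rfl⟩ | ⟨c, hc', h⟩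
  · exact Or.inl hc'
  · exact Or.inr ⟨c, hc', h⟩

/-! ### conjugation -/

variable {G : Type*} [Group G]

/-- `g` conjugates `a` to `b` -/
def Cj (g a b : G) : Prop := g * a = b * g

theorem Cj.mul {g h a b c : G} (h1 : Cj g b c) (h2 : Cj h a b) : Cj (g * h) a c := by
  unfold Cj at *
  rw [mul_assoc, h2, ← mul_assoc, h1, mul_assoc]

theorem Cj.inv {g a b : G} (h : Cj g a b) : Cj g⁻¹ b a := by
  unfold Cj at *
  rw [inv_mul_eq_iff_eq_mul, ← mul_assoc, h, mul_assoc, mul_inv_cancel, mul_one]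

theorem Cj.map_mul {g a b a' b' : G} (h : Cj g a b) (h' : Cj g a' b') : Cj g (a * a') (b * b') := by
  unfold Cj at *
  rw [← mul_assoc, h, mul_assoc, h', mul_assoc]

theorem Cj.of {g a b : G} (h : g * a * g⁻¹ = b) : Cj g a b := by
  unfold Cj
  rw [← h]; group

theorem Cj.conj {g t a b c e : G} (h1 : Cj g a b) (h2 : Cj t a c) (h3 : Cj g c e) :
    Cj (g * t * g⁻¹) b e := (h3.mul h2).mul h1.inv

theorem sq_conj {g t : G} (h : t * t = 1) : g * t * g⁻¹ * (g * t * g⁻¹) = 1 := by
  calc g * t * g⁻¹ * (g * t * g⁻¹) = g * (t * t) * g⁻¹ := by group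
    _ = 1 := by rw [h]; group

theorem comm_of_conj {g a b : G} (h : g * a * g⁻¹ * (g * b * g⁻¹) = g * b * g⁻¹ * (g * a * g⁻¹)) :
    a * b = b * a := by
  have h1 : g * (a * b) * g⁻¹ = g * (b * a) * g⁻¹ := by
    calc g * (a * b) * g⁻¹ = g * a * g⁻¹ * (g * b * g⁻¹) := by group
      _ = g * b * g⁻¹ * (g * a * g⁻¹) := h
      _ = g * (b * a) * g⁻¹ := by group
  simpa using h1

theorem sq_mul {a b : G} (ha : a * a = 1) (hb : b * b = 1) (hab : a * b = b * a) : (a * b) ^ 2 = 1 := by
  calc (a * b) ^ 2 = a * (b * a) * b := by rw [pow_two]; simp only [mul_assoc]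
    _ = (a * a) * (b * b) := by rw [← hab]; simp only [mul_assoc]
    _ = 1 := by rw [ha, hb, one_mul]

/-! ### the statement in `C_G(z)` -/

section

variable {Q : Subgroup G} {z i j k l x₁ x₂ y s : G}

local notation "F'" => F z i j k l x₁ x₂ y s

theorem comm_of_lists [Finite G] (h : Case9aa Q z i j k l x₁ x₂ y s) (ht : Tw 0 z y s) {e2 e3 e4 e5 : ℕ}
    (h2 : e2 < 1152) (h3 : e3 < 1152) (h4 : e4 < 1152) (h5 : e5 < 1152) {LA LB WA WB : List ℕ}
    (hWA : ∀ c ∈ WA, c < 1152) (hWB : ∀ c ∈ WB, c < 1152)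
    (hA : ∀ m < 1152, chk [(e2, e5), (e3, e3), (e4, e4)] LA WA m = true)
    (hB : ∀ m < 1152, chk [(e2, e2), (e3, e4), (e5, e5)] LB WB m = true)
    (hC : ∀ m ∈ LA, ∀ n ∈ LB, mm 0 m n = mm 0 n m)
    {a b : G} (ha : a * a = 1) (hb : b * b = 1) (haz : a * z = z * a) (hbz : b * z = z * b)
    (hna : ¬ IsConj y a) (hnb : ¬ IsConj y b)
    (a2 : Cj a (F' e2) (F' e5)) (a3 : Cj a (F' e3) (F' e3)) (a4 : Cj a (F' e4) (F' e4))
    (b2 : Cj b (F' e2) (F' e2)) (b3 : Cj b (F' e3) (F' e4)) (b5 : Cj b (F' e5) (F' e5)) :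
    a * b = b * a := by
  obtain ⟨m, hm, rfl⟩ := exists_code h haz
  obtain ⟨n, hn, rfl⟩ := exists_code h hbz
  have key : ∀ {u v w : ℕ}, u < 1152 → v < 1152 → w < 1152 → Cj (F' u) (F' v) (F' w) →
      mm 0 u v = mm 0 w u := by
    intro u v w hu hv hw hc
    unfold Cj at hc
    rw [← F_mul h ht hu hv, ← F_mul h ht hw hu] at hc
    exact F_inj h (mm_lt hu hv) (mm_lt hw hu) hc
  have hA' := of_chk (hA m hm) ((sq_iff h ht hm).1 ha) (by
    simp only [List.mem_cons, List.not_mem_nil, or_false]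
    rintro p (rfl | rfl | rfl)
    · exact key hm h2 h5 a2
    · exact key hm h3 h3 a3
    · exact key hm h4 h4 a4)
  have hB' := of_chk (hB n hn) ((sq_iff h ht hn).1 hb) (by
    simp only [List.mem_cons, List.not_mem_nil, or_false]
    rintro p (rfl | rfl | rfl)
    · exact key hn h2 h2 b2
    · exact key hn h3 h4 b3
    · exact key hn h5 h5 b5)
  rcases hA' with hA' | ⟨c, hc, hcm⟩
  · rcases hB' with hB' | ⟨c, hc, hcm⟩
    · exact (comm_iff h ht hm hn).2 (hC m hA' n hB')
    · have h7 := isConj_of h ht (hWB c hc) hn (by norm_num) hcm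
      rw [F_288] at h7
      exact absurd h7.symm hnb
  · have h7 := isConj_of h ht (hWA c hc) hm (by norm_num) hcm
    rw [F_288] at h7
    exact absurd h7.symm hna

end

section

variable {Q : Subgroup G} {z i j k l x₁ x₂ y s θ : G}

theorem tw (h : Fus Q z i j k l x₁ x₂ y s θ) : Tw 0 z y s := tw_zero h.y_sq h.s_sq h.s_y

/-- `y` is not conjugate to `s` -/
theorem not_conj_s [Finite G] (h : Fus Q z i j k l x₁ x₂ y s θ) : ¬ IsConj y s := by
  intro h1
  have h2 : IsConj z y := isConj_iff.2 ⟨θ, h.θz⟩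
  have h3 : IsConj (i * j * k * l * z) s := by
    refine isConj_iff.2 ⟨θ, ?_⟩
    calc θ * (i * j * k * l * z) * θ⁻¹ = (θ * (i * j * k * l) * θ⁻¹) * (θ * z * θ⁻¹) := by group
      _ = s * (y * y) := by rw [h.θd, h.θz, mul_assoc]
      _ = s := by rw [h.y_sq, mul_one]
  have h4 : IsConj (i * j * k * l) (i * j * k * l * z) := by
    have h5 := isConj_of h.toCase9aa (tw h) (c := 1) (m := 15) (n := 31) (by norm_num) (by norm_num)
      (by norm_num) (by decide +kernel)
    have h6 : F z i j k l x₁ x₂ y s 31 = i * j * k * l * z := by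
      rw [show (31 : ℕ) = mm 0 15 16 from by decide +kernel,
        F_mul h.toCase9aa (tw h) (by norm_num) (by norm_num), F_15, F_16]
    rwa [F_15, h6] at h5
  exact h.nc ((h2.trans h1).trans (h4.trans h3).symm)

/-- `y` is not conjugate to `s y` -/
theorem not_conj_sy (h : Fus Q z i j k l x₁ x₂ y s θ) : ¬ IsConj y (s * y) := by
  intro h1
  have h2 : IsConj z y := isConj_iff.2 ⟨θ, h.θz⟩
  have h3 : IsConj (i * j * k * l) (s * y) := isConj_iff.2 ⟨θ, h.θd⟩
  exact h.nc ((h2.trans h1).trans h3.symm)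

end

/-! ### the generic argument -/

section

variable {Q : Subgroup G} {z i j k l x₁ x₂ y s : G}

local notation "F'" => F z i j k l x₁ x₂ y s

theorem conj_mul_self {T w : G} (hT : T * T = 1) (hTw : T * w * T⁻¹ = w⁻¹) (hw : w ^ 3 = 1) :
    w * T * w⁻¹ = T * w ∧ T * w * (T * w) = 1 := by
  have h1 : T⁻¹ = T := inv_eq_of_mul_eq_one_left hT
  have h2 : T * w = w⁻¹ * T := by
    calc T * w = T * w * T⁻¹ * T := by group
      _ = w⁻¹ * T := by rw [hTw]
  have h3 : w * w * w = 1 := by rw [← hw]; simp only [pow_succ, pow_zero, one_mul]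
  have h4 : w * (T * w) = T := by rw [h2, mul_inv_cancel_left]
  constructor
  · calc w * T * w⁻¹ = w * (w * (T * w)) * w⁻¹ := by rw [h4]
      _ = w * w * T := by group
      _ = w⁻¹ * (w * w * w) * T := by group
      _ = T * w := by rw [h3, mul_one, h2]
  · calc T * w * (T * w) = w⁻¹ * T * (T * w) := by rw [← h2]
      _ = w⁻¹ * (T * T) * w := by group
      _ = 1 := by rw [hT]; group

theorem generic [Finite G] (h : Case9aa Q z i j k l x₁ x₂ y s) (ht : Tw 0 z y s) {e2 e3 e4 e5 : ℕ}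
    (h2 : e2 < 1152) (h3 : e3 < 1152) (h4 : e4 < 1152) (h5 : e5 < 1152) {LA LB WA WB : List ℕ}
    (hWA : ∀ c ∈ WA, c < 1152) (hWB : ∀ c ∈ WB, c < 1152)
    (hA : ∀ m < 1152, chk [(e2, e5), (e3, e3), (e4, e4)] LA WA m = true)
    (hB : ∀ m < 1152, chk [(e2, e2), (e3, e4), (e5, e5)] LB WB m = true)
    (hC : ∀ m ∈ LA, ∀ n ∈ LB, mm 0 m n = mm 0 n m) {w T ρ τ : G}
    (w1 : Cj w z (F' e2)) (w2 : Cj w (F' e2) (F' e3)) (w3 : Cj w (F' e3) z) (w4 : Cj w (F' e4) (F' e4))
    (w5 : Cj w (F' e5) (F' e5))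
    (T1 : Cj T z z) (T2 : Cj T (F' e2) (F' e3)) (T3 : Cj T (F' e3) (F' e2)) (T4 : Cj T (F' e4) (F' e4))
    (T5 : Cj T (F' e5) (F' e5))
    (r1 : Cj ρ z z) (r2 : Cj ρ (F' e2) (F' e2)) (r3 : Cj ρ (F' e3) (F' e4)) (r4 : Cj ρ (F' e4) (F' e5))
    (r5 : Cj ρ (F' e5) (F' e3))
    (u1 : Cj τ z z) (u2 : Cj τ (F' e2) (F' e5)) (u3 : Cj τ (F' e3) (F' e3)) (u4 : Cj τ (F' e4) (F' e4))
    (hT : T * T = 1) (hτ : τ * τ = 1) (hw : w ^ 3 = 1) (hTw : T * w * T⁻¹ = w⁻¹)
    (nT : ¬ IsConj y T) (nτ : ¬ IsConj y τ) : (T * w * τ) ^ 2 = 1 := by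
  obtain ⟨c1, c2⟩ := conj_mul_self hT hTw hw
  have t2 : Cj (T * w) (F' e2) (F' e2) := T3.mul w2
  have t4 : Cj (T * w) (F' e4) (F' e4) := T4.mul w4
  have t5 : Cj (T * w) (F' e5) (F' e5) := T5.mul w5
  have t1 : Cj (T * w) z (F' e3) := T2.mul w1
  have g1 : Cj (w * ρ⁻¹) z (F' e2) := w1.mul r1.inv
  have g2 : Cj (w * ρ⁻¹) (F' e2) (F' e3) := w2.mul r2.inv
  have g3 : Cj (w * ρ⁻¹) (F' e3) (F' e5) := w5.mul r5.inv
  have g5 : Cj (w * ρ⁻¹) (F' e5) (F' e4) := w4.mul r4.inv
  have g4 : Cj (w * ρ⁻¹) (F' e4) z := w3.mul r3.inv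
  refine sq_mul c2 hτ (comm_of_conj (g := w * ρ⁻¹) ?_)
  refine comm_of_lists h ht h2 h3 h4 h5 hWA hWB hA hB hC (sq_conj c2) (sq_conj hτ)
    (g4.conj t4 g4) (g4.conj u4 g4) ?_ ?_ (g1.conj t1 g3) (g2.conj t2 g2) (g5.conj t5 g5)
    (g1.conj u1 g1) (g2.conj u2 g5) (g3.conj u3 g3)
  · intro hn
    refine nT (hn.trans (IsConj.symm (IsConj.trans (isConj_iff.2 ⟨w, c1⟩) (isConj_iff.2 ⟨w * ρ⁻¹, rfl⟩))))
  · intro hn
    exact nτ (hn.trans (IsConj.symm (isConj_iff.2 ⟨w * ρ⁻¹, rfl⟩)))

theorem codeMul (h : Case9aa Q z i j k l x₁ x₂ y s) (ht : Tw 0 z y s) {m n r : ℕ} {a b : G}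
    (ha : F' m = a) (hb : F' n = b) (hm : m < 1152) (hn : n < 1152) (he : mm 0 m n = r) :
    F' r = a * b := by
  rw [← he, F_mul h ht hm hn, ha, hb]

theorem codeCj (h : Case9aa Q z i j k l x₁ x₂ y s) (ht : Tw 0 z y s) {c m n : ℕ} {g a b : G}
    (hg : F' c = g) (ha : F' m = a) (hb : F' n = b) (hc : c < 1152) (hm : m < 1152) (hn : n < 1152)
    (he : mm 0 c m = mm 0 n c) : Cj g a b := by
  unfold Cj
  rw [← hg, ← ha, ← hb, ← F_mul h ht hc hm, ← F_mul h ht hn hc, he]

end

/-! ### the two relations -/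

section

variable {Q : Subgroup G} {z i j k l x₁ x₂ y s θ w w' : G}

theorem cox [Finite G] (H : Elem2 Q z i j k l x₁ x₂ y s θ w w') :
    (i * (s * y) * i⁻¹ * w * (i * k * l * x₁ * x₂ * y * s)) ^ 2 = 1 := by
  have h := H.toCase9aa
  have ht := tw H.toFus
  have hsy : F z i j k l x₁ x₂ y s 864 = s * y :=
    codeMul h ht F_576 F_288 (by norm_num) (by norm_num) (by decide +kernel)
  have hinv : F z i j k l x₁ x₂ y s 17 = i⁻¹ := by
    rw [← F_inv h ht (m := 1) (by norm_num) (by norm_num) (by decide +kernel), F_1]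
  have hT : F z i j k l x₁ x₂ y s 873 = i * (s * y) * i⁻¹ := by
    have h1 := codeMul h ht F_1 hsy (r := mm 0 1 864) (by norm_num) (by norm_num) rfl
    exact codeMul h ht h1 hinv (mm_lt (by norm_num) (by norm_num)) (by norm_num) (by decide +kernel)
  have hρ : F z i j k l x₁ x₂ y s 128 = x₁ * x₂ :=
    codeMul h ht F_32 F_96 (by norm_num) (by norm_num) (by decide +kernel)
  have hτ : F z i j k l x₁ x₂ y s 1005 = i * k * l * x₁ * x₂ * y * s := by
    have h1 := codeMul h ht F_1 F_4 (r := mm 0 1 4) (by norm_num) (by norm_num) rfl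
    have h2 := codeMul h ht h1 F_8 (mm_lt (by norm_num) (by norm_num)) (by norm_num) rfl
    have h3 := codeMul h ht h2 F_32 (mm_lt (mm_lt (by norm_num) (by norm_num)) (by norm_num)) (by norm_num) rfl
    have h4 := codeMul h ht h3 F_96 (mm_lt (mm_lt (mm_lt (by norm_num) (by norm_num)) (by norm_num))
      (by norm_num)) (by norm_num) rfl
    have h5 := codeMul h ht h4 F_288 (mm_lt (mm_lt (mm_lt (mm_lt (by norm_num) (by norm_num)) (by norm_num))
      (by norm_num)) (by norm_num)) (by norm_num) rfl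
    exact codeMul h ht h5 F_576 (mm_lt (mm_lt (mm_lt (mm_lt (mm_lt (by norm_num) (by norm_num)) (by norm_num))
      (by norm_num)) (by norm_num)) (by norm_num)) (by norm_num) (by decide +kernel)
  have w15 : Cj w (F z i j k l x₁ x₂ y s 15) (F z i j k l x₁ x₂ y s 15) := by
    rw [F_15]; exact H.w_d
  have w576 : Cj w (F z i j k l x₁ x₂ y s 576) (F z i j k l x₁ x₂ y s 31) := by
    rw [F_576, codeMul h ht F_15 F_16 (by norm_num) (by norm_num) (r := 31) (by decide +kernel)]
    exact Cj.of H.w_s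
  have w31 : Cj w (F z i j k l x₁ x₂ y s 31) (F z i j k l x₁ x₂ y s 607) := by
    have h1 := codeMul h ht F_15 F_576 (r := mm 0 15 576) (by norm_num) (by norm_num) rfl
    rw [codeMul h ht F_15 F_16 (by norm_num) (by norm_num) (r := 31) (by decide +kernel),
      codeMul h ht h1 F_16 (mm_lt (by norm_num) (by norm_num)) (by norm_num) (r := 607) (by decide +kernel)]
    exact Cj.of H.w_dz
  have w581 : Cj w (F z i j k l x₁ x₂ y s 581) (F z i j k l x₁ x₂ y s 581) := by
    rw [codeMul h ht F_576 F_5 (by norm_num) (by norm_num) (r := 581) (by decide +kernel)]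
    exact H.w_z1
  have w16 : Cj w z (F z i j k l x₁ x₂ y s 592) := by
    have h1 := w15.map_mul w31
    rwa [← codeMul h ht rfl rfl (by norm_num) (by norm_num) (r := 16) (by decide +kernel),
      ← codeMul h ht rfl rfl (by norm_num) (by norm_num) (r := 592) (by decide +kernel), F_16] at h1
  have w592 : Cj w (F z i j k l x₁ x₂ y s 592) (F z i j k l x₁ x₂ y s 591) := by
    have h1 := w576.map_mul w16
    rwa [← codeMul h ht rfl F_16 (by norm_num) (by norm_num) (r := 592) (by decide +kernel),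
      ← codeMul h ht rfl rfl (by norm_num) (by norm_num) (r := 591) (by decide +kernel)] at h1
  have w591 : Cj w (F z i j k l x₁ x₂ y s 591) z := by
    have h1 := w576.map_mul w15
    rwa [← codeMul h ht rfl rfl (by norm_num) (by norm_num) (r := 591) (by decide +kernel),
      ← codeMul h ht rfl rfl (by norm_num) (by norm_num) (r := 16) (by decide +kernel), F_16] at h1
  have w586 : Cj w (F z i j k l x₁ x₂ y s 586) (F z i j k l x₁ x₂ y s 586) := by
    have h1 := w581.map_mul w15
    rwa [← codeMul h ht rfl rfl (by norm_num) (by norm_num) (r := 586) (by decide +kernel)] at h1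
  refine generic h ht (e2 := 592) (e3 := 591) (e4 := 581) (e5 := 586) (by norm_num) (by norm_num)
    (by norm_num) (by norm_num) (WA := [129, 132, 130, 135]) (WB := [128, 133, 131, 134]) (by decide)
    (by decide) fA fB fC (ρ := x₁ * x₂) w16 w592 w591 w581 w586
    (codeCj h ht hT F_16 F_16 (by norm_num) (by norm_num) (by norm_num) (by decide +kernel))
    (codeCj h ht hT rfl rfl (by norm_num) (by norm_num) (by norm_num) (by decide +kernel))
    (codeCj h ht hT rfl rfl (by norm_num) (by norm_num) (by norm_num) (by decide +kernel))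
    (codeCj h ht hT rfl rfl (by norm_num) (by norm_num) (by norm_num) (by decide +kernel))
    (codeCj h ht hT rfl rfl (by norm_num) (by norm_num) (by norm_num) (by decide +kernel))
    (codeCj h ht hρ F_16 F_16 (by norm_num) (by norm_num) (by norm_num) (by decide +kernel))
    (codeCj h ht hρ rfl rfl (by norm_num) (by norm_num) (by norm_num) (by decide +kernel))
    (codeCj h ht hρ rfl rfl (by norm_num) (by norm_num) (by norm_num) (by decide +kernel))
    (codeCj h ht hρ rfl rfl (by norm_num) (by norm_num) (by norm_num) (by decide +kernel))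
    (codeCj h ht hρ rfl rfl (by norm_num) (by norm_num) (by norm_num) (by decide +kernel))
    (codeCj h ht hτ F_16 F_16 (by norm_num) (by norm_num) (by norm_num) (by decide +kernel))
    (codeCj h ht hτ rfl rfl (by norm_num) (by norm_num) (by norm_num) (by decide +kernel))
    (codeCj h ht hτ rfl rfl (by norm_num) (by norm_num) (by norm_num) (by decide +kernel))
    (codeCj h ht hτ rfl rfl (by norm_num) (by norm_num) (by norm_num) (by decide +kernel))
    ?_ ?_ H.w3 H.w_inv ?_ ?_
  · rw [← hT]; exact (sq_iff h ht (by norm_num)).2 (by decide +kernel)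
  · rw [← hτ]; exact (sq_iff h ht (by norm_num)).2 (by decide +kernel)
  · intro hn
    refine not_conj_sy H.toFus (hn.trans (IsConj.symm (isConj_iff.2 ⟨i, rfl⟩)))
  · intro hn
    have h1 := isConj_of h ht (c := 67) (m := 1005) (n := 864) (by norm_num) (by norm_num) (by norm_num)
      (by decide +kernel)
    rw [hτ, hsy] at h1
    exact not_conj_sy H.toFus (hn.trans h1)

theorem cox' [Finite G] (H : Elem2 Q z i j k l x₁ x₂ y s θ w w') :
    (i⁻¹ * s * i * w' * (i * k * l * x₁ * x₂⁻¹ * s * z)) ^ 2 = 1 := by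
  have h := H.toCase9aa
  have ht := tw H.toFus
  have hsy : F z i j k l x₁ x₂ y s 864 = s * y :=
    codeMul h ht F_576 F_288 (by norm_num) (by norm_num) (by decide +kernel)
  have hinv : F z i j k l x₁ x₂ y s 17 = i⁻¹ := by
    rw [← F_inv h ht (m := 1) (by norm_num) (by norm_num) (by decide +kernel), F_1]
  have hinv2 : F z i j k l x₁ x₂ y s 192 = x₂⁻¹ := by
    rw [← F_inv h ht (m := 96) (by norm_num) (by norm_num) (by decide +kernel), F_96]
  have hT : F z i j k l x₁ x₂ y s 597 = i⁻¹ * s * i := by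
    have h1 := codeMul h ht hinv F_576 (r := mm 0 17 576) (by norm_num) (by norm_num) rfl
    exact codeMul h ht h1 F_1 (mm_lt (by norm_num) (by norm_num)) (by norm_num) (by decide +kernel)
  have hρ : F z i j k l x₁ x₂ y s 224 = x₁ * x₂⁻¹ :=
    codeMul h ht F_32 hinv2 (by norm_num) (by norm_num) (by decide +kernel)
  have hτ : F z i j k l x₁ x₂ y s 829 = i * k * l * x₁ * x₂⁻¹ * s * z := by
    have h1 := codeMul h ht F_1 F_4 (r := mm 0 1 4) (by norm_num) (by norm_num) rfl
    have h2 := codeMul h ht h1 F_8 (mm_lt (by norm_num) (by norm_num)) (by norm_num) rfl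
    have h3 := codeMul h ht h2 F_32 (mm_lt (mm_lt (by norm_num) (by norm_num)) (by norm_num)) (by norm_num) rfl
    have h4 := codeMul h ht h3 hinv2 (mm_lt (mm_lt (mm_lt (by norm_num) (by norm_num)) (by norm_num))
      (by norm_num)) (by norm_num) rfl
    have h5 := codeMul h ht h4 F_576 (mm_lt (mm_lt (mm_lt (mm_lt (by norm_num) (by norm_num)) (by norm_num))
      (by norm_num)) (by norm_num)) (by norm_num) rfl
    exact codeMul h ht h5 F_16 (mm_lt (mm_lt (mm_lt (mm_lt (mm_lt (by norm_num) (by norm_num)) (by norm_num))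
      (by norm_num)) (by norm_num)) (by norm_num)) (by norm_num) (by decide +kernel)
  have hd1 : F z i j k l x₁ x₂ y s 879 = i * j * k * l * s * y := by
    have h1 := codeMul h ht F_15 F_576 (r := mm 0 15 576) (by norm_num) (by norm_num) rfl
    exact codeMul h ht h1 F_288 (mm_lt (by norm_num) (by norm_num)) (by norm_num) (by decide +kernel)
  have w31 : Cj w' (F z i j k l x₁ x₂ y s 31) (F z i j k l x₁ x₂ y s 31) := by
    rw [codeMul h ht F_15 F_16 (by norm_num) (by norm_num) (r := 31) (by decide +kernel)]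
    exact H.w'_dz
  have w15 : Cj w' (F z i j k l x₁ x₂ y s 15) (F z i j k l x₁ x₂ y s 879) := by
    rw [F_15, hd1]; exact Cj.of H.w'_d
  have w864 : Cj w' (F z i j k l x₁ x₂ y s 864) (F z i j k l x₁ x₂ y s 15) := by
    rw [F_15, hsy]; exact Cj.of H.w'_sy
  have w886 : Cj w' (F z i j k l x₁ x₂ y s 886) (F z i j k l x₁ x₂ y s 886) := by
    have h1 := codeMul h ht F_1 F_8 (r := mm 0 1 8) (by norm_num) (by norm_num) rfl
    have h2 := codeMul h ht h1 F_15 (mm_lt (by norm_num) (by norm_num)) (by norm_num) rfl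
    have h3 := codeMul h ht h2 F_576 (mm_lt (mm_lt (by norm_num) (by norm_num)) (by norm_num)) (by norm_num) rfl
    rw [codeMul h ht h3 F_288 (mm_lt (mm_lt (mm_lt (by norm_num) (by norm_num)) (by norm_num))
      (by norm_num)) (by norm_num) (r := 886) (by decide +kernel)]
    exact H.w'_z2
  have w16 : Cj w' z (F z i j k l x₁ x₂ y s 880) := by
    have h1 := w15.map_mul w31
    rwa [← codeMul h ht rfl rfl (by norm_num) (by norm_num) (r := 16) (by decide +kernel),
      ← codeMul h ht rfl rfl (by norm_num) (by norm_num) (r := 880) (by decide +kernel), F_16] at h1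
  have w880 : Cj w' (F z i j k l x₁ x₂ y s 880) (F z i j k l x₁ x₂ y s 895) := by
    have h1 := w864.map_mul w16
    rwa [← codeMul h ht rfl F_16 (by norm_num) (by norm_num) (r := 880) (by decide +kernel),
      ← codeMul h ht rfl rfl (by norm_num) (by norm_num) (r := 895) (by decide +kernel)] at h1
  have w895 : Cj w' (F z i j k l x₁ x₂ y s 895) z := by
    have h1 := w880.map_mul w15
    rwa [← codeMul h ht rfl rfl (by norm_num) (by norm_num) (r := 895) (by decide +kernel),
      ← codeMul h ht rfl rfl (by norm_num) (by norm_num) (r := 16) (by decide +kernel), F_16] at h1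
  have w889 : Cj w' (F z i j k l x₁ x₂ y s 889) (F z i j k l x₁ x₂ y s 889) := by
    have h1 := w886.map_mul w31
    rwa [← codeMul h ht rfl rfl (by norm_num) (by norm_num) (r := 889) (by decide +kernel)] at h1
  refine generic h ht (e2 := 880) (e3 := 895) (e4 := 889) (e5 := 886) (by norm_num) (by norm_num)
    (by norm_num) (by norm_num) (WA := [225, 228, 226, 231]) (WB := [224, 229, 227, 230]) (by decide)
    (by decide) fA' fB' fC' (ρ := x₁ * x₂⁻¹) w16 w880 w895 w889 w886
    (codeCj h ht hT F_16 F_16 (by norm_num) (by norm_num) (by norm_num) (by decide +kernel))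
    (codeCj h ht hT rfl rfl (by norm_num) (by norm_num) (by norm_num) (by decide +kernel))
    (codeCj h ht hT rfl rfl (by norm_num) (by norm_num) (by norm_num) (by decide +kernel))
    (codeCj h ht hT rfl rfl (by norm_num) (by norm_num) (by norm_num) (by decide +kernel))
    (codeCj h ht hT rfl rfl (by norm_num) (by norm_num) (by norm_num) (by decide +kernel))
    (codeCj h ht hρ F_16 F_16 (by norm_num) (by norm_num) (by norm_num) (by decide +kernel))
    (codeCj h ht hρ rfl rfl (by norm_num) (by norm_num) (by norm_num) (by decide +kernel))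
    (codeCj h ht hρ rfl rfl (by norm_num) (by norm_num) (by norm_num) (by decide +kernel))
    (codeCj h ht hρ rfl rfl (by norm_num) (by norm_num) (by norm_num) (by decide +kernel))
    (codeCj h ht hρ rfl rfl (by norm_num) (by norm_num) (by norm_num) (by decide +kernel))
    (codeCj h ht hτ F_16 F_16 (by norm_num) (by norm_num) (by norm_num) (by decide +kernel))
    (codeCj h ht hτ rfl rfl (by norm_num) (by norm_num) (by norm_num) (by decide +kernel))
    (codeCj h ht hτ rfl rfl (by norm_num) (by norm_num) (by norm_num) (by decide +kernel))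
    (codeCj h ht hτ rfl rfl (by norm_num) (by norm_num) (by norm_num) (by decide +kernel))
    ?_ ?_ H.w'3 H.w'_inv ?_ ?_
  · rw [← hT]; exact (sq_iff h ht (by norm_num)).2 (by decide +kernel)
  · rw [← hτ]; exact (sq_iff h ht (by norm_num)).2 (by decide +kernel)
  · intro hn
    have h1 : IsConj (i⁻¹ * s * i) s := isConj_iff.2 ⟨i, by group⟩
    exact not_conj_s H.toFus (hn.trans h1)
  · intro hn
    have h1 := isConj_of h ht (c := 67) (m := 829) (n := 576) (by norm_num) (by norm_num) (by norm_num)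
      (by decide +kernel)
    rw [hτ, F_576] at h1
    exact not_conj_s H.toFus (hn.trans h1)

end

end Cfsg.Agent.LargeExtra.W2.LFour.Cox
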