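import Cfsg.Agent.LargeExtra.W2.LFour.TwoT

/-!
# S1759, `L₄(3)`: the elements `w, w'` (helper156)

`E = ⟨z, y, d, s⟩ = U₁ × U₂`; `N_G(E)` is generated modulo `E` by `θ` and the conjugates of `θ` under `i k`, `i l`.
-/

set_option autoImplicit false
set_option linter.unusedSimpArgs false

namespace Cfsg.Agent.LargeExtra.W2.LFour.ElemN

open Cfsg.Agent.LargeExtra.W2 Cfsg.Agent.LargeExtra.W2.LFour.TwoT DihedralGroup

variable {G : Type*} [Group G] {Q : Subgroup G} {z i j k l x₁ x₂ y s θ : G}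

/-- the four-group `⟨r 2, sr 0⟩` of `D₄` -/
abbrev K (a : D4) : Prop := a = 1 ∨ a = r 2 ∨ a = sr 0 ∨ a = sr 2

/-- `E` in `D₄ × D₄` -/
abbrev KK (x : M) : Prop := K x.1 ∧ K x.2

/-- the three-cycle `r 2 → sr 2 → sr 0 → r 2` -/
def cyc (a : D4) : D4 :=
  if a = sr 0 then r 2 else if a = r 2 then sr 2 else if a = sr 2 then sr 0 else a

/-- `g` acts on `E` as `f` -/
def Acts (h : W7 z i j k l y s) (g : G) (f : M → M) : Prop :=
  ∀ x, KK x → g * phi h x * g⁻¹ = phi h (f x)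

/-- `C_G(E) = E` -/
def CE (h : W7 z i j k l y s) : Prop :=
  ∀ c, (∀ x, KK x → c * phi h x = phi h x * c) → ∃ x, KK x ∧ c = phi h x

section

variable (h : W7 z i j k l y s)

theorem Acts.congr {g : G} {f f' : M → M} (hg : Acts h g f) (hf : ∀ x, KK x → f x = f' x) :
    Acts h g f' := fun x hx => by rw [hg x hx, hf x hx]

theorem Acts.mul {g g' : G} {f f' : M → M} (hg : Acts h g f) (hg' : Acts h g' f')
    (hK : ∀ x, KK x → KK (f' x)) : Acts h (g * g') (fun x => f (f' x)) := by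
  intro x hx
  rw [← hg _ (hK x hx), ← hg' x hx]
  group

theorem Acts.phi (m : M) : Acts h (TwoT.phi h m) (fun x => m * x * m⁻¹) := by
  intro x _
  rw [map_mul, map_mul, map_inv]

theorem Acts.one : Acts h (1 : G) (fun x => x) := by
  intro x _
  simp

/-- the action is determined by the images of the generators -/
theorem Acts.of_gen {g : G} {f : M → M} {a b c e : G}
    (h1 : g * (i * j * k * l) * g⁻¹ = a) (h2 : g * (i * j * k * l * z) * g⁻¹ = b)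
    (h3 : g * (s * y) * g⁻¹ = c) (h4 : g * s * g⁻¹ = e)
    (f1 : TwoT.phi h (f (r 2, 1)) = a) (f2 : TwoT.phi h (f (1, r 2)) = b)
    (f3 : TwoT.phi h (f (sr 0, 1)) = c) (f4 : TwoT.phi h (f (1, sr 0)) = e)
    (hf : ∀ x x' : M, KK x → KK x' → f (x * x') = f x * f x') : Acts h g f := by
  have hmul : ∀ x x' : M, KK x → KK x' → g * TwoT.phi h x * g⁻¹ = TwoT.phi h (f x) →
      g * TwoT.phi h x' * g⁻¹ = TwoT.phi h (f x') →
      g * TwoT.phi h (x * x') * g⁻¹ = TwoT.phi h (f (x * x')) := by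
    intro x x' k1 k2 e1 e2
    rw [hf x x' k1 k2, map_mul, map_mul, ← e1, ← e2]
    group
  have e1 : g * TwoT.phi h (r 2, 1) * g⁻¹ = TwoT.phi h (f (r 2, 1)) := by
    rw [phi_d, f1, h1]
  have e2 : g * TwoT.phi h (1, r 2) * g⁻¹ = TwoT.phi h (f (1, r 2)) := by
    rw [phi_dz, f2, h2]
  have e3 : g * TwoT.phi h (sr 0, 1) * g⁻¹ = TwoT.phi h (f (sr 0, 1)) := by
    rw [phi_sy, f3, h3]
  have e4 : g * TwoT.phi h (1, sr 0) * g⁻¹ = TwoT.phi h (f (1, sr 0)) := by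
    rw [phi_s, f4, h4]
  have k0 : KK ((1, 1) : M) := by decide
  have e0 : g * TwoT.phi h (1, 1) * g⁻¹ = TwoT.phi h (f (1, 1)) := by
    have h5 : f (1, 1) = 1 := by
      have h6 := hf (1, 1) (1, 1) k0 k0
      have h7 : f (1, 1) * 1 = f (1, 1) * f (1, 1) := by rw [mul_one]; exact h6
      exact (mul_left_cancel h7).symm
    rw [h5]
    show g * TwoT.phi h 1 * g⁻¹ = _
    rw [map_one]
    simp
  have e13 := hmul (sr 0, 1) (r 2, 1) (by decide) (by decide) e3 e1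
  have e24 := hmul (1, sr 0) (1, r 2) (by decide) (by decide) e4 e2
  have l1 : ∀ a, K a → g * TwoT.phi h (a, 1) * g⁻¹ = TwoT.phi h (f (a, 1)) := by
    rintro a (rfl | rfl | rfl | rfl)
    · exact e0
    · exact e1
    · exact e3
    · exact e13
  have l2 : ∀ a, K a → g * TwoT.phi h (1, a) * g⁻¹ = TwoT.phi h (f (1, a)) := by
    rintro a (rfl | rfl | rfl | rfl)
    · exact e0
    · exact e2
    · exact e4
    · exact e24
  rintro ⟨a, b⟩ ⟨ka, kb⟩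
  have h5 := hmul (a, 1) (1, b) ⟨ka, Or.inl rfl⟩ ⟨Or.inl rfl, kb⟩ (l1 a ka) (l2 b kb)
  rwa [show ((a, 1) * (1, b) : M) = (a, b) by simp] at h5

end

theorem K_mul_comm : ∀ x x' : M, KK x → KK x' → x * x' = x' * x := by decide +kernel
theorem K_mul' : ∀ a b : D4, K a → K b → K (a * b) := by decide +kernel
theorem K_mul (x x' : M) (hx : KK x) (hx' : KK x') : KK (x * x') :=
  ⟨K_mul' _ _ hx.1 hx'.1, K_mul' _ _ hx.2 hx'.2⟩
theorem K_sq : ∀ x : M, KK x → x * x = 1 := by decide +kernel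

/-- an element acting with order three on `E` has a power of order three -/
theorem pow_four {h : W7 z i j k l y s} (hE : CE h) {g : G} {f : M → M} (hg : Acts h g f)
    (hK : ∀ x, KK x → KK (f x)) (h3 : ∀ x, KK x → f (f (f x)) = x) :
    (g ^ 4) ^ 3 = 1 ∧ Acts h (g ^ 4) f := by
  have h1 : Acts h (g * (g * g)) (fun x => x) :=
    (Acts.mul h hg (Acts.mul h hg hg hK) (fun x hx => hK _ (hK _ hx))).congr h h3
  obtain ⟨x, hx, hx'⟩ := hE (g * (g * g)) (fun x hx => by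
    have := h1 x hx
    rw [mul_inv_eq_iff_eq_mul] at this
    exact this)
  have h6 : (g * (g * g)) * (g * (g * g)) = 1 := by
    rw [hx', ← map_mul, K_sq x hx, map_one]
  refine ⟨?_, ?_⟩
  · have : (g ^ 4) ^ 3 = ((g * (g * g)) * (g * (g * g))) ^ 2 := by
      simp only [pow_succ, pow_zero, one_mul, mul_assoc]
    rw [this, h6, one_pow]
  · have h4 : g ^ 4 = g * (g * (g * g)) := by
      simp only [pow_succ, pow_zero, one_mul, mul_assoc]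
    rw [h4]
    exact (Acts.mul h hg h1 (fun x hx => hx))

/-- if `t` commutes with `w` modulo `C_G(E)` then `w t w⁻¹ = ε t` with `ε` of norm one -/
theorem norm {h : W7 z i j k l y s} (hE : CE h) (hi : Function.Injective (phi h)) {w t : G}
    {f : M → M} (hw : Acts h w f) (hK : ∀ x, KK x → KK (f x)) (h3 : w ^ 3 = 1)
    (ht : Acts h (w * t * w⁻¹ * t⁻¹) (fun x => x)) :
    ∃ ε, KK ε ∧ w * t * w⁻¹ = phi h ε * t ∧ f (f ε) * f ε * ε = 1 := by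
  obtain ⟨ε, hε, he⟩ := hE (w * t * w⁻¹ * t⁻¹) (fun x hx => by
    have := ht x hx
    rw [mul_inv_eq_iff_eq_mul] at this
    exact this)
  have h1 : w * t * w⁻¹ = phi h ε * t := by rw [← he]; group
  refine ⟨ε, hε, h1, hi ?_⟩
  rw [map_one, map_mul, map_mul, ← hw _ (hK _ hε), ← hw _ hε]
  have h4 : w * (w * phi h ε * w⁻¹) * w⁻¹ * (w * phi h ε * w⁻¹) * phi h ε * t
      = w ^ 3 * t * (w ^ 3)⁻¹ := by
    have h5 : phi h ε * t = w * t * w⁻¹ := h1.symm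
    calc w * (w * phi h ε * w⁻¹) * w⁻¹ * (w * phi h ε * w⁻¹) * phi h ε * t
        = w * (w * phi h ε * w⁻¹) * w⁻¹ * (w * phi h ε * w⁻¹) * (phi h ε * t) := by group
      _ = w * (w * phi h ε * w⁻¹) * w⁻¹ * (w * phi h ε * w⁻¹) * (w * t * w⁻¹) := by rw [h5]
      _ = w * w * phi h ε * w⁻¹ * (phi h ε * t) * w⁻¹ := by group
      _ = w * w * phi h ε * w⁻¹ * (w * t * w⁻¹) * w⁻¹ := by rw [h5]
      _ = w * w * (phi h ε * t) * w⁻¹ * w⁻¹ := by group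
      _ = w * w * (w * t * w⁻¹) * w⁻¹ * w⁻¹ := by rw [h5]
      _ = w ^ 3 * t * (w ^ 3)⁻¹ := by
        simp only [pow_succ, pow_zero, one_mul, mul_assoc, mul_inv_rev]
  rw [h3] at h4
  simpa using h4

/-- if the involution `m` inverts `w` modulo `C_G(E)`, then it inverts a conjugate of `w` under `E` -/
theorem invert {h : W7 z i j k l y s} (hE : CE h) (hi : Function.Injective (phi h)) {w : G}
    {F : M → M} (hw : Acts h w F) (hK : ∀ x, KK x → KK (F x)) (hF : ∀ x, KK x → F (F (F x)) = x)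
    (h3 : w ^ 3 = 1) (hw' : Acts h w⁻¹ (fun x => F (F x))) (m : M) (hm2 : m * m = 1)
    (hmK : ∀ x, KK x → KK (m * x * m⁻¹))
    (hinv : ∀ x, KK x → m * F (m⁻¹ * F x * m⁻¹⁻¹) * m⁻¹ = x) (P : M → Prop)
    (hsel : ∀ ε, KK ε → ε * F (F ε) * F ε = 1 → m * ε * m⁻¹ = F ε →
      ∃ f, KK f ∧ P f ∧ (m * f * m⁻¹) * ε * F (F (m * f * m⁻¹)) = f * F (F f)) :
    ∃ f, KK f ∧ P f ∧ phi h m * (phi h f * w * (phi h f)⁻¹) * (phi h m)⁻¹ =
      (phi h f * w * (phi h f)⁻¹)⁻¹ := by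
  have hm1 : m⁻¹ = m := inv_eq_of_mul_eq_one_left hm2
  have am := Acts.phi h m
  have am' : Acts h (phi h m)⁻¹ (fun x => m⁻¹ * x * m⁻¹⁻¹) := by
    have := Acts.phi h m⁻¹
    rwa [map_inv] at this
  have hmK' : ∀ x, KK x → KK (m⁻¹ * x * m⁻¹⁻¹) := by
    intro x hx
    rw [hm1]
    exact hmK x hx
  have hc : Acts h (phi h m * (w * ((phi h m)⁻¹ * w))) (fun x => x) :=
    (Acts.mul h am (Acts.mul h hw (Acts.mul h am' hw hK) (fun x hx => hmK' _ (hK _ hx)))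
      (fun x hx => hK _ (hmK' _ (hK _ hx)))).congr h hinv
  obtain ⟨ε, hε, he⟩ := hE _ (fun x hx => by
    have := hc x hx
    rw [mul_inv_eq_iff_eq_mul] at this
    exact this)
  have hv : phi h m * w * (phi h m)⁻¹ = phi h ε * w⁻¹ := by
    rw [← he]; group
  have w3' : w⁻¹ * w⁻¹ * w⁻¹ = 1 := by
    have : w⁻¹ * w⁻¹ * w⁻¹ = (w ^ 3)⁻¹ := by
      simp only [pow_succ, pow_zero, one_mul, mul_assoc, mul_inv_rev]
    rw [this, h3, inv_one]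
  have pinv : ∀ x, KK x → (phi h x)⁻¹ = phi h x := by
    intro x hx
    apply inv_eq_of_mul_eq_one_left
    rw [← map_mul, K_sq x hx, map_one]
  -- the norm
  have n1 : ε * F (F ε) * F ε = 1 := by
    apply hi
    have e1 : (phi h m * w * (phi h m)⁻¹) ^ 3 = 1 := by
      have : (phi h m * w * (phi h m)⁻¹) ^ 3 = phi h m * w ^ 3 * (phi h m)⁻¹ := by
        simp only [pow_succ, pow_zero, one_mul, mul_assoc, inv_mul_cancel_left]
      rw [this, h3]; simp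
    rw [hv] at e1
    have e2 : w⁻¹ * phi h ε * w⁻¹⁻¹ = phi h (F (F ε)) := hw' ε hε
    have e3 : w⁻¹ * phi h (F (F ε)) * w⁻¹⁻¹ = phi h (F (F (F (F ε)))) :=
      hw' (F (F ε)) (hK _ (hK _ hε))
    rw [hF _ (hK _ hε)] at e3
    rw [map_one, map_mul, map_mul, ← e1]
    symm
    calc (phi h ε * w⁻¹) ^ 3
        = phi h ε * (w⁻¹ * phi h ε * w⁻¹⁻¹) * (w⁻¹ * (w⁻¹ * phi h ε * w⁻¹⁻¹) * w⁻¹⁻¹) *
          (w⁻¹ * w⁻¹ * w⁻¹) := by
          simp only [pow_succ, pow_zero, one_mul, mul_assoc, inv_mul_cancel_left]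
      _ = phi h ε * phi h (F (F ε)) * phi h (F ε) := by rw [e2, e3, w3', mul_one]
  -- the involution
  have n2 : m * ε * m⁻¹ = F ε := by
    apply hi
    have e1 : phi h m * phi h m = 1 := by rw [← map_mul, hm2, map_one]
    have e2 : phi h m * (phi h m * w * (phi h m)⁻¹) * (phi h m)⁻¹ = w := by
      have : phi h m * (phi h m * w * (phi h m)⁻¹) * (phi h m)⁻¹ =
          (phi h m * phi h m) * w * (phi h m * phi h m)⁻¹ := by
        simp only [mul_assoc, mul_inv_rev]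
      rw [this, e1]; simp
    rw [hv] at e2
    have e3 : phi h m * (phi h ε * w⁻¹) * (phi h m)⁻¹ =
        (phi h m * phi h ε * (phi h m)⁻¹) * (phi h m * w * (phi h m)⁻¹)⁻¹ := by group
    rw [e3, hv, mul_inv_rev, inv_inv, ← mul_assoc, mul_inv_eq_iff_eq_mul] at e2
    rw [← hw ε hε, map_mul, map_mul, map_inv, ← e2]
    group
  obtain ⟨f, hf, hP, hsel⟩ := hsel ε hε n1 n2
  refine ⟨f, hf, hP, ?_⟩
  have fm : phi h m * phi h f * (phi h m)⁻¹ = phi h (m * f * m⁻¹) := by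
    rw [map_mul, map_mul, map_inv]
  have fmi : phi h m * (phi h f)⁻¹ * (phi h m)⁻¹ = phi h (m * f * m⁻¹) := by
    rw [pinv f hf, fm]
  have e4 : w⁻¹ * phi h (m * f * m⁻¹) * w⁻¹⁻¹ = phi h (F (F (m * f * m⁻¹))) :=
    hw' (m * f * m⁻¹) (hmK _ hf)
  have e5 : w⁻¹ * phi h f * w⁻¹⁻¹ = phi h (F (F f)) := hw' f hf
  calc phi h m * (phi h f * w * (phi h f)⁻¹) * (phi h m)⁻¹
      = (phi h m * phi h f * (phi h m)⁻¹) * (phi h m * w * (phi h m)⁻¹) *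
        (phi h m * (phi h f)⁻¹ * (phi h m)⁻¹) := by group
    _ = phi h (m * f * m⁻¹) * (phi h ε * w⁻¹) * phi h (m * f * m⁻¹) := by rw [fm, hv, fmi]
    _ = phi h (m * f * m⁻¹) * phi h ε * (w⁻¹ * phi h (m * f * m⁻¹) * w⁻¹⁻¹) * w⁻¹ := by group
    _ = phi h (m * f * m⁻¹ * ε * F (F (m * f * m⁻¹))) * w⁻¹ := by
        rw [e4]; simp only [map_mul]
    _ = phi h f * phi h (F (F f)) * w⁻¹ := by rw [hsel, map_mul]
    _ = phi h f * (w⁻¹ * phi h f * w⁻¹⁻¹) * w⁻¹ := by rw [e5]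
    _ = (phi h f * w * (phi h f)⁻¹)⁻¹ := by
        rw [mul_inv_rev, mul_inv_rev, pinv f hf, pinv f hf]; group

/-! ### The maps -/

/-- the action of `w` -/
def fw (x : M) : M := (x.1, cyc x.2)

/-- the action of `w'` -/
def fw' (x : M) : M := (cyc x.1, x.2)

/-- the action of `θ` -/
def fθ (x : M) : M := (cyc (cyc x.1), cyc (cyc x.2))

/-- the action of `θ⁻¹` -/
def fθ' (x : M) : M := (cyc x.1, cyc x.2)

theorem fθ_mul : ∀ x x' : M, KK x → KK x' → fθ (x * x') = fθ x * fθ x' := by decide +kernel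
theorem fθ_K : ∀ x, KK x → KK (fθ x) := by decide +kernel
theorem fθ'_K : ∀ x, KK x → KK (fθ' x) := by decide +kernel
theorem fw_K : ∀ x, KK x → KK (fw x) := by decide +kernel
theorem fw'_K : ∀ x, KK x → KK (fw' x) := by decide +kernel
theorem fw_three : ∀ x, KK x → fw (fw (fw x)) = x := by decide +kernel
theorem fw'_three : ∀ x, KK x → fw' (fw' (fw' x)) = x := by decide +kernel
theorem fθθ' : ∀ x, KK x → fθ (fθ' x) = x := by decide +kernel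
theorem fθ'θ : ∀ x, KK x → fθ' (fθ x) = x := by decide +kernel

theorem fil_K : ∀ x, KK x → KK ((sr 0, sr 1) * x * (sr 0, sr 1)⁻¹ : M) := by decide +kernel
theorem fik_K : ∀ x, KK x → KK ((sr 1, sr 0) * x * (sr 1, sr 0)⁻¹ : M) := by decide +kernel

theorem fw_eq : ∀ x, KK x →
    fθ ((sr 0, sr 1) * fθ' ((sr 0, sr 1) * x * (sr 0, sr 1)⁻¹) * (sr 0, sr 1)⁻¹ : M) = fw x := by
  decide +kernel

theorem fw'_eq : ∀ x, KK x →
    fθ ((sr 1, sr 0) * fθ' ((sr 1, sr 0) * x * (sr 1, sr 0)⁻¹) * (sr 1, sr 0)⁻¹ : M) = fw' x := by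
  decide +kernel

theorem norm_fw : ∀ x, KK x → fw (fw x) * fw x * x = 1 → x.1 = 1 := by decide +kernel
theorem norm_fw' : ∀ x, KK x → fw' (fw' x) * fw' x * x = 1 → x.2 = 1 := by decide +kernel

theorem acts_inv {h : W7 z i j k l y s} {g : G} {f f' : M → M} (hg : Acts h g f)
    (hK : ∀ x, KK x → KK (f' x)) (hf : ∀ x, KK x → f (f' x) = x) : Acts h g⁻¹ f' := by
  intro x hx
  have h1 := hg (f' x) (hK x hx)
  rw [hf x hx] at h1
  rw [← h1]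
  group

/-! ### The action of `θ`, and conjugacy in `C` -/

theorem w7' (h : Fus Q z i j k l x₁ x₂ y s θ) : W7 z i j k l y s :=
  w7 h.toCase9aa h.y_sq h.s_sq h.s_y

theorem phi_inj (h : Fus Q z i j k l x₁ x₂ y s θ) : Function.Injective (phi (w7' h)) :=
  phi_injective (w7' h) h.large.z_ne

theorem acts_θ (h : Fus Q z i j k l x₁ x₂ y s θ) : Acts (w7' h) θ fθ := by
  have w := w7' h
  have hd : θ * (i * j * k * l * z) * θ⁻¹ = s := by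
    have : θ * (i * j * k * l * z) * θ⁻¹ = θ * (i * j * k * l) * θ⁻¹ * (θ * z * θ⁻¹) := by group
    rw [this, h.θd, h.θz, mul_assoc, h.y_sq, mul_one]
  have hsy : θ * (s * y) * θ⁻¹ = i * j * k * l * s * y := by
    have : θ * (s * y) * θ⁻¹ = θ * s * θ⁻¹ * (θ * y * θ⁻¹) := by group
    rw [this, h.θs, h.θy]
    simp only [mul_assoc, w.ii, w.ii_, w.zi, w.zi_, w.jj, w.jj_, w.zj, w.zj_, w.kk, w.kk_, w.zk, w.zk_, w.ll, w.ll_, w.zl, w.zl_, w.zz, w.zz_, w.ji, w.ji_, w.ki, w.ki_, w.li, w.li_, w.kj, w.kj_, w.lj, w.lj_, w.lk, w.lk_, w.yi, w.yi_, w.yj, w.yj_, w.yk, w.yk_, w.yl, w.yl_, w.yz, w.yz_, w.yy, w.yy_, w.si, w.si_, w.sj, w.sj_, w.sk, w.sk_, w.sl, w.sl_, w.sz, w.sz_, w.sy, w.sy_, w.ss, w.ss_, mul_inv_rev, w.inv_i, w.inv_j, w.inv_k, w.inv_l, w.inv_z, w.inv_y, w.inv_s, mul_one, one_mul]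
  refine Acts.of_gen (w7' h) h.θd hd hsy h.θs ?_ ?_ ?_ ?_ fθ_mul
  · exact phi_sy (w7' h)
  · exact phi_s (w7' h)
  · show phi (w7' h) (sr 2, 1) = _
    have h1 : phi (w7' h) (sr 2, 1) = phi (w7' h) (r 2, 1) * phi (w7' h) (sr 0, 1) * phi (w7' h) 1 := by
      rw [← map_mul, ← map_mul]; rfl
    rw [h1, phi_d, phi_sy, map_one, mul_one]
    simp only [mul_assoc]
  · show phi (w7' h) (1, sr 2) = _
    have h1 : phi (w7' h) (1, sr 2) = phi (w7' h) (1, r 2) * phi (w7' h) (1, sr 0) := by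
      rw [← map_mul]; rfl
    rw [h1, phi_dz, phi_s]
    simp only [mul_assoc, w.ii, w.ii_, w.zi, w.zi_, w.jj, w.jj_, w.zj, w.zj_, w.kk, w.kk_, w.zk, w.zk_, w.ll, w.ll_, w.zl, w.zl_, w.zz, w.zz_, w.ji, w.ji_, w.ki, w.ki_, w.li, w.li_, w.kj, w.kj_, w.lj, w.lj_, w.lk, w.lk_, w.yi, w.yi_, w.yj, w.yj_, w.yk, w.yk_, w.yl, w.yl_, w.yz, w.yz_, w.yy, w.yy_, w.si, w.si_, w.sj, w.sj_, w.sk, w.sk_, w.sl, w.sl_, w.sz, w.sz_, w.sy, w.sy_, w.ss, w.ss_, mul_inv_rev, w.inv_i, w.inv_j, w.inv_k, w.inv_l, w.inv_z, w.inv_y, w.inv_s, mul_one, one_mul]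

/-! ### Conjugacy facts -/

theorem conj_iff {a b : G} (c : G) (h : c * a * c⁻¹ = b) : IsConj a b := isConj_iff.2 ⟨c, h⟩

theorem conj_mul {c a b a' b' : G} (ha : c * a * c⁻¹ = a') (hb : c * b * c⁻¹ = b') :
    c * (a * b) * c⁻¹ = a' * b' := by
  rw [← ha, ← hb]; group

theorem phi_dsz (h : W7 z i j k l y s) : phi h (1, sr 2) = i * j * k * l * s * z := by
  have h1 : phi h (1, sr 2) = phi h (1, r 2) * phi h (1, sr 0) := by rw [← map_mul]; rfl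
  rw [h1, phi_dz, phi_s]
  simp only [mul_assoc, h.ii, h.ii_, h.zi, h.zi_, h.jj, h.jj_, h.zj, h.zj_, h.kk, h.kk_, h.zk,
      h.zk_, h.ll, h.ll_, h.zl, h.zl_, h.zz, h.zz_, h.ji, h.ji_, h.ki, h.ki_, h.li, h.li_, h.kj,
      h.kj_, h.lj, h.lj_, h.lk, h.lk_, h.yi, h.yi_, h.yj, h.yj_, h.yk, h.yk_, h.yl, h.yl_, h.yz,
      h.yz_, h.yy, h.yy_, h.si, h.si_, h.sj, h.sj_, h.sk, h.sk_, h.sl, h.sl_, h.sz, h.sz_, h.sy,
      h.sy_, h.ss, h.ss_, mul_inv_rev, h.inv_i, h.inv_j, h.inv_k, h.inv_l, h.inv_z, h.inv_y,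
      h.inv_s, mul_one, one_mul]

theorem phi_dsy (h : W7 z i j k l y s) : phi h (sr 2, 1) = i * j * k * l * s * y := by
  have h1 : phi h (sr 2, 1) = phi h (r 2, 1) * phi h (sr 0, 1) * phi h 1 := by
    rw [← map_mul, ← map_mul]; rfl
  rw [h1, phi_d, phi_sy, map_one, mul_one]
  simp only [mul_assoc]

theorem phi_t2 (h : W7 z i j k l y s) : phi h (r 2, sr 1) = i * l * (i * j * k * l) * s * y := by
  have h1 : phi h (r 2, sr 1) = phi h (sr 0, sr 1) * phi h (r 2, 1) * phi h (1, sr 0) *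
      phi h (sr 0, sr 0) := by
    rw [← map_mul, ← map_mul, ← map_mul]; rfl
  rw [h1, phi_il, phi_d, phi_s, phi_y]

section

variable (h : Fus Q z i j k l x₁ x₂ y s θ)
include h

/-- `d ~ d z` -/
theorem d_dz : IsConj (i * j * k * l) (i * j * k * l * z) := conj_iff i (i_d (w7' h))

theorem θ_dz : θ * (i * j * k * l * z) * θ⁻¹ = s := by
  have h2 := acts_θ h (1, r 2) (by decide)
  have h3 : fθ (1, r 2) = (1, sr 0) := by decide
  rwa [h3, phi_dz, phi_s] at h2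

theorem d_s : IsConj (i * j * k * l) s := (d_dz h).trans (conj_iff θ (θ_dz h))

theorem d_sy : IsConj (i * j * k * l) (s * y) := conj_iff θ h.θd

/-- `x₁ x₂` maps `d` to `i k` -/
theorem d_ik : IsConj (i * j * k * l) (i * k) := by
  have w := w7' h
  refine conj_iff (x₁ * x₂) ?_
  have e1 : (x₁ * x₂) * (i * j * k * l) * (x₁ * x₂)⁻¹ =
      x₁ * (x₂ * i * x₂⁻¹ * (x₂ * j * x₂⁻¹) * (x₂ * k * x₂⁻¹) * (x₂ * l * x₂⁻¹)) * x₁⁻¹ := by
    group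
  rw [e1, h.x₂_act.i, h.x₂_act.j, h.x₂_act.k, h.x₂_act.l,
    conj_mul (conj_mul (conj_mul h.x₁_act.i h.x₁_act.j) h.x₁_act.l)
      (conj_mul h.x₁_act.k h.x₁_act.l)]
  simp only [mul_assoc, w.ii, w.ii_, w.zi, w.zi_, w.jj, w.jj_, w.zj, w.zj_, w.kk, w.kk_, w.zk, w.zk_, w.ll, w.ll_, w.zl, w.zl_, w.zz, w.zz_, w.ji, w.ji_, w.ki, w.ki_, w.li, w.li_, w.kj, w.kj_, w.lj, w.lj_, w.lk, w.lk_, w.yi, w.yi_, w.yj, w.yj_, w.yk, w.yk_, w.yl, w.yl_, w.yz, w.yz_, w.yy, w.yy_, w.si, w.si_, w.sj, w.sj_, w.sk, w.sk_, w.sl, w.sl_, w.sz, w.sz_, w.sy, w.sy_, w.ss, w.ss_, mul_inv_rev, w.inv_i, w.inv_j, w.inv_k, w.inv_l, w.inv_z, w.inv_y, w.inv_s, mul_one, one_mul]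

/-- `x₁ x₂` maps `i k` to `j l` -/
theorem d_jl : IsConj (i * j * k * l) (j * l) := by
  refine (d_ik h).trans (conj_iff (x₁ * x₂) ?_)
  have e1 : (x₁ * x₂) * (i * k) * (x₁ * x₂)⁻¹ = x₁ * (x₂ * i * x₂⁻¹ * (x₂ * k * x₂⁻¹)) * x₁⁻¹ := by
    group
  rw [e1, h.x₂_act.i, h.x₂_act.k, conj_mul h.x₁_act.i h.x₁_act.l]

/-- `x₂` maps `i k` to `i l` -/
theorem d_il : IsConj (i * j * k * l) (i * l) := by
  refine (d_ik h).trans (conj_iff x₂ ?_)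
  exact conj_mul h.x₂_act.i h.x₂_act.k

/-- `x₁` maps `i k` to `j k` -/
theorem d_jk : IsConj (i * j * k * l) (j * k) := by
  refine (d_ik h).trans (conj_iff x₁ ?_)
  exact conj_mul h.x₁_act.i h.x₁_act.k

/-- all elements `a` of `Q - ⟨z⟩` of order two satisfy `a ~ a z` -/
theorem mul_z {a : G} (c : G) (hc : c * a * c⁻¹ = a * z) (ha : IsConj (i * j * k * l) a) :
    IsConj (i * j * k * l) (a * z) := ha.trans (conj_iff c hc)

theorem d_jlz : IsConj (i * j * k * l) (j * l * z) := by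
  have w := w7' h
  refine mul_z h i ?_ (d_jl h)
  simp only [mul_assoc, w.ii, w.ii_, w.zi, w.zi_, w.jj, w.jj_, w.zj, w.zj_, w.kk, w.kk_, w.zk, w.zk_, w.ll, w.ll_, w.zl, w.zl_, w.zz, w.zz_, w.ji, w.ji_, w.ki, w.ki_, w.li, w.li_, w.kj, w.kj_, w.lj, w.lj_, w.lk, w.lk_, w.yi, w.yi_, w.yj, w.yj_, w.yk, w.yk_, w.yl, w.yl_, w.yz, w.yz_, w.yy, w.yy_, w.si, w.si_, w.sj, w.sj_, w.sk, w.sk_, w.sl, w.sl_, w.sz, w.sz_, w.sy, w.sy_, w.ss, w.ss_, mul_inv_rev, w.inv_i, w.inv_j, w.inv_k, w.inv_l, w.inv_z, w.inv_y, w.inv_s, mul_one, one_mul]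

theorem d_jkz : IsConj (i * j * k * l) (j * k * z) := by
  have w := w7' h
  refine mul_z h i ?_ (d_jk h)
  simp only [mul_assoc, w.ii, w.ii_, w.zi, w.zi_, w.jj, w.jj_, w.zj, w.zj_, w.kk, w.kk_, w.zk, w.zk_, w.ll, w.ll_, w.zl, w.zl_, w.zz, w.zz_, w.ji, w.ji_, w.ki, w.ki_, w.li, w.li_, w.kj, w.kj_, w.lj, w.lj_, w.lk, w.lk_, w.yi, w.yi_, w.yj, w.yj_, w.yk, w.yk_, w.yl, w.yl_, w.yz, w.yz_, w.yy, w.yy_, w.si, w.si_, w.sj, w.sj_, w.sk, w.sk_, w.sl, w.sl_, w.sz, w.sz_, w.sy, w.sy_, w.ss, w.ss_, mul_inv_rev, w.inv_i, w.inv_j, w.inv_k, w.inv_l, w.inv_z, w.inv_y, w.inv_s, mul_one, one_mul]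

/-- `i l d ~ j k ~ d` -/
theorem d_ild : IsConj (i * j * k * l) (i * l * (i * j * k * l)) := by
  have w := w7' h
  have e : i * l * (i * j * k * l) = j * k * z := by
    simp only [mul_assoc, w.ii, w.ii_, w.zi, w.zi_, w.jj, w.jj_, w.zj, w.zj_, w.kk, w.kk_, w.zk, w.zk_, w.ll, w.ll_, w.zl, w.zl_, w.zz, w.zz_, w.ji, w.ji_, w.ki, w.ki_, w.li, w.li_, w.kj, w.kj_, w.lj, w.lj_, w.lk, w.lk_, w.yi, w.yi_, w.yj, w.yj_, w.yk, w.yk_, w.yl, w.yl_, w.yz, w.yz_, w.yy, w.yy_, w.si, w.si_, w.sj, w.sj_, w.sk, w.sk_, w.sl, w.sl_, w.sz, w.sz_, w.sy, w.sy_, w.ss, w.ss_, mul_inv_rev, w.inv_i, w.inv_j, w.inv_k, w.inv_l, w.inv_z, w.inv_y, w.inv_s, mul_one, one_mul]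
  rw [e]
  exact d_jkz h

/-- `s y i l = i (s y) i⁻¹` -/
theorem d_syil : IsConj (i * j * k * l) (s * y * (i * l)) := by
  have w := w7' h
  refine (d_sy h).trans (conj_iff i ?_)
  simp only [mul_assoc, w.ii, w.ii_, w.zi, w.zi_, w.jj, w.jj_, w.zj, w.zj_, w.kk, w.kk_, w.zk, w.zk_, w.ll, w.ll_, w.zl, w.zl_, w.zz, w.zz_, w.ji, w.ji_, w.ki, w.ki_, w.li, w.li_, w.kj, w.kj_, w.lj, w.lj_, w.lk, w.lk_, w.yi, w.yi_, w.yj, w.yj_, w.yk, w.yk_, w.yl, w.yl_, w.yz, w.yz_, w.yy, w.yy_, w.si, w.si_, w.sj, w.sj_, w.sk, w.sk_, w.sl, w.sl_, w.sz, w.sz_, w.sy, w.sy_, w.ss, w.ss_, mul_inv_rev, w.inv_i, w.inv_j, w.inv_k, w.inv_l, w.inv_z, w.inv_y, w.inv_s, mul_one, one_mul]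

/-- `s j l z = j s j⁻¹` -/
theorem d_sjl : IsConj (i * j * k * l) (s * (i * k) * (i * j * k * l * z)) := by
  have w := w7' h
  refine (d_s h).trans (conj_iff j ?_)
  simp only [mul_assoc, w.ii, w.ii_, w.zi, w.zi_, w.jj, w.jj_, w.zj, w.zj_, w.kk, w.kk_, w.zk, w.zk_, w.ll, w.ll_, w.zl, w.zl_, w.zz, w.zz_, w.ji, w.ji_, w.ki, w.ki_, w.li, w.li_, w.kj, w.kj_, w.lj, w.lj_, w.lk, w.lk_, w.yi, w.yi_, w.yj, w.yj_, w.yk, w.yk_, w.yl, w.yl_, w.yz, w.yz_, w.yy, w.yy_, w.si, w.si_, w.sj, w.sj_, w.sk, w.sk_, w.sl, w.sl_, w.sz, w.sz_, w.sy, w.sy_, w.ss, w.ss_, mul_inv_rev, w.inv_i, w.inv_j, w.inv_k, w.inv_l, w.inv_z, w.inv_y, w.inv_s, mul_one, one_mul]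

end

/-! ### The construction -/

theorem fw_fix : ∀ ε, KK ε → fw (fw ε) * fw ε * ε = 1 → fw (fw ε) * ε = fw ε := by decide +kernel

theorem comm_t1 : ∀ x, KK x →
    fw ((sr 1, 1) * (fw (fw ((sr 1, 1)⁻¹ * x * (sr 1, 1)⁻¹⁻¹))) * (sr 1, 1)⁻¹ : M) = x := by
  decide +kernel

theorem comm_t2 : ∀ x, KK x →
    fw' ((r 2, sr 1) * (fw' (fw' ((r 2, sr 1)⁻¹ * x * (r 2, sr 1)⁻¹⁻¹))) * (r 2, sr 1)⁻¹ : M) = x := by
  decide +kernel

theorem comm_ww : ∀ x, KK x → fw (fw' (fw (fw (fw' (fw' x))))) = x := by decide +kernel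

theorem conj_K : ∀ m x : M, KK m → KK x → m * x * m⁻¹ = x := by
  intro m x hm hx
  rw [K_mul_comm m x hm hx, mul_inv_cancel_right]

theorem K_t1 : ∀ x, KK x → KK ((sr 1, 1) * x * (sr 1, 1)⁻¹ : M) := by decide +kernel
theorem K_t1' : ∀ x, KK x → KK ((sr 1, 1)⁻¹ * x * (sr 1, 1)⁻¹⁻¹ : M) := by decide +kernel
theorem K_t2 : ∀ x, KK x → KK ((r 2, sr 1) * x * (r 2, sr 1)⁻¹ : M) := by decide +kernel
theorem K_t2' : ∀ x, KK x → KK ((r 2, sr 1)⁻¹ * x * (r 2, sr 1)⁻¹⁻¹ : M) := by decide +kernel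

theorem exists_w (h : Fus Q z i j k l x₁ x₂ y s θ) (hE : CE (w7' h)) :
    ∃ w, w ^ 3 = 1 ∧ Acts (w7' h) w fw ∧ w * phi (w7' h) (sr 1, 1) * w⁻¹ = phi (w7' h) (sr 1, 1) := by
  have hi := phi_inj h
  have aθ := acts_θ h
  have aθ' := acts_inv aθ fθ'_K fθθ'
  have a1 := Acts.phi (w7' h) (sr 0, sr 1)
  have a0 : Acts (w7' h) (θ * (phi (w7' h) (sr 0, sr 1) * (θ⁻¹ * phi (w7' h) (sr 0, sr 1)))) fw :=
    (Acts.mul _ aθ (Acts.mul _ a1 (Acts.mul _ aθ' a1 fil_K) (fun x hx => fθ'_K _ (fil_K _ hx)))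
      (fun x hx => fil_K _ (fθ'_K _ (fil_K _ hx)))).congr _ fw_eq
  obtain ⟨w3, aw⟩ := pow_four hE a0 fw_K fw_three
  generalize (θ * (phi (w7' h) (sr 0, sr 1) * (θ⁻¹ * phi (w7' h) (sr 0, sr 1)))) ^ 4 = w at w3 aw
  refine ⟨w, w3, aw, ?_⟩
  have aw' : Acts (w7' h) w⁻¹ (fun x => fw (fw x)) :=
    acts_inv aw (fun x hx => fw_K _ (fw_K _ hx)) fw_three
  have at1 := Acts.phi (w7' h) (sr 1, 1)
  have at1' : Acts (w7' h) (phi (w7' h) (sr 1, 1))⁻¹ (fun x => (sr 1, 1)⁻¹ * x * (sr 1, 1)⁻¹⁻¹) := by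
    have := Acts.phi (w7' h) (sr 1, 1)⁻¹
    rwa [map_inv] at this
  have hc : Acts (w7' h) (w * phi (w7' h) (sr 1, 1) * w⁻¹ * (phi (w7' h) (sr 1, 1))⁻¹)
      (fun x => x) := by
    have := (Acts.mul _ (Acts.mul _ (Acts.mul _ aw at1 K_t1) aw'
      (fun x hx => fw_K _ (fw_K _ hx))) at1' K_t1').congr _ comm_t1
    exact this
  obtain ⟨ε, hε, h1, h2⟩ := norm hE hi aw fw_K w3 hc
  have h3 := norm_fw ε hε h2
  have z1 : IsConj z (phi (w7' h) (sr 1, 1)) := by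
    have h4 := aw (r 2, r 2) (by decide)
    have h5 : fw (r 2, r 2) = (r 2, sr 2) := by decide
    rw [h5, phi_z] at h4
    refine (conj_iff w h4).trans (conj_iff i ?_)
    have h6 : phi (w7' h) (r 2, sr 2) = phi (w7' h) (r 2, 1) * phi (w7' h) (1, sr 2) := by
      rw [← map_mul]; rfl
    rw [h6, phi_d, phi_dsz, phi_sik]
    have W := w7' h
    simp only [mul_assoc, W.ii, W.ii_, W.zi, W.zi_, W.jj, W.jj_, W.zj, W.zj_, W.kk, W.kk_, W.zk, W.zk_, W.ll, W.ll_, W.zl, W.zl_, W.zz, W.zz_, W.ji, W.ji_, W.ki, W.ki_, W.li, W.li_, W.kj, W.kj_, W.lj, W.lj_, W.lk, W.lk_, W.yi, W.yi_, W.yj, W.yj_, W.yk, W.yk_, W.yl, W.yl_, W.yz, W.yz_, W.yy, W.yy_, W.si, W.si_, W.sj, W.sj_, W.sk, W.sk_, W.sl, W.sl_, W.sz, W.sz_, W.sy, W.sy_, W.ss, W.ss_, mul_inv_rev, W.inv_i, W.inv_j, W.inv_k, W.inv_l, W.inv_z, W.inv_y, W.inv_s, mul_one, one_mul]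
  have z2 : IsConj z (phi (w7' h) ε * phi (w7' h) (sr 1, 1)) := z1.trans (conj_iff w h1)
  have no : ∀ a : G, IsConj (i * j * k * l) a → phi (w7' h) ε * phi (w7' h) (sr 1, 1) = a → False := by
    intro a ha he
    rw [he] at z2
    exact h.nc (z2.trans ha.symm)
  rw [h1]
  obtain ⟨a, b⟩ := ε
  have h3' : a = 1 := h3
  subst h3'
  rcases hε.2 with hb | hb | hb | hb
  · have hb' : b = 1 := hb
    subst hb'
    show phi (w7' h) 1 * _ = _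
    rw [map_one, one_mul]
  · exfalso
    have hb' : b = r 2 := hb
    subst hb'
    refine no _ (d_sjl h) ?_
    rw [← phi_sik (w7' h), ← phi_dz (w7' h), ← map_mul, ← map_mul]
    rfl
  · exfalso
    have hb' : b = sr 0 := hb
    subst hb'
    refine no _ (d_ik h) ?_
    rw [← phi_ik (w7' h), ← map_mul]
    rfl
  · exfalso
    have hb' : b = sr 2 := hb
    subst hb'
    refine no _ (d_jlz h) ?_
    have h6 : phi (w7' h) (1, sr 2) * phi (w7' h) (sr 1, 1) =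
        phi (w7' h) (sr 1, sr 0) * phi (w7' h) (1, r 2) := by
      rw [← map_mul, ← map_mul]; rfl
    rw [h6, phi_ik, phi_dz]
    have W := w7' h
    simp only [mul_assoc, W.ii, W.ii_, W.zi, W.zi_, W.jj, W.jj_, W.zj, W.zj_, W.kk, W.kk_, W.zk, W.zk_, W.ll, W.ll_, W.zl, W.zl_, W.zz, W.zz_, W.ji, W.ji_, W.ki, W.ki_, W.li, W.li_, W.kj, W.kj_, W.lj, W.lj_, W.lk, W.lk_, W.yi, W.yi_, W.yj, W.yj_, W.yk, W.yk_, W.yl, W.yl_, W.yz, W.yz_, W.yy, W.yy_, W.si, W.si_, W.sj, W.sj_, W.sk, W.sk_, W.sl, W.sl_, W.sz, W.sz_, W.sy, W.sy_, W.ss, W.ss_, mul_inv_rev, W.inv_i, W.inv_j, W.inv_k, W.inv_l, W.inv_z, W.inv_y, W.inv_s, mul_one, one_mul]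

theorem exists_w' (h : Fus Q z i j k l x₁ x₂ y s θ) (hE : CE (w7' h)) {w : G} (w3 : w ^ 3 = 1)
    (aw : Acts (w7' h) w fw) :
    ∃ w', w' ^ 3 = 1 ∧ Acts (w7' h) w' fw' ∧
      w' * phi (w7' h) (r 2, sr 1) * w'⁻¹ = phi (w7' h) (r 2, sr 1) ∧ w * w' = w' * w := by
  have hi := phi_inj h
  have aθ := acts_θ h
  have aθ' := acts_inv aθ fθ'_K fθθ'
  have a1 := Acts.phi (w7' h) (sr 1, sr 0)
  have a0 : Acts (w7' h) (θ * (phi (w7' h) (sr 1, sr 0) * (θ⁻¹ * phi (w7' h) (sr 1, sr 0)))) fw' :=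
    (Acts.mul _ aθ (Acts.mul _ a1 (Acts.mul _ aθ' a1 fik_K) (fun x hx => fθ'_K _ (fik_K _ hx)))
      (fun x hx => fik_K _ (fθ'_K _ (fik_K _ hx)))).congr _ fw'_eq
  generalize (θ * (phi (w7' h) (sr 1, sr 0) * (θ⁻¹ * phi (w7' h) (sr 1, sr 0)))) = v at a0
  have aw' : Acts (w7' h) w⁻¹ (fun x => fw (fw x)) :=
    acts_inv aw (fun x hx => fw_K _ (fw_K _ hx)) fw_three
  have av' : Acts (w7' h) v⁻¹ (fun x => fw' (fw' x)) :=
    acts_inv a0 (fun x hx => fw'_K _ (fw'_K _ hx)) fw'_three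
  have hc : Acts (w7' h) (w * v * w⁻¹ * v⁻¹) (fun x => x) :=
    (Acts.mul _ (Acts.mul _ (Acts.mul _ aw a0 fw'_K) aw'
      (fun x hx => fw_K _ (fw_K _ hx))) av' (fun x hx => fw'_K _ (fw'_K _ hx))).congr _ comm_ww
  obtain ⟨ε, hε, h1, h2⟩ := norm hE hi aw fw_K w3 hc
  have hf := fw_fix ε hε h2
  have a2 : Acts (w7' h) (phi (w7' h) (fw ε) * v) fw' :=
    (Acts.mul _ (Acts.phi (w7' h) (fw ε)) a0 fw'_K).congr _
      (fun x hx => conj_K _ _ (fw_K _ hε) (fw'_K _ hx))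
  have hcom : w * (phi (w7' h) (fw ε) * v) * w⁻¹ = phi (w7' h) (fw ε) * v := by
    rw [conj_mul (aw _ (fw_K _ hε)) h1, ← mul_assoc, ← map_mul, hf]
  generalize phi (w7' h) (fw ε) * v = v' at a2 hcom
  obtain ⟨v3, aw2⟩ := pow_four hE a2 fw'_K fw'_three
  have hcom' : w * v' ^ 4 = v' ^ 4 * w := by
    have h4 : Commute w v' := by
      show w * v' = v' * w
      rw [mul_inv_eq_iff_eq_mul] at hcom
      exact hcom
    exact h4.pow_right 4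
  generalize v' ^ 4 = w' at v3 aw2 hcom'
  refine ⟨w', v3, aw2, ?_, hcom'⟩
  have aw2' : Acts (w7' h) w'⁻¹ (fun x => fw' (fw' x)) :=
    acts_inv aw2 (fun x hx => fw'_K _ (fw'_K _ hx)) fw'_three
  have at1 := Acts.phi (w7' h) (r 2, sr 1)
  have at1' : Acts (w7' h) (phi (w7' h) (r 2, sr 1))⁻¹
      (fun x => (r 2, sr 1)⁻¹ * x * (r 2, sr 1)⁻¹⁻¹) := by
    have := Acts.phi (w7' h) (r 2, sr 1)⁻¹
    rwa [map_inv] at this
  have hc2 : Acts (w7' h) (w' * phi (w7' h) (r 2, sr 1) * w'⁻¹ * (phi (w7' h) (r 2, sr 1))⁻¹)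
      (fun x => x) :=
    (Acts.mul _ (Acts.mul _ (Acts.mul _ aw2 at1 K_t2) aw2'
      (fun x hx => fw'_K _ (fw'_K _ hx))) at1' K_t2').congr _ comm_t2
  obtain ⟨ε, hε, h1, h2⟩ := norm hE hi aw2 fw'_K v3 hc2
  have h3 := norm_fw' ε hε h2
  have z1 : IsConj z (phi (w7' h) (r 2, sr 1)) := by
    have h4 := aw2 (fw' (r 2, r 2)) (by decide)
    have h4' := aw2 (r 2, r 2) (by decide)
    have h5 : fw' (fw' (r 2, r 2)) = (sr 0, r 2) := by decide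
    rw [h5] at h4
    rw [phi_z] at h4'
    refine ((conj_iff w' h4').trans (conj_iff w' h4)).trans (conj_iff i ?_)
    have h6 : phi (w7' h) (sr 0, r 2) = phi (w7' h) (sr 0, 1) * phi (w7' h) (1, r 2) := by
      rw [← map_mul]; rfl
    rw [h6, phi_sy, phi_dz, phi_t2]
    have W := w7' h
    simp only [mul_assoc, W.ii, W.ii_, W.zi, W.zi_, W.jj, W.jj_, W.zj, W.zj_, W.kk, W.kk_, W.zk, W.zk_, W.ll, W.ll_, W.zl, W.zl_, W.zz, W.zz_, W.ji, W.ji_, W.ki, W.ki_, W.li, W.li_, W.kj, W.kj_, W.lj, W.lj_, W.lk, W.lk_, W.yi, W.yi_, W.yj, W.yj_, W.yk, W.yk_, W.yl, W.yl_, W.yz, W.yz_, W.yy, W.yy_, W.si, W.si_, W.sj, W.sj_, W.sk, W.sk_, W.sl, W.sl_, W.sz, W.sz_, W.sy, W.sy_, W.ss, W.ss_, mul_inv_rev, W.inv_i, W.inv_j, W.inv_k, W.inv_l, W.inv_z, W.inv_y, W.inv_s, mul_one, one_mul]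
  have z2 : IsConj z (phi (w7' h) ε * phi (w7' h) (r 2, sr 1)) := z1.trans (conj_iff w' h1)
  have no : ∀ a : G, IsConj (i * j * k * l) a → phi (w7' h) ε * phi (w7' h) (r 2, sr 1) = a → False := by
    intro a ha he
    rw [he] at z2
    exact h.nc (z2.trans ha.symm)
  rw [h1]
  obtain ⟨a, b⟩ := ε
  have h3' : b = 1 := h3
  subst h3'
  rcases hε.1 with hb | hb | hb | hb
  · have hb' : a = 1 := hb
    subst hb'
    show phi (w7' h) 1 * _ = _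
    rw [map_one, one_mul]
  · exfalso
    have hb' : a = r 2 := hb
    subst hb'
    refine no _ (d_syil h) ?_
    rw [← phi_syil (w7' h), ← map_mul]
    rfl
  · exfalso
    have hb' : a = sr 0 := hb
    subst hb'
    refine no _ (d_ild h) ?_
    rw [← phi_il (w7' h), ← phi_d (w7' h), ← map_mul, ← map_mul]
    rfl
  · exfalso
    have hb' : a = sr 2 := hb
    subst hb'
    refine no _ (d_il h) ?_
    rw [← phi_il (w7' h), ← map_mul]
    rfl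

theorem inv_fw : ∀ x, KK x →
    ((1, sr 1) * fw ((1, sr 1)⁻¹ * fw x * (1, sr 1)⁻¹⁻¹) * (1, sr 1)⁻¹ : M) = x := by decide +kernel

theorem inv_fw' : ∀ x, KK x →
    ((sr 3, r 2) * fw' ((sr 3, r 2)⁻¹ * fw' x * (sr 3, r 2)⁻¹⁻¹) * (sr 3, r 2)⁻¹ : M) = x := by
  decide +kernel

theorem K_m : ∀ x, KK x → KK ((1, sr 1) * x * (1, sr 1)⁻¹ : M) := by decide +kernel
theorem K_m' : ∀ x, KK x → KK ((sr 3, r 2) * x * (sr 3, r 2)⁻¹ : M) := by decide +kernel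

theorem sel_fw : ∀ ε, KK ε → ε * fw (fw ε) * fw ε = 1 → (1, sr 1) * ε * (1, sr 1)⁻¹ = fw ε →
    ∃ f, KK f ∧ f.1 = 1 ∧ ((1, sr 1) * f * (1, sr 1)⁻¹) * ε * fw (fw ((1, sr 1) * f * (1, sr 1)⁻¹))
      = f * fw (fw f) := by decide +kernel

theorem sel_fw' : ∀ ε, KK ε → ε * fw' (fw' ε) * fw' ε = 1 →
    (sr 3, r 2) * ε * (sr 3, r 2)⁻¹ = fw' ε →
    ∃ f, KK f ∧ f.2 = 1 ∧ ((sr 3, r 2) * f * (sr 3, r 2)⁻¹) * ε *
      fw' (fw' ((sr 3, r 2) * f * (sr 3, r 2)⁻¹)) = f * fw' (fw' f) := by decide +kernel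

theorem comm_f1 : ∀ f x : M, KK f → f.1 = 1 → x.2 = 1 → f * x = x * f := by decide +kernel
theorem comm_f2 : ∀ f, KK f → f.2 = 1 → f * (r 2, sr 1) = (r 2, sr 1) * f := by decide +kernel
theorem fix_f2 : ∀ f, KK f → f.2 = 1 → fw f = f := by decide +kernel

/-- conjugation by an element of `E` -/
theorem conj_facts {h : W7 z i j k l y s} {w : G} {F : M → M} (hw : Acts h w F)
    (hK : ∀ x, KK x → KK (F x)) (h3 : w ^ 3 = 1) {f : M} (hf : KK f) :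
    (phi h f * w * (phi h f)⁻¹) ^ 3 = 1 ∧ Acts h (phi h f * w * (phi h f)⁻¹) F := by
  refine ⟨?_, ?_⟩
  · have : (phi h f * w * (phi h f)⁻¹) ^ 3 = phi h f * w ^ 3 * (phi h f)⁻¹ := by
      simp only [pow_succ, pow_zero, one_mul, mul_assoc, inv_mul_cancel_left]
    rw [this, h3]; simp
  · have af' : Acts h (phi h f)⁻¹ (fun x => f⁻¹ * x * f⁻¹⁻¹) := by
      have := Acts.phi h f⁻¹
      rwa [map_inv] at this
    have hfi : f⁻¹ = f := inv_eq_of_mul_eq_one_left (K_sq f hf)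
    have h1 : ∀ x, KK x → f⁻¹ * x * f⁻¹⁻¹ = x := by
      intro x hx
      rw [hfi]
      exact conj_K f x hf hx
    have af2 : Acts h (phi h f)⁻¹ (fun x => x) := af'.congr h h1
    have af : Acts h (phi h f) (fun x => x) := (Acts.phi h f).congr h (fun x hx => conj_K f x hf hx)
    have a1 : Acts h (phi h f * w) F := Acts.mul h (f := fun x => x) (f' := F) af hw hK
    exact Acts.mul h (f := F) (f' := fun x => x) a1 af2 (fun x hx => hx)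

/-- **[N]** -/
theorem exists_elem_of (h : Fus Q z i j k l x₁ x₂ y s θ) (hE : CE (w7' h)) :
    ∃ w w', Elem Q z i j k l x₁ x₂ y s θ w w' ∧
      (i * (s * y) * i⁻¹) * w * (i * (s * y) * i⁻¹)⁻¹ = w⁻¹ ∧
      (i⁻¹ * s * i) * w' * (i⁻¹ * s * i)⁻¹ = w'⁻¹ := by
  have W := w7' h
  have hi := phi_inj h
  obtain ⟨w, w3, aw, wt⟩ := exists_w h hE
  -- make `w` inverted by `p = i (s y) i⁻¹`
  obtain ⟨f, hf, hf1, hfi⟩ := invert hE hi aw fw_K fw_three w3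
    (acts_inv aw (fun x hx => fw_K _ (fw_K _ hx)) fw_three) (1, sr 1) (by decide) K_m inv_fw
    (fun f => f.1 = 1) sel_fw
  obtain ⟨w3, aw⟩ := conj_facts aw fw_K w3 hf
  have wt2 : (phi (w7' h) f * w * (phi (w7' h) f)⁻¹) * phi (w7' h) (sr 1, 1) *
      (phi (w7' h) f * w * (phi (w7' h) f)⁻¹)⁻¹ = phi (w7' h) (sr 1, 1) := by
    have c1 : phi (w7' h) f * phi (w7' h) (sr 1, 1) = phi (w7' h) (sr 1, 1) * phi (w7' h) f := by
      rw [← map_mul, ← map_mul, comm_f1 f (sr 1, 1) hf hf1 rfl]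
    rw [mul_inv_eq_iff_eq_mul] at wt
    have c1' : Commute (phi (w7' h) f) (phi (w7' h) (sr 1, 1)) := c1
    have c2' : Commute w (phi (w7' h) (sr 1, 1)) := wt
    have c3 := (c1'.mul_left c2').mul_left c1'.inv_left
    rw [c3.eq, mul_inv_cancel_right]
  clear wt
  generalize phi (w7' h) f * w * (phi (w7' h) f)⁻¹ = w at hfi w3 aw wt2
  obtain ⟨w', w'3, aw', w't, ww'⟩ := exists_w' h hE w3 aw
  obtain ⟨f', hf', hf'1, hfi'⟩ := invert hE hi aw' fw'_K fw'_three w'3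
    (acts_inv aw' (fun x hx => fw'_K _ (fw'_K _ hx)) fw'_three) (sr 3, r 2) (by decide) K_m' inv_fw'
    (fun f => f.2 = 1) sel_fw'
  obtain ⟨w'3, aw'⟩ := conj_facts aw' fw'_K w'3 hf'
  have w't2 : (phi (w7' h) f' * w' * (phi (w7' h) f')⁻¹) * phi (w7' h) (r 2, sr 1) *
      (phi (w7' h) f' * w' * (phi (w7' h) f')⁻¹)⁻¹ = phi (w7' h) (r 2, sr 1) := by
    have c1 : phi (w7' h) f' * phi (w7' h) (r 2, sr 1) = phi (w7' h) (r 2, sr 1) * phi (w7' h) f' := by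
      rw [← map_mul, ← map_mul, comm_f2 f' hf' hf'1]
    rw [mul_inv_eq_iff_eq_mul] at w't
    have c1' : Commute (phi (w7' h) f') (phi (w7' h) (r 2, sr 1)) := c1
    have c2' : Commute w' (phi (w7' h) (r 2, sr 1)) := w't
    have c3 := (c1'.mul_left c2').mul_left c1'.inv_left
    rw [c3.eq, mul_inv_cancel_right]
  have ww'2 : w * (phi (w7' h) f' * w' * (phi (w7' h) f')⁻¹) =
      (phi (w7' h) f' * w' * (phi (w7' h) f')⁻¹) * w := by
    have c1 : Commute w (phi (w7' h) f') := by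
      have := aw f' hf'
      rw [fix_f2 f' hf' hf'1, mul_inv_eq_iff_eq_mul] at this
      exact this
    have c2 : Commute w w' := ww'
    exact ((c1.mul_right c2).mul_right c1.inv_right).eq
  clear w't ww'
  generalize phi (w7' h) f' * w' * (phi (w7' h) f')⁻¹ = w' at hfi' w'3 aw' w't2 ww'2
  have w't := w't2
  have ww' := ww'2
  have wt := wt2
  have ep : phi (w7' h) (1, sr 1) = i * (s * y) * i⁻¹ := by
    rw [phi_syil]
    simp only [mul_assoc, W.ii, W.ii_, W.zi, W.zi_, W.jj, W.jj_, W.zj, W.zj_, W.kk, W.kk_, W.zk, W.zk_, W.ll, W.ll_, W.zl, W.zl_, W.zz, W.zz_, W.ji, W.ji_, W.ki, W.ki_, W.li, W.li_, W.kj, W.kj_, W.lj, W.lj_, W.lk, W.lk_, W.yi, W.yi_, W.yj, W.yj_, W.yk, W.yk_, W.yl, W.yl_, W.yz, W.yz_, W.yy, W.yy_, W.si, W.si_, W.sj, W.sj_, W.sk, W.sk_, W.sl, W.sl_, W.sz, W.sz_, W.sy, W.sy_, W.ss, W.ss_, mul_inv_rev, W.inv_i, W.inv_j, W.inv_k, W.inv_l, W.inv_z, W.inv_y,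 W.inv_s, mul_one, one_mul]
  have ep' : phi (w7' h) (sr 3, r 2) = i⁻¹ * s * i := by
    have h1 : phi (w7' h) (sr 3, r 2) = phi (w7' h) (sr 1, 1) * phi (w7' h) (r 2, r 2) := by
      rw [← map_mul]; rfl
    rw [h1, phi_sik, phi_z]
    simp only [mul_assoc, W.ii, W.ii_, W.zi, W.zi_, W.jj, W.jj_, W.zj, W.zj_, W.kk, W.kk_, W.zk, W.zk_, W.ll, W.ll_, W.zl, W.zl_, W.zz, W.zz_, W.ji, W.ji_, W.ki, W.ki_, W.li, W.li_, W.kj, W.kj_, W.lj, W.lj_, W.lk, W.lk_, W.yi, W.yi_, W.yj, W.yj_, W.yk, W.yk_, W.yl, W.yl_, W.yz, W.yz_, W.yy, W.yy_, W.si, W.si_, W.sj, W.sj_, W.sk, W.sk_, W.sl, W.sl_, W.sz, W.sz_, W.sy, W.sy_, W.ss, W.ss_, mul_inv_rev, W.inv_i, W.inv_j, W.inv_k, W.inv_l, W.inv_z, W.inv_y, W.inv_s, mul_one, one_mul]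
  rw [ep] at hfi
  rw [ep'] at hfi'
  refine ⟨w, w', ?_, hfi, hfi'⟩
  refine { h with
    w3 := w3, w_d := ?_, w_sy := ?_, w_s := ?_, w_dz := ?_, w_z1 := ?_, w'3 := w'3, w'_s := ?_,
    w'_dz := ?_, w'_d := ?_, w'_sy := ?_, w'_z2 := ?_, ww' := ww' }
  · have h1 := aw (r 2, 1) (by decide)
    have h2 : fw (r 2, 1) = (r 2, 1) := by decide
    rwa [h2, mul_inv_eq_iff_eq_mul, phi_d] at h1
  · have h1 := aw (sr 0, 1) (by decide)
    have h2 : fw (sr 0, 1) = (sr 0, 1) := by decide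
    rwa [h2, mul_inv_eq_iff_eq_mul, phi_sy] at h1
  · have h1 := aw (1, sr 0) (by decide)
    have h2 : fw (1, sr 0) = (1, r 2) := by decide
    rwa [h2, phi_s, phi_dz] at h1
  · have h1 := aw (1, r 2) (by decide)
    have h2 : fw (1, r 2) = (1, sr 2) := by decide
    rwa [h2, phi_dz, phi_dsz] at h1
  · rwa [mul_inv_eq_iff_eq_mul, phi_sik] at wt
  · have h1 := aw' (1, sr 0) (by decide)
    have h2 : fw' (1, sr 0) = (1, sr 0) := by decide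
    rwa [h2, mul_inv_eq_iff_eq_mul, phi_s] at h1
  · have h1 := aw' (1, r 2) (by decide)
    have h2 : fw' (1, r 2) = (1, r 2) := by decide
    rwa [h2, mul_inv_eq_iff_eq_mul, phi_dz] at h1
  · have h1 := aw' (r 2, 1) (by decide)
    have h2 : fw' (r 2, 1) = (sr 2, 1) := by decide
    rwa [h2, phi_d, phi_dsy] at h1
  · have h1 := aw' (sr 0, 1) (by decide)
    have h2 : fw' (sr 0, 1) = (r 2, 1) := by decide
    rwa [h2, phi_sy, phi_d] at h1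
  · rwa [mul_inv_eq_iff_eq_mul, phi_t2] at w't

end Cfsg.Agent.LargeExtra.W2.LFour.ElemN
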