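import Cfsg.Agent.LargeExtra.W2.LFour.EnumMainChk0
import Cfsg.Agent.LargeExtra.W2.LFour.EnumMainChk1
import Cfsg.Agent.LargeExtra.W2.LFour.EnumMainChk2
import Cfsg.Agent.LargeExtra.W2.LFour.EnumMainChk3

set_option autoImplicit false
set_option maxRecDepth 100000

namespace Cfsg.Agent.LargeExtra.W2.LFour.EnumMainAll

open Cfsg.Agent.SporadicRecognition.CosetCert Cfsg.Agent.LargeExtra.W2.LFour.EnumMainData

theorem part : Part C 0 C.N 5265 := (((Cfsg.Agent.LargeExtra.W2.LFour.EnumMainChk0.all).append C Cfsg.Agent.LargeExtra.W2.LFour.EnumMainChk1.all).append C Cfsg.Agent.LargeExtra.W2.LFour.EnumMainChk2.all).append C Cfsg.Agent.LargeExtra.W2.LFour.EnumMainChk3.all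

end Cfsg.Agent.LargeExtra.W2.LFour.EnumMainAll
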