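import Cfsg.Agent.LargeExtra.W2.LFour.EnumSat
import Cfsg.Agent.LargeExtra.W2.LFour.EnumMainAll
import Cfsg.Agent.LargeExtra.W2.LFour.EnumCCAll

/-!
# The order of a group with the presentation of `L₄(3)` is at most `6065280` (helper842)
-/

set_option autoImplicit false

namespace Cfsg.Agent.LargeExtra.W2.LFour.EnumBound

open Cfsg.Agent.SporadicRecognition.CosetCert Cfsg.Agent.SporadicRecognition.CosetCertHyp
  Cfsg.Agent.LargeExtra.W2.LFour.EnumWords Cfsg.Agent.LargeExtra.W2.LFour.EnumSat

section

variable {G : Type*} [Group G] {z y s i j k l a b w v : G}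

theorem lt13_li (hz : z * z = 1) (hy : y * y = 1) (hs : s * s = 1) (n : ℕ) (hn : n < 13) :
    li n < 13 ∧ lt13 z y s i j a w v n * lt13 z y s i j a w v (li n) = 1 := by
  interval_cases n <;> refine ⟨by decide, ?_⟩ <;> simp [lt13, li, hz, hy, hs]

theorem lt13_liC (hz : z * z = 1) (hy : y * y = 1) (hs : s * s = 1) (n : ℕ) (hn : n < 9) :
    liC n < 9 ∧ lt13 z y s i j a w v n * lt13 z y s i j a w v (liC n) = 1 := by
  interval_cases n <;> refine ⟨by decide, ?_⟩ <;> simp [lt13, liC, hz, hy, hs]

theorem k_eq (S : Sat z y s i j k l a b w v) : s * (i * s) = k := by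
  have := S.C ([2, 3, 2], [7]) (by simp [eqC])
  simpa only [ev, lt19, List.map_cons, List.map_nil, List.prod_cons, List.prod_nil, mul_one] using this

theorem l_eq (S : Sat z y s i j k l a b w v) : s * (j * s) = l := by
  have := S.C ([2, 5, 2], [9]) (by simp [eqC])
  simpa only [ev, lt19, List.map_cons, List.map_nil, List.prod_cons, List.prod_nil, mul_one] using this

theorem b_eq (S : Sat z y s i j k l a b w v) : s * (a * s) = b := by
  have := S.C ([2, 11, 2], [13]) (by simp [eqC])
  simpa only [ev, lt19, List.map_cons, List.map_nil, List.prod_cons, List.prod_nil, mul_one] using this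

theorem lt19_sub (S : Sat z y s i j k l a b w v) (n : ℕ) (hn : n < 19) :
    ev (lt13 z y s i j a w v) (sub n) = lt19 z y s i j k l a b w v n := by
  have hs : s⁻¹ = s := inv_eq_of_mul_eq_one_left S.ss
  interval_cases n <;> simp only [ev, lt19, lt13, sub, List.map_cons, List.map_nil, List.prod_cons,
    List.prod_nil, mul_one, ← k_eq S, ← l_eq S, ← b_eq S, mul_inv_rev, hs, mul_assoc]

theorem sub_lt (n : ℕ) (hn : n < 19) : ∀ y ∈ sub n, y < 13 := by
  interval_cases n <;> decide

theorem main_rels : (EnumMainData.rels.all (okRel li 13 ((eqC ++ eqW).map (relOf li sub)))) = true := by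
  decide +kernel

theorem main_check : checkHyp EnumMainData.C EnumMainData.rels EnumMainData.subw = true := by decide +kernel

theorem cc_rels : (EnumCCData.rels.all (okRel liC 9 (eqC.map (relOf liC sub)))) = true := by decide +kernel

theorem cc_check : checkHyp EnumCCData.C EnumCCData.rels EnumCCData.subw = true := by decide +kernel

/-- long letters of `C` -/
theorem subC_lt (n : ℕ) (hn : n < 15) : ∀ y ∈ sub n, y < 9 := by
  interval_cases n <;> decide

/-- `|⟨z, y, s, i, j, a⟩| ≤ 1152` -/
theorem card_C (S : Sat z y s i j k l a b w v) :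
    Finite (Subgroup.closure (lt13 z y s i j a w v '' {n | n < 9})) ∧
      Nat.card (Subgroup.closure (lt13 z y s i j a w v '' {n | n < 9})) ≤ 1152 := by
  have hr := rels_one (g := lt13 z y s i j a w v) (g' := lt19 z y s i j k l a b w v) (K := 15) (k := 9) eqC
    EnumCCData.rels (lt13_liC S.zz S.yy S.ss) (fun x hx => lt19_sub S x (by omega)) subC_lt (by decide +kernel)
    cc_rels S.C
  have ha : a ^ 3 = 1 := by
    have := S.C ([11, 11, 11], []) (by simp [eqC])
    simp only [ev, lt19, List.map_cons, List.map_nil, List.prod_cons, List.prod_nil, mul_one] at this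
    rw [pow_succ, pow_succ, pow_one, mul_assoc]; exact this
  have hfin : Finite (Subgroup.zpowers a) := by
    have : IsOfFinOrder a := isOfFinOrder_iff_pow_eq_one.2 ⟨3, by norm_num, ha⟩
    exact this.finite_zpowers
  have hcard : Nat.card (Subgroup.zpowers a) ≤ 3 := by
    rw [Nat.card_zpowers]
    exact Nat.le_of_dvd (by norm_num) (orderOf_dvd_of_pow_eq_one ha)
  have hinv : ∀ n, n < 9 → EnumCCData.C.inv n = liC n := by
    intro n hn
    interval_cases n <;> rfl
  have hyp : Hyp EnumCCData.C (Subgroup.zpowers a) (lt13 z y s i j a 1 1) := by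
    have hr' : ∀ r ∈ EnumCCData.rels, ev (lt13 z y s i j a 1 1) r = 1 := by
      intro r hr1
      have h9 : ∀ x ∈ r, x < 9 := by
        have : (EnumCCData.rels.all fun r => r.all fun x => Nat.blt x 9) = true := by decide +kernel
        exact all_lt (List.all_eq_true.1 this r hr1)
      rw [← hr r hr1]
      unfold ev
      congr 1
      apply List.map_congr_left
      intro x hx
      have := h9 x hx
      interval_cases x <;> rfl
    refine hyp_of_checks _ _ EnumCCData.C EnumCCData.rels EnumCCData.subw rfl ?_ hr' ?_ cc_check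
    · intro x hx
      have hx : x < 9 := hx
      rw [hinv x hx]
      exact lt13_liC S.zz S.yy S.ss x hx
    · intro r hr
      simp only [EnumCCData.subw, List.mem_cons, List.not_mem_nil, or_false] at hr
      subst hr
      simpa [ev, lt13] using Subgroup.mem_zpowers a
  obtain ⟨h1, h2⟩ := card_closure_le EnumCCData.C _ _ hyp EnumCCAll.part
  have himg : (lt13 z y s i j a 1 1 '' {x | x < EnumCCData.C.k}) = lt13 z y s i j a w v '' {n | n < 9} := by
    apply Set.image_congr
    intro n hn
    have hn : n < 9 := hn
    interval_cases n <;> rfl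
  rw [himg] at h1 h2
  refine ⟨h1, h2.trans ?_⟩
  calc 384 * Nat.card (Subgroup.zpowers a) ≤ 384 * 3 := Nat.mul_le_mul_left _ hcard
    _ = 1152 := by norm_num

/-- `|⟨z, y, s, i, j, a, w, v⟩| ≤ 6065280` -/
theorem card_le (S : Sat z y s i j k l a b w v) :
    Finite (Subgroup.closure (lt13 z y s i j a w v '' {n | n < 13})) ∧
      Nat.card (Subgroup.closure (lt13 z y s i j a w v '' {n | n < 13})) ≤ 6065280 := by
  have hr := rels_one (g := lt13 z y s i j a w v) (g' := lt19 z y s i j k l a b w v) (K := 19) (k := 13)
    (eqC ++ eqW) EnumMainData.rels (lt13_li S.zz S.yy S.ss) (lt19_sub S) sub_lt (by decide +kernel)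
    main_rels (by
      intro p hp
      rcases List.mem_append.1 hp with hp | hp
      · exact S.C p hp
      · exact S.W p hp)
  obtain ⟨c1, c2⟩ := card_C S
  have hinv : ∀ n, n < 13 → EnumMainData.C.inv n = li n := by
    intro n hn
    interval_cases n <;> rfl
  have hyp : Hyp EnumMainData.C (Subgroup.closure (lt13 z y s i j a w v '' {n | n < 9}))
      (lt13 z y s i j a w v) := by
    refine hyp_of_checks _ _ EnumMainData.C EnumMainData.rels EnumMainData.subw rfl ?_ hr ?_ main_check
    · intro x hx
      have hx : x < 13 := hx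
      rw [hinv x hx]
      exact lt13_li S.zz S.yy S.ss x hx
    · intro r hr
      simp only [EnumMainData.subw, List.mem_cons, List.not_mem_nil, or_false] at hr
      have hm : ∀ n, n < 9 → ev (lt13 z y s i j a w v) [n] ∈
          Subgroup.closure (lt13 z y s i j a w v '' {n | n < 9}) := by
        intro n hn
        rw [ev_cons, ev_nil, mul_one]
        exact Subgroup.subset_closure ⟨n, hn, rfl⟩
      rcases hr with rfl | rfl | rfl | rfl | rfl | rfl <;> exact hm _ (by norm_num)
  obtain ⟨h1, h2⟩ := card_closure_le EnumMainData.C _ _ hyp EnumMainAll.part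
  have himg : (lt13 z y s i j a w v '' {x | x < EnumMainData.C.k}) = lt13 z y s i j a w v '' {n | n < 13} := rfl
  rw [himg] at h1 h2
  refine ⟨h1, h2.trans ?_⟩
  calc 5265 * Nat.card (Subgroup.closure (lt13 z y s i j a w v '' {n | n < 9})) ≤ 5265 * 1152 :=
        Nat.mul_le_mul_left _ c2
    _ = 6065280 := by norm_num

end

end Cfsg.Agent.LargeExtra.W2.LFour.EnumBound
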