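import Cfsg.Agent.LargeExtra.W2.PlusHom
import Cfsg.Agent.LargeExtra.W2.LFour.PresDef
import Cfsg.Agent.LargeExtra.W2.LFour.EnumWords

/-!
# The equations of the presentation of `L₄(3)` as words (helper842)

Long alphabet: `0 = z, 1 = y, 2 = s, 3 = i, 4 = i⁻¹, 5 = j, 6 = j⁻¹, 7 = k, 8 = k⁻¹, 9 = l, 10 = l⁻¹, 11 = x₁,
12 = x₁⁻¹, 13 = x₂, 14 = x₂⁻¹, 15 = w, 16 = w⁻¹, 17 = w', 18 = w'⁻¹`.
Short alphabet (`k = s i s`, `l = s j s`, `x₂ = s x₁ s`): `0 = z, 1 = y, 2 = s, 3 = i, 4 = i⁻¹, 5 = j, 6 = j⁻¹,
7 = x₁, 8 = x₁⁻¹, 9 = w, 10 = w⁻¹, 11 = w', 12 = w'⁻¹`.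
-/

set_option autoImplicit false
set_option linter.unusedSimpArgs false

namespace Cfsg.Agent.LargeExtra.W2.LFour.EnumSat

open Cfsg.Agent.SporadicRecognition.CosetCert Cfsg.Agent.LargeExtra.W2 Cfsg.Agent.LargeExtra.W2.LFour
  Cfsg.Agent.LargeExtra.W2.LFour.PresDef

/-- equations in the long alphabet -/
def eqC : List (List ℕ × List ℕ) :=
  [([3, 3], [0]), ([5, 5], [0]), ([7, 7], [0]), ([9, 9], [0]), ([5, 3], [3, 5, 0]), ([9, 7], [7, 9, 0]),
    ([7, 3], [3, 7]), ([9, 3], [3, 9]), ([7, 5], [5, 7]), ([9, 5], [5, 9]), ([0, 3], [3, 0]),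
    ([0, 5], [5, 0]), ([0, 7], [7, 0]), ([0, 9], [9, 0]), ([11, 11, 11], []), ([13, 13, 13], []),
    ([11, 0, 12], [0]), ([11, 3, 12], [5]), ([11, 5, 12], [3, 5]), ([11, 7, 12], [7]), ([11, 9, 12], [9]),
    ([13, 0, 14], [0]), ([13, 3, 14], [3]), ([13, 5, 14], [5]), ([13, 7, 14], [9]), ([13, 9, 14], [7, 9]),
    ([1, 0, 1], [0]), ([1, 3, 1], [5, 0]), ([1, 5, 1], [3, 0]), ([1, 7, 1], [9, 0]), ([1, 9, 1], [7, 0]),
    ([2, 0, 2], [0]), ([2, 3, 2], [7]), ([2, 5, 2], [9]), ([2, 7, 2], [3]), ([2, 9, 2], [5]),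
    ([11, 13], [13, 11]), ([1, 11, 1], [12]), ([1, 13, 1], [14]), ([2, 11, 2], [13]), ([2, 13, 2], [11]),
    ([2, 1], [1, 2])]

/-- equations in the long alphabet -/
def eqW : List (List ℕ × List ℕ) :=
  [([15, 15, 15], []), ([15, 3, 5, 7, 9], [3, 5, 7, 9, 15]), ([15, 2, 1], [2, 1, 15]),
    ([15, 2, 16], [3, 5, 7, 9, 0]), ([15, 3, 5, 7, 9, 0, 16], [3, 5, 7, 9, 2, 0]),
    ([15, 2, 3, 7], [2, 3, 7, 15]), ([17, 17, 17], []), ([17, 2], [2, 17]),
    ([17, 3, 5, 7, 9, 0], [3, 5, 7, 9, 0, 17]), ([17, 3, 5, 7, 9, 18], [3, 5, 7, 9, 2, 1]),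
    ([17, 2, 1, 18], [3, 5, 7, 9]), ([17, 3, 9, 3, 5, 7, 9, 2, 1], [3, 9, 3, 5, 7, 9, 2, 1, 17]),
    ([15, 17], [17, 15]), ([3, 2, 1, 4, 15, 3, 1, 2, 4], [16]), ([4, 2, 3, 17, 4, 2, 3], [18]),
    ([16, 4, 15, 3, 15], [11, 13]), ([18, 4, 17, 3, 17], [11, 14]),
    ([15, 3, 18, 4, 15, 3, 18, 4, 15, 3, 18, 4, 15, 3, 18, 4], [])]

/-- long alphabet -/
def lt19 {G : Type*} [Group G] (z y s i j k l a b w v : G) : ℕ → G
  | 0 => z | 1 => y | 2 => s | 3 => i | 4 => i⁻¹ | 5 => j | 6 => j⁻¹ | 7 => k | 8 => k⁻¹ | 9 => l | 10 => l⁻¹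
  | 11 => a | 12 => a⁻¹ | 13 => b | 14 => b⁻¹ | 15 => w | 16 => w⁻¹ | 17 => v | 18 => v⁻¹ | _ => 1

/-- short alphabet -/
def lt13 {G : Type*} [Group G] (z y s i j a w v : G) : ℕ → G
  | 0 => z | 1 => y | 2 => s | 3 => i | 4 => i⁻¹ | 5 => j | 6 => j⁻¹ | 7 => a | 8 => a⁻¹ | 9 => w | 10 => w⁻¹
  | 11 => v | 12 => v⁻¹ | _ => 1

/-- inverse letters of the short alphabet -/
def li : ℕ → ℕ
  | 3 => 4 | 4 => 3 | 5 => 6 | 6 => 5 | 7 => 8 | 8 => 7 | 9 => 10 | 10 => 9 | 11 => 12 | 12 => 11 | n => n

/-- inverse letters of the short alphabet of `C` -/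
def liC : ℕ → ℕ
  | 3 => 4 | 4 => 3 | 5 => 6 | 6 => 5 | 7 => 8 | 8 => 7 | n => n

/-- long alphabet in terms of the short one -/
def sub : ℕ → List ℕ
  | 0 => [0] | 1 => [1] | 2 => [2] | 3 => [3] | 4 => [4] | 5 => [5] | 6 => [6] | 7 => [2, 3, 2] | 8 => [2, 4, 2]
  | 9 => [2, 5, 2] | 10 => [2, 6, 2] | 11 => [7] | 12 => [8] | 13 => [2, 7, 2] | 14 => [2, 8, 2] | 15 => [9]
  | 16 => [10] | 17 => [11] | 18 => [12] | _ => []

/-- Elements satisfying the equations. -/
structure Sat {G : Type*} [Group G] (z y s i j k l a b w v : G) : Prop where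
  zz : z * z = 1
  yy : y * y = 1
  ss : s * s = 1
  C : ∀ p ∈ eqC, ev (lt19 z y s i j k l a b w v) p.1 = ev (lt19 z y s i j k l a b w v) p.2
  W : ∀ p ∈ eqW, ev (lt19 z y s i j k l a b w v) p.1 = ev (lt19 z y s i j k l a b w v) p.2

variable {G : Type*} [Group G] {Q : Subgroup G} {z i j k l x₁ x₂ y s θ w w' : G}

theorem satC (h : Case9aa Q z i j k l x₁ x₂ y s) (yy : y * y = 1) (ss : s * s = 1) (ys : s * y = y * s)
    (w w' : G) : ∀ p ∈ eqC, ev (lt19 z y s i j k l x₁ x₂ w w') p.1 = ev (lt19 z y s i j k l x₁ x₂ w w') p.2 := by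
  have hy : y⁻¹ = y := inv_eq_of_mul_eq_one_left yy
  have hs : s⁻¹ = s := inv_eq_of_mul_eq_one_left ss
  intro p hp
  simp only [eqC, List.mem_cons, List.not_mem_nil, or_false] at hp
  rcases hp with rfl | rfl | rfl | rfl | rfl | rfl | rfl | rfl | rfl | rfl | rfl | rfl | rfl | rfl | rfl | rfl | rfl | rfl | rfl | rfl | rfl | rfl | rfl | rfl | rfl | rfl | rfl | rfl | rfl | rfl | rfl | rfl | rfl | rfl | rfl | rfl | rfl | rfl | rfl | rfl | rfl | rfl
  · have e := h.ii
    try simp only [hy, hs, pow_succ, pow_zero, one_mul, mul_inv_rev, inv_inv, mul_assoc] at e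
    simpa only [ev, lt19, List.map_cons, List.map_nil, List.prod_cons, List.prod_nil, mul_one] using e
  · have e := h.jj
    try simp only [hy, hs, pow_succ, pow_zero, one_mul, mul_inv_rev, inv_inv, mul_assoc] at e
    simpa only [ev, lt19, List.map_cons, List.map_nil, List.prod_cons, List.prod_nil, mul_one] using e
  · have e := h.kk
    try simp only [hy, hs, pow_succ, pow_zero, one_mul, mul_inv_rev, inv_inv, mul_assoc] at e
    simpa only [ev, lt19, List.map_cons, List.map_nil, List.prod_cons, List.prod_nil, mul_one] using e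
  · have e := h.ll
    try simp only [hy, hs, pow_succ, pow_zero, one_mul, mul_inv_rev, inv_inv, mul_assoc] at e
    simpa only [ev, lt19, List.map_cons, List.map_nil, List.prod_cons, List.prod_nil, mul_one] using e
  · have e := h.ji
    try simp only [hy, hs, pow_succ, pow_zero, one_mul, mul_inv_rev, inv_inv, mul_assoc] at e
    simpa only [ev, lt19, List.map_cons, List.map_nil, List.prod_cons, List.prod_nil, mul_one] using e
  · have e := h.lk
    try simp only [hy, hs, pow_succ, pow_zero, one_mul, mul_inv_rev, inv_inv, mul_assoc] at e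
    simpa only [ev, lt19, List.map_cons, List.map_nil, List.prod_cons, List.prod_nil, mul_one] using e
  · have e := h.ki
    try simp only [hy, hs, pow_succ, pow_zero, one_mul, mul_inv_rev, inv_inv, mul_assoc] at e
    simpa only [ev, lt19, List.map_cons, List.map_nil, List.prod_cons, List.prod_nil, mul_one] using e
  · have e := h.li
    try simp only [hy, hs, pow_succ, pow_zero, one_mul, mul_inv_rev, inv_inv, mul_assoc] at e
    simpa only [ev, lt19, List.map_cons, List.map_nil, List.prod_cons, List.prod_nil, mul_one] using e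
  · have e := h.kj
    try simp only [hy, hs, pow_succ, pow_zero, one_mul, mul_inv_rev, inv_inv, mul_assoc] at e
    simpa only [ev, lt19, List.map_cons, List.map_nil, List.prod_cons, List.prod_nil, mul_one] using e
  · have e := h.lj
    try simp only [hy, hs, pow_succ, pow_zero, one_mul, mul_inv_rev, inv_inv, mul_assoc] at e
    simpa only [ev, lt19, List.map_cons, List.map_nil, List.prod_cons, List.prod_nil, mul_one] using e
  · have e := (h.large.comm_z _ (PlusHom.mem_i h.toPlus)).symm
    try simp only [hy, hs, pow_succ, pow_zero, one_mul, mul_inv_rev, inv_inv, mul_assoc] at e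
    simpa only [ev, lt19, List.map_cons, List.map_nil, List.prod_cons, List.prod_nil, mul_one] using e
  · have e := (h.large.comm_z _ (PlusHom.mem_j h.toPlus)).symm
    try simp only [hy, hs, pow_succ, pow_zero, one_mul, mul_inv_rev, inv_inv, mul_assoc] at e
    simpa only [ev, lt19, List.map_cons, List.map_nil, List.prod_cons, List.prod_nil, mul_one] using e
  · have e := (h.large.comm_z _ (PlusHom.mem_k h.toPlus)).symm
    try simp only [hy, hs, pow_succ, pow_zero, one_mul, mul_inv_rev, inv_inv, mul_assoc] at e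
    simpa only [ev, lt19, List.map_cons, List.map_nil, List.prod_cons, List.prod_nil, mul_one] using e
  · have e := (h.large.comm_z _ (PlusHom.mem_l h.toPlus)).symm
    try simp only [hy, hs, pow_succ, pow_zero, one_mul, mul_inv_rev, inv_inv, mul_assoc] at e
    simpa only [ev, lt19, List.map_cons, List.map_nil, List.prod_cons, List.prod_nil, mul_one] using e
  · have e := h.x₁3
    try simp only [hy, hs, pow_succ, pow_zero, one_mul, mul_inv_rev, inv_inv, mul_assoc] at e
    simpa only [ev, lt19, List.map_cons, List.map_nil, List.prod_cons, List.prod_nil, mul_one] using e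
  · have e := h.x₂3
    try simp only [hy, hs, pow_succ, pow_zero, one_mul, mul_inv_rev, inv_inv, mul_assoc] at e
    simpa only [ev, lt19, List.map_cons, List.map_nil, List.prod_cons, List.prod_nil, mul_one] using e
  · have e := h.x₁_act.z
    try simp only [hy, hs, pow_succ, pow_zero, one_mul, mul_inv_rev, inv_inv, mul_assoc] at e
    simpa only [ev, lt19, List.map_cons, List.map_nil, List.prod_cons, List.prod_nil, mul_one] using e
  · have e := h.x₁_act.i
    try simp only [hy, hs, pow_succ, pow_zero, one_mul, mul_inv_rev, inv_inv, mul_assoc] at e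
    simpa only [ev, lt19, List.map_cons, List.map_nil, List.prod_cons, List.prod_nil, mul_one] using e
  · have e := h.x₁_act.j
    try simp only [hy, hs, pow_succ, pow_zero, one_mul, mul_inv_rev, inv_inv, mul_assoc] at e
    simpa only [ev, lt19, List.map_cons, List.map_nil, List.prod_cons, List.prod_nil, mul_one] using e
  · have e := h.x₁_act.k
    try simp only [hy, hs, pow_succ, pow_zero, one_mul, mul_inv_rev, inv_inv, mul_assoc] at e
    simpa only [ev, lt19, List.map_cons, List.map_nil, List.prod_cons, List.prod_nil, mul_one] using e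
  · have e := h.x₁_act.l
    try simp only [hy, hs, pow_succ, pow_zero, one_mul, mul_inv_rev, inv_inv, mul_assoc] at e
    simpa only [ev, lt19, List.map_cons, List.map_nil, List.prod_cons, List.prod_nil, mul_one] using e
  · have e := h.x₂_act.z
    try simp only [hy, hs, pow_succ, pow_zero, one_mul, mul_inv_rev, inv_inv, mul_assoc] at e
    simpa only [ev, lt19, List.map_cons, List.map_nil, List.prod_cons, List.prod_nil, mul_one] using e
  · have e := h.x₂_act.i
    try simp only [hy, hs, pow_succ, pow_zero, one_mul, mul_inv_rev, inv_inv, mul_assoc] at e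
    simpa only [ev, lt19, List.map_cons, List.map_nil, List.prod_cons, List.prod_nil, mul_one] using e
  · have e := h.x₂_act.j
    try simp only [hy, hs, pow_succ, pow_zero, one_mul, mul_inv_rev, inv_inv, mul_assoc] at e
    simpa only [ev, lt19, List.map_cons, List.map_nil, List.prod_cons, List.prod_nil, mul_one] using e
  · have e := h.x₂_act.k
    try simp only [hy, hs, pow_succ, pow_zero, one_mul, mul_inv_rev, inv_inv, mul_assoc] at e
    simpa only [ev, lt19, List.map_cons, List.map_nil, List.prod_cons, List.prod_nil, mul_one] using e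
  · have e := h.x₂_act.l
    try simp only [hy, hs, pow_succ, pow_zero, one_mul, mul_inv_rev, inv_inv, mul_assoc] at e
    simpa only [ev, lt19, List.map_cons, List.map_nil, List.prod_cons, List.prod_nil, mul_one] using e
  · have e := h.y_act.z
    try simp only [hy, hs, pow_succ, pow_zero, one_mul, mul_inv_rev, inv_inv, mul_assoc] at e
    simpa only [ev, lt19, List.map_cons, List.map_nil, List.prod_cons, List.prod_nil, mul_one] using e
  · have e := h.y_act.i
    try simp only [hy, hs, pow_succ, pow_zero, one_mul, mul_inv_rev, inv_inv, mul_assoc] at e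
    simpa only [ev, lt19, List.map_cons, List.map_nil, List.prod_cons, List.prod_nil, mul_one] using e
  · have e := h.y_act.j
    try simp only [hy, hs, pow_succ, pow_zero, one_mul, mul_inv_rev, inv_inv, mul_assoc] at e
    simpa only [ev, lt19, List.map_cons, List.map_nil, List.prod_cons, List.prod_nil, mul_one] using e
  · have e := h.y_act.k
    try simp only [hy, hs, pow_succ, pow_zero, one_mul, mul_inv_rev, inv_inv, mul_assoc] at e
    simpa only [ev, lt19, List.map_cons, List.map_nil, List.prod_cons, List.prod_nil, mul_one] using e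
  · have e := h.y_act.l
    try simp only [hy, hs, pow_succ, pow_zero, one_mul, mul_inv_rev, inv_inv, mul_assoc] at e
    simpa only [ev, lt19, List.map_cons, List.map_nil, List.prod_cons, List.prod_nil, mul_one] using e
  · have e := h.s_act.z
    try simp only [hy, hs, pow_succ, pow_zero, one_mul, mul_inv_rev, inv_inv, mul_assoc] at e
    simpa only [ev, lt19, List.map_cons, List.map_nil, List.prod_cons, List.prod_nil, mul_one] using e
  · have e := h.s_act.i
    try simp only [hy, hs, pow_succ, pow_zero, one_mul, mul_inv_rev, inv_inv, mul_assoc] at e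
    simpa only [ev, lt19, List.map_cons, List.map_nil, List.prod_cons, List.prod_nil, mul_one] using e
  · have e := h.s_act.j
    try simp only [hy, hs, pow_succ, pow_zero, one_mul, mul_inv_rev, inv_inv, mul_assoc] at e
    simpa only [ev, lt19, List.map_cons, List.map_nil, List.prod_cons, List.prod_nil, mul_one] using e
  · have e := h.s_act.k
    try simp only [hy, hs, pow_succ, pow_zero, one_mul, mul_inv_rev, inv_inv, mul_assoc] at e
    simpa only [ev, lt19, List.map_cons, List.map_nil, List.prod_cons, List.prod_nil, mul_one] using e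
  · have e := h.s_act.l
    try simp only [hy, hs, pow_succ, pow_zero, one_mul, mul_inv_rev, inv_inv, mul_assoc] at e
    simpa only [ev, lt19, List.map_cons, List.map_nil, List.prod_cons, List.prod_nil, mul_one] using e
  · have e := h.xx
    try simp only [hy, hs, pow_succ, pow_zero, one_mul, mul_inv_rev, inv_inv, mul_assoc] at e
    simpa only [ev, lt19, List.map_cons, List.map_nil, List.prod_cons, List.prod_nil, mul_one] using e
  · have e := h.y1
    try simp only [hy, hs, pow_succ, pow_zero, one_mul, mul_inv_rev, inv_inv, mul_assoc] at e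
    simpa only [ev, lt19, List.map_cons, List.map_nil, List.prod_cons, List.prod_nil, mul_one] using e
  · have e := h.y2
    try simp only [hy, hs, pow_succ, pow_zero, one_mul, mul_inv_rev, inv_inv, mul_assoc] at e
    simpa only [ev, lt19, List.map_cons, List.map_nil, List.prod_cons, List.prod_nil, mul_one] using e
  · have e := h.s1
    try simp only [hy, hs, pow_succ, pow_zero, one_mul, mul_inv_rev, inv_inv, mul_assoc] at e
    simpa only [ev, lt19, List.map_cons, List.map_nil, List.prod_cons, List.prod_nil, mul_one] using e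
  · have e := h.s2
    try simp only [hy, hs, pow_succ, pow_zero, one_mul, mul_inv_rev, inv_inv, mul_assoc] at e
    simpa only [ev, lt19, List.map_cons, List.map_nil, List.prod_cons, List.prod_nil, mul_one] using e
  · have e := ys
    try simp only [hy, hs, pow_succ, pow_zero, one_mul, mul_inv_rev, inv_inv, mul_assoc] at e
    simpa only [ev, lt19, List.map_cons, List.map_nil, List.prod_cons, List.prod_nil, mul_one] using e

theorem satW (h : Pres Q z i j k l x₁ x₂ y s θ w w') (X1 : w⁻¹ * i⁻¹ * w * i * w = x₁ * x₂)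
    (X2 : w'⁻¹ * i⁻¹ * w' * i * w' = x₁ * x₂⁻¹) :
    ∀ p ∈ eqW, ev (lt19 z y s i j k l x₁ x₂ w w') p.1 = ev (lt19 z y s i j k l x₁ x₂ w w') p.2 := by
  have hy : y⁻¹ = y := inv_eq_of_mul_eq_one_left h.y_sq
  have hs : s⁻¹ = s := inv_eq_of_mul_eq_one_left h.s_sq
  intro p hp
  simp only [eqW, List.mem_cons, List.not_mem_nil, or_false] at hp
  rcases hp with rfl | rfl | rfl | rfl | rfl | rfl | rfl | rfl | rfl | rfl | rfl | rfl | rfl | rfl | rfl | rfl | rfl | rfl
  · have e := h.w3
    try simp only [hy, hs, pow_succ, pow_zero, one_mul, mul_inv_rev, inv_inv, mul_assoc] at e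
    simpa only [ev, lt19, List.map_cons, List.map_nil, List.prod_cons, List.prod_nil, mul_one] using e
  · have e := h.w_d
    try simp only [hy, hs, pow_succ, pow_zero, one_mul, mul_inv_rev, inv_inv, mul_assoc] at e
    simpa only [ev, lt19, List.map_cons, List.map_nil, List.prod_cons, List.prod_nil, mul_one] using e
  · have e := h.w_sy
    try simp only [hy, hs, pow_succ, pow_zero, one_mul, mul_inv_rev, inv_inv, mul_assoc] at e
    simpa only [ev, lt19, List.map_cons, List.map_nil, List.prod_cons, List.prod_nil, mul_one] using e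
  · have e := h.w_s
    try simp only [hy, hs, pow_succ, pow_zero, one_mul, mul_inv_rev, inv_inv, mul_assoc] at e
    simpa only [ev, lt19, List.map_cons, List.map_nil, List.prod_cons, List.prod_nil, mul_one] using e
  · have e := h.w_dz
    try simp only [hy, hs, pow_succ, pow_zero, one_mul, mul_inv_rev, inv_inv, mul_assoc] at e
    simpa only [ev, lt19, List.map_cons, List.map_nil, List.prod_cons, List.prod_nil, mul_one] using e
  · have e := h.w_z1
    try simp only [hy, hs, pow_succ, pow_zero, one_mul, mul_inv_rev, inv_inv, mul_assoc] at e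
    simpa only [ev, lt19, List.map_cons, List.map_nil, List.prod_cons, List.prod_nil, mul_one] using e
  · have e := h.w'3
    try simp only [hy, hs, pow_succ, pow_zero, one_mul, mul_inv_rev, inv_inv, mul_assoc] at e
    simpa only [ev, lt19, List.map_cons, List.map_nil, List.prod_cons, List.prod_nil, mul_one] using e
  · have e := h.w'_s
    try simp only [hy, hs, pow_succ, pow_zero, one_mul, mul_inv_rev, inv_inv, mul_assoc] at e
    simpa only [ev, lt19, List.map_cons, List.map_nil, List.prod_cons, List.prod_nil, mul_one] using e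
  · have e := h.w'_dz
    try simp only [hy, hs, pow_succ, pow_zero, one_mul, mul_inv_rev, inv_inv, mul_assoc] at e
    simpa only [ev, lt19, List.map_cons, List.map_nil, List.prod_cons, List.prod_nil, mul_one] using e
  · have e := h.w'_d
    try simp only [hy, hs, pow_succ, pow_zero, one_mul, mul_inv_rev, inv_inv, mul_assoc] at e
    simpa only [ev, lt19, List.map_cons, List.map_nil, List.prod_cons, List.prod_nil, mul_one] using e
  · have e := h.w'_sy
    try simp only [hy, hs, pow_succ, pow_zero, one_mul, mul_inv_rev, inv_inv, mul_assoc] at e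
    simpa only [ev, lt19, List.map_cons, List.map_nil, List.prod_cons, List.prod_nil, mul_one] using e
  · have e := h.w'_z2
    try simp only [hy, hs, pow_succ, pow_zero, one_mul, mul_inv_rev, inv_inv, mul_assoc] at e
    simpa only [ev, lt19, List.map_cons, List.map_nil, List.prod_cons, List.prod_nil, mul_one] using e
  · have e := h.ww'
    try simp only [hy, hs, pow_succ, pow_zero, one_mul, mul_inv_rev, inv_inv, mul_assoc] at e
    simpa only [ev, lt19, List.map_cons, List.map_nil, List.prod_cons, List.prod_nil, mul_one] using e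
  · have e := h.w_inv
    try simp only [hy, hs, pow_succ, pow_zero, one_mul, mul_inv_rev, inv_inv, mul_assoc] at e
    simpa only [ev, lt19, List.map_cons, List.map_nil, List.prod_cons, List.prod_nil, mul_one] using e
  · have e := h.w'_inv
    try simp only [hy, hs, pow_succ, pow_zero, one_mul, mul_inv_rev, inv_inv, mul_assoc] at e
    simpa only [ev, lt19, List.map_cons, List.map_nil, List.prod_cons, List.prod_nil, mul_one] using e
  · have e := X1
    try simp only [hy, hs, pow_succ, pow_zero, one_mul, mul_inv_rev, inv_inv, mul_assoc] at e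
    simpa only [ev, lt19, List.map_cons, List.map_nil, List.prod_cons, List.prod_nil, mul_one] using e
  · have e := X2
    try simp only [hy, hs, pow_succ, pow_zero, one_mul, mul_inv_rev, inv_inv, mul_assoc] at e
    simpa only [ev, lt19, List.map_cons, List.map_nil, List.prod_cons, List.prod_nil, mul_one] using e
  · have e := h.four
    try simp only [hy, hs, pow_succ, pow_zero, one_mul, mul_inv_rev, inv_inv, mul_assoc] at e
    simpa only [ev, lt19, List.map_cons, List.map_nil, List.prod_cons, List.prod_nil, mul_one] using e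

theorem Sat.of_pres (h : Pres Q z i j k l x₁ x₂ y s θ w w') (X1 : w⁻¹ * i⁻¹ * w * i * w = x₁ * x₂)
    (X2 : w'⁻¹ * i⁻¹ * w' * i * w' = x₁ * x₂⁻¹) : Sat z y s i j k l x₁ x₂ w w' where
  zz := h.large.z_sq
  yy := h.y_sq
  ss := h.s_sq
  C := satC h.toCase9aa h.y_sq h.s_sq h.s_y w w'
  W := satW h X1 X2

end Cfsg.Agent.LargeExtra.W2.LFour.EnumSat
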