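import Cfsg.Agent.LargeExtra.W2.LFour.CVCent

/-!
# S1759, `L₄(3)`: the relations `(w b)⁵ = (w b⁻¹)⁴ = 1` (helper465)
-/

set_option autoImplicit false

namespace Cfsg.Agent.LargeExtra.W2.LFour.Five

open Subgroup Cfsg.Agent.CoOneType.LThree Cfsg.Agent.LargeExtra.W2.LFour.CVMain
  Cfsg.Agent.LargeExtra.W2.LFour.PresDef Cfsg.Agent.LargeExtra.W2.LFour.CVInst
  Cfsg.Agent.LargeExtra.W2.LFour.CVCent

theorem amalgam_ne {G : Type*} [Group G] {z s t x y : G} (h : Amalgam z s t x y) : x ≠ y := by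
  intro e
  have h1 : s = t := by
    have h2 := h.zx
    rw [e] at h2
    exact mul_left_cancel (h2.symm.trans h.zy)
  apply h.st_ne
  rw [← h1]; exact h.ss

/-- In a group of order 360 the relations of `L₃(2)` do not hold. -/
theorem concl_360 {G : Type*} [Group G] {z s t x y : G} (h : Amalgam z s t x y) (M : Subgroup G)
    (hz : z ∈ M) (hx : x ∈ M) (hy : y ∈ M) (hM : Nat.card M = 360) (hc : Concl z x y) :
    (x * y) ^ 5 = 1 ∧ (x * y⁻¹) ^ 4 = 1 := by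
  have h7 : ∀ g ∈ M, g ^ 7 = 1 → g = 1 := by
    intro g hg e
    have h1 : orderOf g ∣ 7 := orderOf_dvd_of_pow_eq_one e
    have h2 : orderOf g ∣ 360 := by
      rw [← hM, ← Subgroup.orderOf_mk g hg]
      exact orderOf_dvd_natCard _
    have h3 : orderOf g ∣ Nat.gcd 7 360 := Nat.dvd_gcd h1 h2
    have h4 : Nat.gcd 7 360 = 1 := by decide
    rw [h4, Nat.dvd_one] at h3
    exact orderOf_eq_one_iff.1 h3
  rcases hc with h1 | ⟨-, h1⟩ | ⟨-, h1⟩
  · exact h1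
  · exfalso
    have h2 := h7 _ (mul_mem hx (inv_mem hy)) h1
    exact amalgam_ne h (mul_inv_eq_one.1 h2)
  · exfalso
    have h2 := h7 _ (mul_mem (mul_mem (mul_mem hz hx) hz) (inv_mem hy)) h1
    exact amalgam_ne h.conj_z (mul_inv_eq_one.1 h2)

variable {G : Type*} [Group G] {Q : Subgroup G} {z i j k l x₁ x₂ y s θ w w' : G}

theorem five_four [Finite G] (h : Elem2 Q z i j k l x₁ x₂ y s θ w w')
    (hM : Nat.card (closure ({s, i * (s * y) * i⁻¹, w, i * w' * i⁻¹} : Set G)) = 360) :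
    (w * (i * w' * i⁻¹)) ^ 5 = 1 ∧ (w * (i * w' * i⁻¹)⁻¹) ^ 4 = 1 := by
  have ha := amalgam h
  obtain ⟨h1, -, -, -⟩ := CVCent.main h
  rw [← gen_eq h] at h1 hM
  have hc := Cfsg.Agent.CoOneType.LThree.main ha h1
  have hσ : i * j * k * l * z * s ∈ closure ({i * j * k * l * z * s, i * j * k * l * z * (i * (s * y) * i⁻¹), w⁻¹,
      (i * w' * i⁻¹)⁻¹} : Set G) := subset_closure (Or.inl rfl)
  have hτ : i * j * k * l * z * (i * (s * y) * i⁻¹) ∈ closure ({i * j * k * l * z * s,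
      i * j * k * l * z * (i * (s * y) * i⁻¹), w⁻¹, (i * w' * i⁻¹)⁻¹} : Set G) :=
    subset_closure (Or.inr (Or.inl rfl))
  have hx : w⁻¹ ∈ closure ({i * j * k * l * z * s,
      i * j * k * l * z * (i * (s * y) * i⁻¹), w⁻¹, (i * w' * i⁻¹)⁻¹} : Set G) :=
    subset_closure (Or.inr (Or.inr (Or.inl rfl)))
  have hy : (i * w' * i⁻¹)⁻¹ ∈ closure ({i * j * k * l * z * s,
      i * j * k * l * z * (i * (s * y) * i⁻¹), w⁻¹, (i * w' * i⁻¹)⁻¹} : Set G) :=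
    subset_closure (Or.inr (Or.inr (Or.inr rfl)))
  have hz := mul_mem (mul_mem hσ hτ) (mul_mem hσ hτ)
  rw [ha.hz] at hz
  obtain ⟨h5, h4⟩ := concl_360 ha _ hz hx hy hM hc
  have hconj : ∀ (a c : G) (n : ℕ), (a * c) ^ n = 1 → (c * a) ^ n = 1 := by
    intro a c n e
    have e1 : c * a = a⁻¹ * (a * c) * (a⁻¹)⁻¹ := by group
    rw [e1, conj_pow, e]; group
  constructor
  · have e1 : (w * (i * w' * i⁻¹)) = ((i * w' * i⁻¹)⁻¹ * w⁻¹)⁻¹ := by group
    rw [e1, inv_pow, hconj _ _ 5 h5, inv_one]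
  · have e1 : w * (i * w' * i⁻¹)⁻¹ = ((i * w' * i⁻¹) * w⁻¹)⁻¹ := by group
    have e2 : (w⁻¹ * (i * w' * i⁻¹)) ^ 4 = 1 := by rw [← h4, inv_inv]
    rw [e1, inv_pow, hconj _ _ 4 e2, inv_one]

end Cfsg.Agent.LargeExtra.W2.LFour.Five
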