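import Cfsg.Agent.LargeExtra.W2.LFour.FusionA

/-!
# S1759, case `9aa`, case I: fusion, part B: `y` is conjugate to `z` (helper221)
-/

set_option autoImplicit false

namespace Cfsg.Agent.LargeExtra.W2.LFour.Fusion

open Cfsg.Agent.LargeExtra.W2 Cfsg.Agent.SmallExtra438.ModelA Cfsg.Agent.SmallExtra438.FrameA
open Cfsg.Agent.SmallExtra438.ClassA Cfsg.Agent.LargeExtra.W2.LFour.TwistK
open Cfsg.Agent.SmallExtra438.TwistA (cmul swap)

/-! ### sign changes -/

section

variable {G : Type*} [Group G] {Q : Subgroup G} {z i j k l x₁ x₂ y s : G}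

theorem mem_of_mul_z (zz : z * z = 1) {K : Subgroup G} (hz : z ∈ K) {g : G} (hg : g * z ∈ K) : g ∈ K := by
  have : g = (g * z) * z := by rw [mul_assoc, zz, mul_one]
  rw [this]
  exact K.mul_mem hg hz

/-- replace `s` by `s z` -/
theorem sign_s (h : Case9aa Q z i j k l x₁ x₂ y s) : Case9aa Q z i j k l x₁ x₂ y (s * z) := by
  have zz := h.large.z_sq
  have hmem : ∀ g ∈ ({i, j, k, l} : Set G), g ∈ Q := fun g hg => h.gen ▸ Subgroup.subset_closure hg
  have hi := h.large.comm_z i (hmem _ (by simp))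
  have hj := h.large.comm_z j (hmem _ (by simp))
  have hk := h.large.comm_z k (hmem _ (by simp))
  have hl := h.large.comm_z l (hmem _ (by simp))
  have h1 : x₁ * z = z * x₁ := (z1 h).eq
  have h2 : x₂ * z = z * x₂ := (z2 h).eq
  have hy : y * z = z * y := (zy h).eq
  have hs : s * z = z * s := (zs h).eq
  have key : ∀ b : G, b * z = z * b → (s * z) * b * (s * z)⁻¹ = s * b * s⁻¹ := by
    intro b hb
    calc (s * z) * b * (s * z)⁻¹ = s * (z * b) * z⁻¹ * s⁻¹ := by group
      _ = s * (b * z) * z⁻¹ * s⁻¹ := by rw [hb]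
      _ = _ := by group
  refine { h with
    s_act := ⟨?_, ?_, ?_, ?_, ?_⟩
    s1 := ?_
    s2 := ?_
    ss := ?_
    ys := ?_
    cent := ?_ }
  · rw [key z rfl]; exact h.s_act.z
  · rw [key i hi]; exact h.s_act.i
  · rw [key j hj]; exact h.s_act.j
  · rw [key k hk]; exact h.s_act.k
  · rw [key l hl]; exact h.s_act.l
  · rw [key x₁ h1]; exact h.s1
  · rw [key x₂ h2]; exact h.s2
  · have e : s * z * (s * z) = s * s := by
      calc s * z * (s * z) = s * (z * s) * z := by group
        _ = (s * s) * (z * z) := by rw [← hs]; group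
        _ = s * s := by rw [zz, mul_one]
    rw [e]; exact h.ss
  · rw [key y hy]; exact h.ys
  · have hzc : z ∈ Subgroup.closure ({i, j, k, l, x₁, x₂, y, s * z} : Set G) := by
      rw [← h.ii]
      exact Subgroup.mul_mem _ (Subgroup.subset_closure (by simp)) (Subgroup.subset_closure (by simp))
    have hzc' : z ∈ Subgroup.closure ({i, j, k, l, x₁, x₂, y, s} : Set G) := by
      rw [← h.ii]
      exact Subgroup.mul_mem _ (Subgroup.subset_closure (by simp)) (Subgroup.subset_closure (by simp))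
    rw [h.cent]
    apply le_antisymm
    · rw [Subgroup.closure_le]
      rintro g hg
      simp only [Set.mem_insert_iff, Set.mem_singleton_iff] at hg
      rcases hg with rfl | rfl | rfl | rfl | rfl | rfl | rfl | rfl
      · exact Subgroup.subset_closure (by simp)
      · exact Subgroup.subset_closure (by simp)
      · exact Subgroup.subset_closure (by simp)
      · exact Subgroup.subset_closure (by simp)
      · exact Subgroup.subset_closure (by simp)
      · exact Subgroup.subset_closure (by simp)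
      · exact Subgroup.subset_closure (by simp)
      · exact mem_of_mul_z zz hzc (Subgroup.subset_closure (by simp))
    · rw [Subgroup.closure_le]
      rintro g hg
      simp only [Set.mem_insert_iff, Set.mem_singleton_iff] at hg
      rcases hg with rfl | rfl | rfl | rfl | rfl | rfl | rfl | rfl
      · exact Subgroup.subset_closure (by simp)
      · exact Subgroup.subset_closure (by simp)
      · exact Subgroup.subset_closure (by simp)
      · exact Subgroup.subset_closure (by simp)
      · exact Subgroup.subset_closure (by simp)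
      · exact Subgroup.subset_closure (by simp)
      · exact Subgroup.subset_closure (by simp)
      · exact Subgroup.mul_mem _ (Subgroup.subset_closure (by simp)) hzc'

/-- replace `y` by `y z` -/
theorem sign_y (h : Case9aa Q z i j k l x₁ x₂ y s) : Case9aa Q z i j k l x₁ x₂ (y * z) s := by
  have zz := h.large.z_sq
  have hmem : ∀ g ∈ ({i, j, k, l} : Set G), g ∈ Q := fun g hg => h.gen ▸ Subgroup.subset_closure hg
  have hi := h.large.comm_z i (hmem _ (by simp))
  have hj := h.large.comm_z j (hmem _ (by simp))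
  have hk := h.large.comm_z k (hmem _ (by simp))
  have hl := h.large.comm_z l (hmem _ (by simp))
  have h1 : x₁ * z = z * x₁ := (z1 h).eq
  have h2 : x₂ * z = z * x₂ := (z2 h).eq
  have hy : y * z = z * y := (zy h).eq
  have hs : s * z = z * s := (zs h).eq
  have key : ∀ b : G, b * z = z * b → (y * z) * b * (y * z)⁻¹ = y * b * y⁻¹ := by
    intro b hb
    calc (y * z) * b * (y * z)⁻¹ = y * (z * b) * z⁻¹ * y⁻¹ := by group
      _ = y * (b * z) * z⁻¹ * y⁻¹ := by rw [hb]
      _ = _ := by group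
  refine { h with
    y_act := ⟨?_, ?_, ?_, ?_, ?_⟩
    y1 := ?_
    y2 := ?_
    yy := ?_
    ys := ?_
    cent := ?_ }
  · rw [key z rfl]; exact h.y_act.z
  · rw [key i hi]; exact h.y_act.i
  · rw [key j hj]; exact h.y_act.j
  · rw [key k hk]; exact h.y_act.k
  · rw [key l hl]; exact h.y_act.l
  · rw [key x₁ h1]; exact h.y1
  · rw [key x₂ h2]; exact h.y2
  · have e : y * z * (y * z) = y * y := by
      calc y * z * (y * z) = y * (z * y) * z := by group
        _ = (y * y) * (z * z) := by rw [← hy]; group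
        _ = y * y := by rw [zz, mul_one]
    rw [e]; exact h.yy
  · have e : s * (y * z) * s⁻¹ = (s * y * s⁻¹) * z := by
      calc s * (y * z) * s⁻¹ = s * y * (z * s⁻¹) := by group
        _ = s * y * (s⁻¹ * z) := by
          have : z * s⁻¹ = s⁻¹ * z := by
            calc z * s⁻¹ = s⁻¹ * (s * z) * s⁻¹ := by group
              _ = s⁻¹ * (z * s) * s⁻¹ := by rw [hs]
              _ = _ := by group
          rw [this]
        _ = _ := by group
    rw [e]
    rcases h.ys with h3 | h3
    · left; rw [h3]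
    · right; rw [h3]
  · have hzc : z ∈ Subgroup.closure ({i, j, k, l, x₁, x₂, y * z, s} : Set G) := by
      rw [← h.ii]
      exact Subgroup.mul_mem _ (Subgroup.subset_closure (by simp)) (Subgroup.subset_closure (by simp))
    have hzc' : z ∈ Subgroup.closure ({i, j, k, l, x₁, x₂, y, s} : Set G) := by
      rw [← h.ii]
      exact Subgroup.mul_mem _ (Subgroup.subset_closure (by simp)) (Subgroup.subset_closure (by simp))
    rw [h.cent]
    apply le_antisymm
    · rw [Subgroup.closure_le]
      rintro g hg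
      simp only [Set.mem_insert_iff, Set.mem_singleton_iff] at hg
      rcases hg with rfl | rfl | rfl | rfl | rfl | rfl | rfl | rfl
      · exact Subgroup.subset_closure (by simp)
      · exact Subgroup.subset_closure (by simp)
      · exact Subgroup.subset_closure (by simp)
      · exact Subgroup.subset_closure (by simp)
      · exact Subgroup.subset_closure (by simp)
      · exact Subgroup.subset_closure (by simp)
      · exact mem_of_mul_z zz hzc (Subgroup.subset_closure (by simp))
      · exact Subgroup.subset_closure (by simp)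
    · rw [Subgroup.closure_le]
      rintro g hg
      simp only [Set.mem_insert_iff, Set.mem_singleton_iff] at hg
      rcases hg with rfl | rfl | rfl | rfl | rfl | rfl | rfl | rfl
      · exact Subgroup.subset_closure (by simp)
      · exact Subgroup.subset_closure (by simp)
      · exact Subgroup.subset_closure (by simp)
      · exact Subgroup.subset_closure (by simp)
      · exact Subgroup.subset_closure (by simp)
      · exact Subgroup.subset_closure (by simp)
      · exact Subgroup.mul_mem _ (Subgroup.subset_closure (by simp)) hzc'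
      · exact Subgroup.subset_closure (by simp)

end

/-! ### `s ~ z`, `y ≁ z` is impossible -/

theorem dec_s : ∀ m < 1152, (mm 0 m m = 0 ∧ mm 0 m 576 = mm 0 576 m ∧ m ≠ 0 ∧ m ≠ 16 ∧ m ≠ 576) →
    rp m ∈ ([16, 288, 576, 592] : List ℕ) ∨ rp (mm 0 m 576) ∈ ([16, 288, 576, 592] : List ℕ) := by decide +kernel

theorem dec_N : ∀ m < 1152, (mm 0 m m = 0 ∧ fy (m / 32) = 0 ∧ m ≠ 0) →
    rp m ∈ ([16, 5, 576, 592] : List ℕ) := by decide +kernel

section

variable {G : Type*} [Group G] [Finite G] {Q : Subgroup G} {z i j k l x₁ x₂ y s : G}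

section

variable (h : Case9aa Q z i j k l x₁ x₂ y s) (ht : Tw 0 z y s)
    (hw : ∀ g, g * z * g⁻¹ ∈ Q → g * z * g⁻¹ = z)
include h ht hw

/-- An involution of `C_G(z)` conjugate to `z`. -/
theorem exists_rep {g : G} (hg : (g * z * g⁻¹) * z = z * (g * z * g⁻¹)) (hne : g * z * g⁻¹ ≠ z) :
    ∃ r ∈ ([288, 576, 592, 864, 880] : List ℕ), ∃ c, c * z = z * c ∧
      c * (g * z * g⁻¹) * c⁻¹ = F z i j k l x₁ x₂ y s r := by
  have hzz := h.large.z_sq
  have hxx : (g * z * g⁻¹) * (g * z * g⁻¹) = 1 := by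
    calc (g * z * g⁻¹) * (g * z * g⁻¹) = g * (z * z) * g⁻¹ := by group
      _ = 1 := by rw [hzz]; group
  have hx1 : g * z * g⁻¹ ≠ 1 := by
    intro he
    apply h.large.z_ne
    calc z = g⁻¹ * (g * z * g⁻¹) * g := by group
      _ = 1 := by rw [he]; group
  obtain ⟨r, hr, c, hc, hc2⟩ := class0 h ht hg hxx hx1
  refine ⟨r, ?_, c, hc, hc2⟩
  have hr' : r = 16 ∨ r = 5 ∨ r ∈ ([288, 576, 592, 864, 880] : List ℕ) := by
    simp only [List.mem_cons, List.not_mem_nil, or_false] at hr ⊢
    tauto
  rcases hr' with rfl | rfl | hr'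
  · exfalso
    apply hne
    rw [F_16] at hc2
    calc g * z * g⁻¹ = c⁻¹ * (c * (g * z * g⁻¹) * c⁻¹) * c := by group
      _ = c⁻¹ * (z * c) := by rw [hc2, mul_assoc]
      _ = z := by rw [← hc]; group
  · exfalso
    apply not_conj_5 h hw
    rw [← hc2]
    exact isConj_iff.2 ⟨c * g, by group⟩
  · exact hr'

/-- Two elements of `C_G(z)` with an element `h'` moving `(z, F r)` to `(s, z)`. -/
theorem s_case (hs : IsConj z s) (hnz : ¬ IsConj z y) : IsConj (i * k) (z * s) := by
  have hnu := not_conj_u h ht hw hnz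
  have hzz := h.large.z_sq
  obtain ⟨g, hg⟩ := isConj_iff.1 hs
  have hsz : s * z = z * s := (zs h).eq
  have hsQ : s ≠ z := by
    intro he
    have h3 : F z i j k l x₁ x₂ y s 576 = F z i j k l x₁ x₂ y s 16 := by rw [F_576, F_16, he]
    have := F_inj h (by norm_num) (by norm_num) h3
    omega
  have e0 : g⁻¹ * z * g⁻¹⁻¹ ≠ z := by
    intro he
    apply hsQ
    rw [← hg]
    calc g * z * g⁻¹ = g * (g⁻¹ * z * g⁻¹⁻¹) * g⁻¹ := by rw [he]
      _ = z := by group
  have e1 : (g⁻¹ * z * g⁻¹⁻¹) * z = z * (g⁻¹ * z * g⁻¹⁻¹) := by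
    rw [← hg] at hsz
    calc (g⁻¹ * z * g⁻¹⁻¹) * z = g⁻¹ * (z * (g * z * g⁻¹)) * g := by group
      _ = g⁻¹ * ((g * z * g⁻¹) * z) * g := by rw [hsz]
      _ = _ := by group
  obtain ⟨r, hr, c, hc, hc2⟩ := exists_rep h ht hw e1 e0
  have hr288 : r ≠ 288 := by
    rintro rfl
    rw [F_288] at hc2
    exact hnz (isConj_iff.2 ⟨c * g⁻¹, by rw [← hc2]; group⟩)
  -- an involution `q ≠ z` of `C_Q(F r)`
  obtain ⟨q, hq32, hqq, hq0, hq16, hqr, hr1⟩ : ∃ q < 32, mm 0 q q = 0 ∧ q ≠ 0 ∧ q ≠ 16 ∧ mm 0 q r = mm 0 r q ∧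
      r < 1152 := by
    simp only [List.mem_cons, List.not_mem_nil, or_false] at hr
    rcases hr with rfl | rfl | rfl | rfl | rfl
    · exact absurd rfl hr288
    · exact ⟨5, by norm_num, by decide +kernel, by norm_num, by norm_num, by decide +kernel, by norm_num⟩
    · exact ⟨5, by norm_num, by decide +kernel, by norm_num, by norm_num, by decide +kernel, by norm_num⟩
    · exact ⟨6, by norm_num, by decide +kernel, by norm_num, by norm_num, by decide +kernel, by norm_num⟩
    · exact ⟨6, by norm_num, by decide +kernel, by norm_num, by norm_num, by decide +kernel, by norm_num⟩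
  -- `b = g c⁻¹` maps `z` to `s` and `F r` to `z`
  set b := g * c⁻¹ with hb
  have hbz : b * z * b⁻¹ = s := by
    have : c⁻¹ * z * c = z := by rw [mul_assoc, ← hc]; group
    calc b * z * b⁻¹ = g * (c⁻¹ * z * c) * g⁻¹ := by rw [hb]; group
      _ = s := by rw [this, hg]
  have hbr : b * F z i j k l x₁ x₂ y s r * b⁻¹ = z := by
    rw [← hc2, hb]; group
  have hconj : ∀ w < 32, mm 0 w w = 0 → w ≠ 0 → w ≠ 16 → IsConj (i * k) (F z i j k l x₁ x₂ y s w) := by
    intro w hw1 hw2 hw3 hw4
    have h1 := isConj_rp h ht (by omega) hw2 hw3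
    have h5 : ∀ w < 32, (mm 0 w w = 0 ∧ w ≠ 0 ∧ w ≠ 16) → rp w = 5 := by decide +kernel
    rw [h5 w hw1 ⟨hw2, hw3, hw4⟩, F_5] at h1
    exact h1.1.symm
  have hqz : mm 0 q 16 < 32 ∧ mm 0 (mm 0 q 16) (mm 0 q 16) = 0 ∧ mm 0 q 16 ≠ 0 ∧ mm 0 q 16 ≠ 16 := by
    have : ∀ q < 32, (mm 0 q q = 0 ∧ q ≠ 0 ∧ q ≠ 16) →
        mm 0 q 16 < 32 ∧ mm 0 (mm 0 q 16) (mm 0 q 16) = 0 ∧ mm 0 q 16 ≠ 0 ∧ mm 0 q 16 ≠ 16 := by decide +kernel
    exact this q hq32 ⟨hqq, hq0, hq16⟩
  -- `a = b q b⁻¹` is an involution of `C_G(z)` commuting with `s`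
  have haz : (b * F z i j k l x₁ x₂ y s q * b⁻¹) * z = z * (b * F z i j k l x₁ x₂ y s q * b⁻¹) := by
    have h1 := (comm_iff h ht (by omega) hr1).2 hqr
    calc (b * F z i j k l x₁ x₂ y s q * b⁻¹) * z
        = (b * F z i j k l x₁ x₂ y s q * b⁻¹) * (b * F z i j k l x₁ x₂ y s r * b⁻¹) := by rw [hbr]
      _ = b * (F z i j k l x₁ x₂ y s q * F z i j k l x₁ x₂ y s r) * b⁻¹ := by group
      _ = b * (F z i j k l x₁ x₂ y s r * F z i j k l x₁ x₂ y s q) * b⁻¹ := by rw [h1]
      _ = (b * F z i j k l x₁ x₂ y s r * b⁻¹) * (b * F z i j k l x₁ x₂ y s q * b⁻¹) := by group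
      _ = _ := by rw [hbr]
  have has : (b * F z i j k l x₁ x₂ y s q * b⁻¹) * s = s * (b * F z i j k l x₁ x₂ y s q * b⁻¹) := by
    have h1 := F_comm h q
    calc (b * F z i j k l x₁ x₂ y s q * b⁻¹) * s
        = (b * F z i j k l x₁ x₂ y s q * b⁻¹) * (b * z * b⁻¹) := by rw [hbz]
      _ = b * (F z i j k l x₁ x₂ y s q * z) * b⁻¹ := by group
      _ = b * (z * F z i j k l x₁ x₂ y s q) * b⁻¹ := by rw [h1]
      _ = (b * z * b⁻¹) * (b * F z i j k l x₁ x₂ y s q * b⁻¹) := by group
      _ = _ := by rw [hbz]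
  have hua : IsConj (i * k) (b * F z i j k l x₁ x₂ y s q * b⁻¹) :=
    (hconj q hq32 hqq hq0 hq16).trans (isConj_iff.2 ⟨b, rfl⟩)
  have huas : IsConj (i * k) (b * F z i j k l x₁ x₂ y s q * b⁻¹ * s) := by
    have h1 := hconj _ hqz.1 hqz.2.1 hqz.2.2.1 hqz.2.2.2
    refine h1.trans (isConj_iff.2 ⟨b, ?_⟩)
    rw [F_mul h ht (by omega) (by norm_num), F_16, ← hbz]
    group
  have hnotz : ∀ x, IsConj (i * k) x → ¬ IsConj z x := by
    intro x hx hx2
    apply not_conj_5 h hw
    rw [F_5]
    exact hx2.trans hx.symm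
  obtain ⟨m, hm, hma⟩ := exists_code h haz
  rw [← hma] at haz has hua huas
  clear hma
  have hmm : mm 0 m m = 0 := by
    rw [← sq_iff h ht hm]
    obtain ⟨c', hc'⟩ := isConj_iff.1 hua
    have h1 : (i * k) * (i * k) = 1 := by
      rw [← F_5 (z := z) (i := i) (j := j) (k := k) (l := l) (x₁ := x₁) (x₂ := x₂) (y := y) (s := s),
        sq_iff h ht (by norm_num)]
      decide +kernel
    rw [← hc']
    calc c' * (i * k) * c'⁻¹ * (c' * (i * k) * c'⁻¹) = c' * ((i * k) * (i * k)) * c'⁻¹ := by group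
      _ = 1 := by rw [h1]; group
  have hm0 : m ≠ 0 := by
    rintro rfl
    rw [F_0] at huas
    rw [one_mul] at huas
    exact hnotz _ huas hs
  have hm16 : m ≠ 16 := by
    rintro rfl
    rw [F_16] at hua
    exact hnotz _ hua (IsConj.refl z)
  have hm576 : m ≠ 576 := by
    rintro rfl
    rw [F_576] at hua
    exact hnotz _ hua hs
  have hmc : mm 0 m 576 = mm 0 576 m := by
    rw [← comm_iff h ht hm (by norm_num), F_576]; exact has
  have hm' := mm_lt (t := 0) hm (show 576 < 1152 by norm_num)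
  have hFm' : F z i j k l x₁ x₂ y s (mm 0 m 576) = F z i j k l x₁ x₂ y s m * s := by
    rw [F_mul h ht hm (by norm_num), F_576]
  have hs1 : s * s = 1 := by simpa using ht.ss
  have hmm' : mm 0 (mm 0 m 576) (mm 0 m 576) = 0 := by
    rw [← sq_iff h ht hm', hFm']
    have h1 := (sq_iff h ht hm).2 hmm
    calc F z i j k l x₁ x₂ y s m * s * (F z i j k l x₁ x₂ y s m * s)
        = F z i j k l x₁ x₂ y s m * (s * F z i j k l x₁ x₂ y s m) * s := by group
      _ = (F z i j k l x₁ x₂ y s m * F z i j k l x₁ x₂ y s m) * (s * s) := by rw [← has]; group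
      _ = 1 := by rw [h1, hs1, one_mul]
  have hm'0 : mm 0 m 576 ≠ 0 := by
    intro he
    have h1 := hFm'
    rw [he, F_0] at h1
    rw [← h1] at huas
    have h2 : F z i j k l x₁ x₂ y s m = s := by
      calc F z i j k l x₁ x₂ y s m = F z i j k l x₁ x₂ y s m * s * s := by rw [mul_assoc, hs1, mul_one]
        _ = s := by rw [← h1, one_mul]
    rw [h2] at hua
    exact hnotz _ hua hs
  rw [← hFm'] at huas
  have fin : ∀ w < 1152, mm 0 w w = 0 → w ≠ 0 → IsConj (i * k) (F z i j k l x₁ x₂ y s w) →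
      rp w ∈ ([16, 288, 576, 592] : List ℕ) → IsConj (i * k) (z * s) := by
    intro w hw1 hw2 hw3 hw4 hw5
    have h1 := (isConj_rp h ht hw1 hw2 hw3).1
    simp only [List.mem_cons, List.not_mem_nil, or_false] at hw5
    rcases hw5 with h2 | h2 | h2 | h2
    · rw [h2, F_16] at h1
      exact absurd h1.symm (hnotz _ hw4)
    · rw [h2, F_288] at h1
      exact absurd (hw4.trans h1).symm hnu
    · rw [h2, F_576] at h1
      exact absurd (hs.trans h1.symm) (hnotz _ hw4)
    · rw [h2, F_592] at h1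
      exact hw4.trans h1
  rcases dec_s m hm ⟨hmm, hmc, hm0, hm16, hm576⟩ with h1 | h1
  · exact fin m hm hmm hm0 hua h1
  · exact fin _ hm' hmm' hm'0 huas h1

/-- `s ~ z` implies `y ~ z` -/
theorem y_of_s (hG : ∀ H : Subgroup G, H.index ≠ 2) (hs : IsConj z s) : IsConj z y := by
  by_contra hnz
  have hnu := not_conj_u h ht hw hnz
  have hsz := s_case h ht hw hs hnz
  have hyz : y * z = z * y := (zy h).eq
  have hyy : y * y = 1 := by simpa using ht.yy
  have hyN : y ∉ kerN h fy rfl fy_mul fy_lt := by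
    have := mem_kerN_iff h (f := fy) rfl fy_mul fy_lt (m := 288) (by norm_num)
    rw [F_288] at this
    rw [this]; decide
  have h2 := relIndex_kerN h (f := fy) rfl fy_mul fy_lt hyz hyN
  have hle := kerN_le h (f := fy) rfl fy_mul fy_lt
  have hodd := TwoCentral.odd_index h.large
  have hidx : (kerN h fy rfl fy_mul fy_lt).index = 2 * (Subgroup.centralizer ({z} : Set G)).index := by
    rw [← Subgroup.relIndex_mul_index hle, h2]
  obtain ⟨f, hf⟩ := Cfsg.Agent.Transfer.ThompsonTransfer.exists_hom_eq_neg_one _ hidx hodd y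
    (by rw [pow_two]; exact hyy) (by
      rintro g ⟨m, hm, hm2, hm3⟩
      have hmm : mm 0 m m = 0 := by
        rw [← sq_iff h ht hm, hm3]
        calc g * y * g⁻¹ * (g * y * g⁻¹) = g * (y * y) * g⁻¹ := by group
          _ = 1 := by rw [hyy]; group
      have hm0 : m ≠ 0 := by
        rintro rfl
        rw [F_0] at hm3
        have hy1 : y = 1 := by
          calc y = g⁻¹ * (g * y * g⁻¹) * g := by group
            _ = 1 := by rw [← hm3]; group
        have h3 : F z i j k l x₁ x₂ y s 288 = F z i j k l x₁ x₂ y s 0 := by rw [F_288, F_0, hy1]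
        have := F_inj h (by norm_num) (by norm_num) h3
        omega
      have h1 := (isConj_rp h ht hm hmm hm0).1
      have h3 := dec_N m hm ⟨hmm, hm2, hm0⟩
      have hym : IsConj y (F z i j k l x₁ x₂ y s m) := isConj_iff.2 ⟨g, hm3.symm⟩
      simp only [List.mem_cons, List.not_mem_nil, or_false] at h3
      rcases h3 with h3 | h3 | h3 | h3
      · rw [h3, F_16] at h1
        exact hnz (hym.trans h1).symm
      · rw [h3, F_5] at h1
        exact hnu (hym.trans h1)
      · rw [h3, F_576] at h1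
        exact hnz (hs.trans (hym.trans h1).symm)
      · rw [h3, F_592] at h1
        exact hnu ((hym.trans h1).trans hsz.symm))
  obtain ⟨M, -, hM, -⟩ := Cfsg.Agent.Transfer.ThompsonTransfer.exists_normal_index_two f y hf
  exact hG M hM

end

/-- **`y` is conjugate to `z`.** -/
theorem conj_y (h : Case9aa Q z i j k l x₁ x₂ y s) (ht : Tw 0 z y s) [IsSimpleGroup G]
    (hG : ∀ H : Subgroup G, H.index ≠ 2)
    (hw : ∀ g, g * z * g⁻¹ ∈ Q → g * z * g⁻¹ = z) : IsConj z y := by
  by_contra hnz
  apply Cfsg.Agent.J2Type.SimpleRed.not_isolated z ⟨Base.orderOf_z h.large, ?_⟩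
  · refine ⟨j, i, ?_⟩
    rw [h.ji]
    intro h1
    exact h.large.z_ne (by simpa using h1)
  intro g hg
  by_contra hne
  have hyy : y * y = 1 := by simpa using ht.yy
  have hss : s * s = 1 := by simpa using ht.ss
  have hsy : s * y = y * s := by
    have h1 : s * y * s⁻¹ = y := by simpa using ht.sy
    calc s * y = s * y * s⁻¹ * s := by group
      _ = y * s := by rw [h1]
  have hzz := h.large.z_sq
  have hyz : y * z = z * y := (zy h).eq
  have hsz : s * z = z * s := (zs h).eq
  obtain ⟨r, hr, c, hc, hc2⟩ := exists_rep h ht hw (g := g) (by exact hg.eq.symm) hne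
  have hcr : IsConj z (F z i j k l x₁ x₂ y s r) := isConj_iff.2 ⟨c * g, by rw [← hc2]; group⟩
  -- the sign change
  have tws : ∀ {Q' : Subgroup G} {k' l' x' s' : G}, Case9aa Q' z i j k' l' x₁ x' y s' → s' * s' = 1 →
      s' * y = y * s' → s' * z = z * s' → Q' = Q → IsConj z (z * s') → False := by
    intro Q' k' l' x' s' h' h1 h2 h3 hQ h4
    subst hQ
    apply hnz
    refine y_of_s (sign_s h') (tw_zero hyy ?_ ?_) hw hG ?_
    · calc s' * z * (s' * z) = s' * (z * s') * z := by group
        _ = (s' * s') * (z * z) := by rw [← h3]; group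
        _ = 1 := by rw [h1, hzz, one_mul]
    · calc s' * z * y = s' * (z * y) := by group
        _ = s' * y * z := by rw [← hyz]; group
        _ = y * (s' * z) := by rw [h2]; group
    · rw [h3]; exact h4
  have hys1 : y * s * (y * s) = 1 := by
    calc y * s * (y * s) = y * (s * y) * s := by group
      _ = (y * y) * (s * s) := by rw [hsy]; group
      _ = 1 := by rw [hyy, hss, one_mul]
  have hys2 : y * s * y = y * (y * s) := by rw [mul_assoc, hsy]
  have hys3 : y * s * z = z * (y * s) := by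
    rw [mul_assoc, hsz, ← mul_assoc, hyz, mul_assoc]
  simp only [List.mem_cons, List.not_mem_nil, or_false] at hr
  rcases hr with rfl | rfl | rfl | rfl | rfl
  · rw [F_288] at hcr; exact hnz hcr
  · rw [F_576] at hcr; exact hnz (y_of_s h ht hw hG hcr)
  · rw [F_592] at hcr; exact tws h hss hsy hsz rfl hcr
  · rw [F_864] at hcr
    exact hnz (y_of_s (swap h) (tw_zero hyy hys1 hys2) hw hG hcr)
  · rw [F_880] at hcr
    exact tws (swap h) hys1 hys2 hys3 rfl hcr

end

end Cfsg.Agent.LargeExtra.W2.LFour.Fusion
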