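import Cfsg.Agent.LargeExtra.W2.LFour.FusionB

/-!
# S1759, case `9aa`, case I: fusion, part C: the structure `Fus` (helper221)
-/

set_option autoImplicit false

namespace Cfsg.Agent.LargeExtra.W2.LFour.Fusion

open Cfsg.Agent.LargeExtra.W2 Cfsg.Agent.SmallExtra438.ModelA Cfsg.Agent.SmallExtra438.FrameA
open Cfsg.Agent.SmallExtra438.ClassA Cfsg.Agent.LargeExtra.W2.LFour.TwistK
open Cfsg.Agent.SmallExtra438.TwistA (cmul swap)

/-- Non-commuting pairs in `C_G(z) ∩ C_G(F r)`. -/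
theorem dec_pair : ∀ r ∈ ([576, 592, 864, 880] : List ℕ), ∃ p ∈ ([(5, 128), (6, 160)] : List (ℕ × ℕ)),
    p.1 < 1152 ∧ p.2 < 1152 ∧ mm 0 p.1 r = mm 0 r p.1 ∧ mm 0 p.2 r = mm 0 r p.2 ∧
      mm 0 p.1 p.2 ≠ mm 0 p.2 p.1 := by decide +kernel

/-- the classes of `e, y e, z e, z y e` for `e ∈ E ∖ (E ∩ Q ⟨y⟩)` -/
theorem dec_types : ∀ m ∈ listE, (m ≠ 0 ∧ m ≠ 15 ∧ m ≠ 16 ∧ m ≠ 31 ∧ rp m ≠ 288) →
    ∃ a ∈ ([576, 592] : List ℕ), ∃ b ∈ ([864, 880] : List ℕ),
      ((rp m = a ∧ rp (mm 0 m 288) = b) ∨ (rp m = b ∧ rp (mm 0 m 288) = a)) ∧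
      ((rp (mm 0 m 16) = a ^^^ 16 ∧ rp (mm 0 (mm 0 m 288) 16) = b ^^^ 16) ∨
        (rp (mm 0 m 16) = b ^^^ 16 ∧ rp (mm 0 (mm 0 m 288) 16) = a ^^^ 16)) := by decide +kernel

theorem dec_pick : ∀ m ∈ listE, (m ≠ 0 ∧ m ≠ 15 ∧ m ≠ 16 ∧ m ≠ 31 ∧ rp m ≠ 288) →
    rp m = 592 ∨ rp m = 880 ∨ rp (mm 0 m 288) = 592 ∨ rp (mm 0 m 288) = 880 ∨ m = 576 ∨ m = 864 := by
  decide +kernel

theorem listE_mul : ∀ m ∈ listE, ∀ n ∈ listE, mm 0 m n ∈ listE := by decide +kernel
theorem listE_ne : ∀ m ∈ listE, (m ≠ 0 ∧ m ≠ 15 ∧ m ≠ 16 ∧ m ≠ 31 ∧ rp m ≠ 288) →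
    mm 0 m 288 ≠ 0 ∧ mm 0 m 16 ≠ 0 ∧ mm 0 (mm 0 m 288) 16 ≠ 0 := by decide +kernel
theorem dec_yQ : ∀ m ∈ listE, (m = 15 ∨ m = 31) → mm 0 m 288 ≠ 0 ∧ rp (mm 0 m 288) = 288 := by decide +kernel
theorem dec_dyz : rp (mm 0 15 288) = 288 ∧ rp (mm 0 (mm 0 15 288) 16) = 288 ∧ rp (mm 0 288 16) = 288 := by
  decide +kernel

section

variable {G : Type*} [Group G] [Finite G] {Q : Subgroup G} {z i j k l x₁ x₂ y s : G}

section

variable (h : Case9aa Q z i j k l x₁ x₂ y s) (ht : Tw 0 z y s)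
    (hw : ∀ g, g * z * g⁻¹ ∈ Q → g * z * g⁻¹ = z)
include h ht hw

/-- There is an element exchanging `z` and `y`. -/
theorem exists_tau (hy : IsConj z y) : ∃ τ : G, τ * z * τ⁻¹ = y ∧ τ * y * τ⁻¹ = z := by
  obtain ⟨g, hg⟩ := isConj_iff.1 hy
  have hyz : y * z = z * y := (zy h).eq
  have hyne : y ≠ z := by
    intro he
    have h3 : F z i j k l x₁ x₂ y s 288 = F z i j k l x₁ x₂ y s 16 := by rw [F_288, F_16, he]
    have := F_inj h (by norm_num) (by norm_num) h3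
    omega
  have e0 : g⁻¹ * z * g⁻¹⁻¹ ≠ z := by
    intro he
    apply hyne
    rw [← hg]
    calc g * z * g⁻¹ = g * (g⁻¹ * z * g⁻¹⁻¹) * g⁻¹ := by rw [he]
      _ = z := by group
  have e1 : (g⁻¹ * z * g⁻¹⁻¹) * z = z * (g⁻¹ * z * g⁻¹⁻¹) := by
    rw [← hg] at hyz
    calc (g⁻¹ * z * g⁻¹⁻¹) * z = g⁻¹ * (z * (g * z * g⁻¹)) * g := by group
      _ = g⁻¹ * ((g * z * g⁻¹) * z) * g := by rw [hyz]
      _ = _ := by group
  obtain ⟨r, hr, c, hc, hc2⟩ := exists_rep h ht hw e1 e0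
  set b := g * c⁻¹ with hb
  have hbz : b * z * b⁻¹ = y := by
    have : c⁻¹ * z * c = z := by rw [mul_assoc, ← hc]; group
    calc b * z * b⁻¹ = g * (c⁻¹ * z * c) * g⁻¹ := by rw [hb]; group
      _ = y := by rw [this, hg]
  have hbr : b * F z i j k l x₁ x₂ y s r * b⁻¹ = z := by
    rw [← hc2, hb]; group
  by_cases hr288 : r = 288
  · subst hr288
    rw [F_288] at hbr
    exact ⟨b, hbz, hbr⟩
  exfalso
  have hr' : r ∈ ([576, 592, 864, 880] : List ℕ) := by
    simp only [List.mem_cons, List.not_mem_nil, or_false] at hr ⊢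
    tauto
  have hr1 : r < 1152 := by
    have : ∀ r ∈ ([576, 592, 864, 880] : List ℕ), r < 1152 := by decide
    exact this r hr'
  obtain ⟨⟨p, q⟩, -, hp, hq, hpr, hqr, hpq⟩ := dec_pair r hr'
  apply hpq
  change p < 1152 at hp
  change q < 1152 at hq
  have key : ∀ m < 1152, mm 0 m r = mm 0 r m →
      (b * F z i j k l x₁ x₂ y s m * b⁻¹) * z = z * (b * F z i j k l x₁ x₂ y s m * b⁻¹) ∧
      (b * F z i j k l x₁ x₂ y s m * b⁻¹) * y = y * (b * F z i j k l x₁ x₂ y s m * b⁻¹) := by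
    intro m hm hmr
    have h1 := (comm_iff h ht hm hr1).2 hmr
    have h2 := F_comm h m
    generalize F z i j k l x₁ x₂ y s m = M at h1 h2 ⊢
    constructor
    · calc (b * M * b⁻¹) * z = (b * M * b⁻¹) * (b * F z i j k l x₁ x₂ y s r * b⁻¹) := by rw [hbr]
        _ = b * (M * F z i j k l x₁ x₂ y s r) * b⁻¹ := by group
        _ = b * (F z i j k l x₁ x₂ y s r * M) * b⁻¹ := by rw [h1]
        _ = (b * F z i j k l x₁ x₂ y s r * b⁻¹) * (b * M * b⁻¹) := by group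
        _ = _ := by rw [hbr]
    · calc (b * M * b⁻¹) * y = (b * M * b⁻¹) * (b * z * b⁻¹) := by rw [hbz]
        _ = b * (M * z) * b⁻¹ := by group
        _ = b * (z * M) * b⁻¹ := by rw [h2]
        _ = (b * z * b⁻¹) * (b * M * b⁻¹) := by group
        _ = _ := by rw [hbz]
  obtain ⟨p1, p2⟩ := key p hp hpr
  obtain ⟨q1, q2⟩ := key q hq hqr
  have h3 := E_comm h ht p1 p2 q1 q2
  change mm 0 p q = mm 0 q p
  rw [← comm_iff h ht hp hq]
  generalize F z i j k l x₁ x₂ y s p = P at h3 ⊢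
  generalize F z i j k l x₁ x₂ y s q = R at h3 ⊢
  calc P * R = b⁻¹ * ((b * P * b⁻¹) * (b * R * b⁻¹)) * b := by group
    _ = b⁻¹ * ((b * R * b⁻¹) * (b * P * b⁻¹)) * b := by rw [h3]
    _ = _ := by group

omit hw in
theorem E_z : z * y = y * z ∧ (i * j * k * l) * z = z * (i * j * k * l) ∧
    (i * j * k * l) * y = y * (i * j * k * l) ∧ s * z = z * s ∧ s * y = y * s := by
  refine ⟨(zy h).eq.symm, ?_, ?_, (zs h).eq, ?_⟩
  · have := F_comm h 15; rwa [F_15] at this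
  · have := (comm_iff h ht (m := 15) (n := 288) (by norm_num) (by norm_num)).2 (by decide +kernel)
    rwa [F_15, F_288] at this
  · have := (comm_iff h ht (m := 576) (n := 288) (by norm_num) (by norm_num)).2 (by decide +kernel)
    rwa [F_576, F_288] at this

/-- The image of `d = i j k l` under `τ`. -/
theorem tau_d (hy : IsConj z y) {τ : G} (h1 : τ * z * τ⁻¹ = y) (h2 : τ * y * τ⁻¹ = z) :
    ∃ m ∈ listE, F z i j k l x₁ x₂ y s m = τ * (i * j * k * l) * τ⁻¹ ∧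
      (m ≠ 0 ∧ m ≠ 15 ∧ m ≠ 16 ∧ m ≠ 31 ∧ rp m ≠ 288) ∧
      ¬ IsConj z (F z i j k l x₁ x₂ y s m) ∧ ¬ IsConj z (F z i j k l x₁ x₂ y s (mm 0 m 288)) ∧
      IsConj z (F z i j k l x₁ x₂ y s (mm 0 m 16)) ∧
      IsConj z (F z i j k l x₁ x₂ y s (mm 0 (mm 0 m 288) 16)) := by
  obtain ⟨c1, c2, c3, c4, c5⟩ := E_z h ht
  set d := i * j * k * l with hd
  have hz : (τ * d * τ⁻¹) * z = z * (τ * d * τ⁻¹) := by
    calc (τ * d * τ⁻¹) * z = (τ * d * τ⁻¹) * (τ * y * τ⁻¹) := by rw [h2]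
      _ = τ * (d * y) * τ⁻¹ := by group
      _ = τ * (y * d) * τ⁻¹ := by rw [c3]
      _ = (τ * y * τ⁻¹) * (τ * d * τ⁻¹) := by group
      _ = _ := by rw [h2]
  have hyc : (τ * d * τ⁻¹) * y = y * (τ * d * τ⁻¹) := by
    calc (τ * d * τ⁻¹) * y = (τ * d * τ⁻¹) * (τ * z * τ⁻¹) := by rw [h1]
      _ = τ * (d * z) * τ⁻¹ := by group
      _ = τ * (z * d) * τ⁻¹ := by rw [c2]
      _ = (τ * z * τ⁻¹) * (τ * d * τ⁻¹) := by group
      _ = _ := by rw [h1]
  obtain ⟨m, hm, hmd⟩ := exists_code_E h ht hz hyc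
  have hm1 := listE_lt m hm
  -- `d`, `d z` are not conjugate to `z`, `d y`, `d y z` are
  have f15 : F z i j k l x₁ x₂ y s 15 = d := F_15
  have hQd : ¬ IsConj z d := by
    intro hc
    have h3 := eq_of_conj hw ((mem_Q_iff h (m := 15) (by norm_num)).2 (by norm_num)) (f15 ▸ hc)
    have h4 := F_inj h (m := 15) (n := 16) (by norm_num) (by norm_num) (by rw [h3, F_16])
    omega
  have hQdz : ¬ IsConj z (d * z) := by
    intro hc
    have e : F z i j k l x₁ x₂ y s 31 = d * z := by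
      rw [show (31 : ℕ) = mm 0 15 16 by decide +kernel, F_mul h ht (by norm_num) (by norm_num), F_15, F_16]
    have h3 := eq_of_conj hw ((mem_Q_iff h (m := 31) (by norm_num)).2 (by norm_num)) (e ▸ hc)
    have h4 := F_inj h (m := 31) (n := 16) (by norm_num) (by norm_num) (by rw [h3, F_16])
    omega
  have hyQ : ∀ w ∈ listE, w ≠ 0 → rp w = 288 → IsConj z (F z i j k l x₁ x₂ y s w) := by
    intro w hw1 hw0 hw2
    have hw3 := listE_lt w hw1
    have hww : mm 0 w w = 0 := by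
      have : ∀ w ∈ listE, mm 0 w w = 0 := by decide +kernel
      exact this w hw1
    have h3 := (isConj_rp h ht hw3 hww hw0).1
    rw [hw2, F_288] at h3
    exact hy.trans h3.symm
  have l288 : 288 ∈ listE := by decide
  have l16 : 16 ∈ listE := by decide
  have l15 : 15 ∈ listE := by decide
  have hdy : IsConj z (d * y) := by
    have := hyQ _ (listE_mul 15 l15 288 l288) (by decide +kernel) dec_dyz.1
    rwa [F_mul h ht (by norm_num) (by norm_num), F_15, F_288] at this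
  have hdyz : IsConj z (d * y * z) := by
    have := hyQ _ (listE_mul _ (listE_mul 15 l15 288 l288) 16 l16) (by decide +kernel) dec_dyz.2.1
    rwa [F_mul h ht (listE_lt _ (listE_mul 15 l15 288 l288)) (by norm_num),
      F_mul h ht (by norm_num) (by norm_num), F_15, F_288, F_16] at this
  have g1 : ¬ IsConj z (F z i j k l x₁ x₂ y s m) := by
    rw [hmd]
    exact fun hc => hQd (hc.trans (isConj_iff.2 ⟨τ, rfl⟩ : IsConj d (τ * d * τ⁻¹)).symm)
  have hFy : F z i j k l x₁ x₂ y s (mm 0 m 288) = τ * (d * z) * τ⁻¹ := by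
    rw [F_mul h ht hm1 (by norm_num), hmd, F_288]
    calc τ * d * τ⁻¹ * y = τ * d * τ⁻¹ * (τ * z * τ⁻¹) := by rw [h1]
      _ = _ := by group
  have g2 : ¬ IsConj z (F z i j k l x₁ x₂ y s (mm 0 m 288)) := by
    rw [hFy]
    exact fun hc => hQdz (hc.trans (isConj_iff.2 ⟨τ, rfl⟩ : IsConj (d * z) (τ * (d * z) * τ⁻¹)).symm)
  have g3 : IsConj z (F z i j k l x₁ x₂ y s (mm 0 m 16)) := by
    have e : F z i j k l x₁ x₂ y s (mm 0 m 16) = τ * (d * y) * τ⁻¹ := by
      rw [F_mul h ht hm1 (by norm_num), hmd, F_16]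
      calc τ * d * τ⁻¹ * z = τ * d * τ⁻¹ * (τ * y * τ⁻¹) := by rw [h2]
        _ = _ := by group
    rw [e]
    exact hdy.trans (isConj_iff.2 ⟨τ, rfl⟩)
  have g4 : IsConj z (F z i j k l x₁ x₂ y s (mm 0 (mm 0 m 288) 16)) := by
    have e : F z i j k l x₁ x₂ y s (mm 0 (mm 0 m 288) 16) = τ * (d * y * z) * τ⁻¹ := by
      rw [F_mul h ht (mm_lt hm1 (by norm_num)) (by norm_num), hFy, F_16]
      calc τ * (d * z) * τ⁻¹ * z = τ * (d * z) * τ⁻¹ * (τ * y * τ⁻¹) := by rw [h2]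
        _ = τ * (d * (z * y)) * τ⁻¹ := by group
        _ = τ * (d * (y * z)) * τ⁻¹ := by rw [c1]
        _ = _ := by group
    rw [e]
    exact hdyz.trans (isConj_iff.2 ⟨τ, rfl⟩)
  refine ⟨m, hm, hmd, ⟨?_, ?_, ?_, ?_, ?_⟩, g1, g2, g3, g4⟩
  · rintro rfl
    apply g2
    have h3 : mm 0 0 288 = 288 := by decide +kernel
    rw [h3, F_288]; exact hy
  · rintro rfl
    have h3 := dec_yQ 15 l15 (Or.inl rfl)
    exact g2 (hyQ _ (listE_mul 15 l15 288 l288) h3.1 h3.2)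
  · rintro rfl
    apply g1
    rw [F_16]
  · rintro rfl
    have h3 := dec_yQ 31 hm (Or.inr rfl)
    exact g2 (hyQ _ (listE_mul 31 hm 288 l288) h3.1 h3.2)
  · intro h3
    have h0 : m ≠ 0 := by rintro rfl; revert h3; decide +kernel
    exact g1 (hyQ m hm h0 h3)

/-- The types of `s, z s, y s, z y s`. -/
theorem types (hy : IsConj z y) : ∃ a ∈ ([576, 592] : List ℕ), ∃ b ∈ ([864, 880] : List ℕ),
    ¬ IsConj z (F z i j k l x₁ x₂ y s a) ∧ ¬ IsConj z (F z i j k l x₁ x₂ y s b) ∧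
    IsConj z (F z i j k l x₁ x₂ y s (a ^^^ 16)) ∧ IsConj z (F z i j k l x₁ x₂ y s (b ^^^ 16)) := by
  obtain ⟨τ, h1, h2⟩ := exists_tau h ht hw hy
  obtain ⟨m, hm, -, hne, g1, g2, g3, g4⟩ := tau_d h ht hw hy h1 h2
  have hm1 := listE_lt m hm
  have l288 : 288 ∈ listE := by decide
  have l16 : 16 ∈ listE := by decide
  have hmm : ∀ w ∈ listE, mm 0 w w = 0 := by decide +kernel
  obtain ⟨n1, n2, n3⟩ := listE_ne m hm hne
  have i1 := listE_mul m hm 288 l288
  have i2 := listE_mul m hm 16 l16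
  have i3 := listE_mul _ i1 16 l16
  have e1 := (isConj_rp h ht hm1 (hmm m hm) hne.1).1
  have e2 := (isConj_rp h ht (listE_lt _ i1) (hmm _ i1) n1).1
  have e3 := (isConj_rp h ht (listE_lt _ i2) (hmm _ i2) n2).1
  have e4 := (isConj_rp h ht (listE_lt _ i3) (hmm _ i3) n3).1
  have a1 : ¬ IsConj z (F z i j k l x₁ x₂ y s (rp m)) := fun hc => g1 (hc.trans e1.symm)
  have a2 : ¬ IsConj z (F z i j k l x₁ x₂ y s (rp (mm 0 m 288))) := fun hc => g2 (hc.trans e2.symm)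
  have a3 := g3.trans e3
  have a4 := g4.trans e4
  obtain ⟨a, ha, b, hb, h3, h4⟩ := dec_types m hm hne
  refine ⟨a, ha, b, hb, ?_⟩
  rcases h3 with ⟨h3, h5⟩ | ⟨h3, h5⟩ <;> rcases h4 with ⟨h4, h6⟩ | ⟨h4, h6⟩ <;>
    rw [h3] at a1 <;> rw [h5] at a2 <;> rw [h4] at a3 <;> rw [h6] at a4
  · exact ⟨a1, a2, a3, a4⟩
  · exact ⟨a1, a2, a4, a3⟩
  · exact ⟨a2, a1, a3, a4⟩
  · exact ⟨a2, a1, a4, a3⟩

/-- The structure `Fus` if the signs of `y` and `s` are right. -/
theorem exists_theta (hy : IsConj z y) (hs : ¬ IsConj z s) (hys : ¬ IsConj z (y * s)) :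
    ∃ θ, Fus Q z i j k l x₁ x₂ y s θ := by
  have hzz := h.large.z_sq
  have hyy : y * y = 1 := by simpa using ht.yy
  have hss : s * s = 1 := by simpa using ht.ss
  obtain ⟨c1, c2, c3, c4, c5⟩ := E_z h ht
  obtain ⟨τ, h1, h2⟩ := exists_tau h ht hw hy
  obtain ⟨m, hm, hmd, hne, g1, g2, g3, g4⟩ := tau_d h ht hw hy h1 h2
  obtain ⟨a, ha, b, hb, t1, t2, t3, t4⟩ := types h ht hw hy
  have hm1 := listE_lt m hm
  have hmm : ∀ w ∈ listE, mm 0 w w = 0 := by decide +kernel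
  have l288 : 288 ∈ listE := by decide
  obtain ⟨n1, -, -⟩ := listE_ne m hm hne
  have i1 := listE_mul m hm 288 l288
  -- `z s ~ z`, `z y s ~ z`
  have u1 : IsConj z (F z i j k l x₁ x₂ y s 592) := by
    simp only [List.mem_cons, List.not_mem_nil, or_false] at ha
    rcases ha with rfl | rfl
    · exact t3
    · exfalso; apply hs
      have : (592 ^^^ 16 : ℕ) = 576 := by decide
      rwa [this, F_576] at t3
  have u2 : IsConj z (F z i j k l x₁ x₂ y s 880) := by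
    simp only [List.mem_cons, List.not_mem_nil, or_false] at hb
    rcases hb with rfl | rfl
    · exact t4
    · exfalso; apply hys
      have : (880 ^^^ 16 : ℕ) = 864 := by decide
      rwa [this, F_864] at t4
  have hm' : m = 576 ∨ m = 864 := by
    have e1 := (isConj_rp h ht hm1 (hmm m hm) hne.1).1
    have e2 := (isConj_rp h ht (listE_lt _ i1) (hmm _ i1) n1).1
    rcases dec_pick m hm hne with h3 | h3 | h3 | h3 | h3 | h3
    · rw [h3] at e1; exact absurd (u1.trans e1.symm) g1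
    · rw [h3] at e1; exact absurd (u2.trans e1.symm) g1
    · rw [h3] at e2; exact absurd (u1.trans e2.symm) g2
    · rw [h3] at e2; exact absurd (u2.trans e2.symm) g2
    · exact Or.inl h3
    · exact Or.inr h3
  -- `n = k l`
  have n0 : (k * l) * z * (k * l)⁻¹ = z := by
    have := F_comm h 12; rw [F_12] at this; rw [this]; group
  have n1 : (k * l) * y * (k * l)⁻¹ = y * z := by
    have := (conj_eq_iff h ht (c := 12) (m := 288) (n := 304) (by norm_num) (by norm_num) (by norm_num)).2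
      (by decide +kernel)
    rw [show (304 : ℕ) = mm 0 288 16 by decide +kernel, F_mul h ht (by norm_num) (by norm_num), F_12, F_288,
      F_16] at this
    exact this
  have n2 : (k * l) * (i * j * k * l) * (k * l)⁻¹ = i * j * k * l := by
    have := (conj_eq_iff h ht (c := 12) (m := 15) (n := 15) (by norm_num) (by norm_num) (by norm_num)).2
      (by decide +kernel)
    rw [F_12, F_15] at this
    exact this
  have n3 : (k * l) * s * (k * l)⁻¹ = s * (i * j * k * l) * z := by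
    have := (conj_eq_iff h ht (c := 12) (m := 576) (n := 607) (by norm_num) (by norm_num) (by norm_num)).2
      (by decide +kernel)
    rw [show (607 : ℕ) = mm 0 (mm 0 576 15) 16 by decide +kernel, F_mul h ht (by decide +kernel) (by norm_num),
      F_mul h ht (by norm_num) (by norm_num), F_12, F_576, F_15, F_16] at this
    exact this
  have hsd : s * (i * j * k * l) = i * j * k * l * s := by
    have := (comm_iff h ht (m := 576) (n := 15) (by norm_num) (by norm_num)).2 (by decide +kernel)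
    rwa [F_576, F_15] at this
  have hdd : (i * j * k * l) * (i * j * k * l) = 1 := by
    have := (sq_iff h ht (m := 15) (by norm_num)).2 (by decide +kernel)
    rwa [F_15] at this
  have hQd : ¬ IsConj z (i * j * k * l) := by
    intro hc
    have f15 : F z i j k l x₁ x₂ y s 15 = i * j * k * l := F_15
    have h3 := eq_of_conj hw ((mem_Q_iff h (m := 15) (by norm_num)).2 (by norm_num)) (f15 ▸ hc)
    have h4 := F_inj h (m := 15) (n := 16) (by norm_num) (by norm_num) (by rw [h3, F_16])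
    omega
  set d := i * j * k * l with hd
  set n := k * l with hn
  -- `τ² ∈ E`
  have τ2 : τ * (τ * d * τ⁻¹) * τ⁻¹ = d := by
    have e1 : (τ * τ) * z = z * (τ * τ) := by
      calc (τ * τ) * z = τ * (τ * z * τ⁻¹) * τ⁻¹ * (τ * τ) := by group
        _ = _ := by rw [h1, h2]
    have e2 : (τ * τ) * y = y * (τ * τ) := by
      calc (τ * τ) * y = τ * (τ * y * τ⁻¹) * τ⁻¹ * (τ * τ) := by group
        _ = _ := by rw [h2, h1]
    have e3 := E_comm h ht e1 e2 c2 c3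
    calc τ * (τ * d * τ⁻¹) * τ⁻¹ = ((τ * τ) * d) * (τ * τ)⁻¹ := by group
      _ = d := by rw [e3]; group
  -- `θ₀ = τ n`
  have key : ∀ a b : G, (τ * n) * a * (τ * n)⁻¹ = τ * (n * a * n⁻¹) * τ⁻¹ := fun a b => by group
  have kk : ∀ a b : G, τ * (a * b) * τ⁻¹ = (τ * a * τ⁻¹) * (τ * b * τ⁻¹) := fun a b => by group
  obtain ⟨θ₀, hθ⟩ : ∃ θ₀, θ₀ = τ * n := ⟨_, rfl⟩
  have θz : θ₀ * z * θ₀⁻¹ = y := by rw [hθ, key z z, n0, h1]
  have θy : θ₀ * y * θ₀⁻¹ = z * y := by rw [hθ, key y z, n1, kk, h2, h1]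
  have θd : θ₀ * d * θ₀⁻¹ = τ * d * τ⁻¹ := by rw [hθ, key d z, n2]
  have θs : θ₀ * s * θ₀⁻¹ = (τ * s * τ⁻¹) * (τ * d * τ⁻¹) * y := by rw [hθ, key s z, n3, kk, kk, h1]
  have km : ∀ a b : G, θ₀ * (a * b) * θ₀⁻¹ = (θ₀ * a * θ₀⁻¹) * (θ₀ * b * θ₀⁻¹) := fun a b => by group
  have k3 : ∀ a : G, θ₀ ^ 3 * a = (θ₀ * (θ₀ * (θ₀ * a * θ₀⁻¹) * θ₀⁻¹) * θ₀⁻¹) * θ₀ ^ 3 := fun a => by
    simp only [pow_succ, pow_zero, one_mul]; group
  have θ3z : θ₀ ^ 3 * z = z * θ₀ ^ 3 := by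
    rw [k3 z, θz, θy, km, θz, θy]
    congr 1
    calc y * (z * y) = z * (y * y) := by rw [← mul_assoc, ← c1, mul_assoc]
      _ = z := by rw [hyy, mul_one]
  have θ3y : θ₀ ^ 3 * y = y * θ₀ ^ 3 := by
    rw [k3 y, θy, km z y, θz, θy, km y (z * y), km z y, θz, θy]
    congr 1
    calc z * y * (y * (z * y)) = z * (y * y) * (z * y) := by group
      _ = (z * z) * y := by rw [hyy]; group
      _ = y := by rw [hzz, one_mul]
  have θ3sq : θ₀ ^ 3 * θ₀ ^ 3 = 1 := E_sq h ht θ3z θ3y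
  have θ3d : θ₀ ^ 3 * d = d * θ₀ ^ 3 := E_comm h ht θ3z θ3y c2 c3
  have θ3s : θ₀ ^ 3 * s = s * θ₀ ^ 3 := E_comm h ht θ3z θ3y c4 c5
  -- the case `τ d τ⁻¹ = s` is impossible
  have hm2 : τ * d * τ⁻¹ = y * s := by
    rcases hm' with rfl | rfl
    · exfalso
      rw [F_576] at hmd
      have e1 : τ * s * τ⁻¹ = d := by rw [hmd]; exact τ2
      rw [← hmd] at θd θs
      rw [e1] at θs
      have h3 : θ₀ ^ 3 * d = (d * z) * θ₀ ^ 3 := by
        rw [k3 d, θd, θs, km, km, θd, θs, θy]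
        congr 1
        calc s * (d * s * y) * (z * y) = (s * d) * s * y * (z * y) := by group
          _ = d * (s * s) * (y * (z * y)) := by rw [hsd]; group
          _ = d * (y * (y * z)) := by rw [hss, c1, mul_one]
          _ = d * z := by rw [← mul_assoc y, hyy, one_mul]
      rw [θ3d] at h3
      have h4 := mul_right_cancel h3
      exact h.large.z_ne (mul_eq_left.1 h4.symm)
    · rw [F_864] at hmd; exact hmd.symm
  have e1 : τ * s * τ⁻¹ = z * d := by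
    have e2 := τ2
    rw [hm2, kk, h2] at e2
    calc τ * s * τ⁻¹ = (z * z) * (τ * s * τ⁻¹) := by rw [hzz, one_mul]
      _ = z * (z * (τ * s * τ⁻¹)) := by group
      _ = z * d := by rw [e2]
  have θd' : θ₀ * d * θ₀⁻¹ = s * y := by rw [θd, hm2, c5]
  have θs' : θ₀ * s * θ₀⁻¹ = d * s * z := by
    rw [θs, e1, hm2]
    calc z * d * (y * s) * y = z * d * (y * (s * y)) := by group
      _ = (z * d) * ((y * y) * s) := by rw [c5]; group
      _ = (z * d) * s := by rw [hyy, one_mul]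
      _ = d * (z * s) := by rw [← c2]; group
      _ = d * s * z := by rw [← c4]; group
  refine ⟨θ₀ ^ 4, ?_⟩
  have fin : ∀ a : G, θ₀ ^ 3 * a = a * θ₀ ^ 3 → θ₀ ^ 4 * a * (θ₀ ^ 4)⁻¹ = θ₀ * a * θ₀⁻¹ := by
    intro a ha
    have e4 : θ₀ ^ 4 = θ₀ * θ₀ ^ 3 := by rw [← pow_succ']
    rw [e4]
    calc θ₀ * θ₀ ^ 3 * a * (θ₀ * θ₀ ^ 3)⁻¹ = θ₀ * (θ₀ ^ 3 * a) * (θ₀ ^ 3)⁻¹ * θ₀⁻¹ := by group
      _ = θ₀ * a * θ₀⁻¹ := by rw [ha]; group
  refine { h with
    y_sq := hyy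
    s_sq := hss
    s_y := c5
    θ3 := ?_
    θz := ?_
    θy := ?_
    θd := ?_
    θs := ?_
    nc := hQd }
  · have e4 : (θ₀ ^ 4) ^ 3 = (θ₀ ^ 3 * θ₀ ^ 3) * (θ₀ ^ 3 * θ₀ ^ 3) := by
      simp only [← pow_mul, ← pow_add]
    rw [e4, θ3sq, one_mul]
  · rw [fin z θ3z, θz]
  · rw [fin y θ3y, θy]
  · rw [← hd, fin d θ3d, θd']
  · rw [← hd, fin s θ3s, θs']

end

/-- **[B]**: case I of case `9aa`: the structure `Fus`. -/
theorem exists_fus [IsSimpleGroup G] (h : Case9aa Q z i j k l x₁ x₂ y s) (hG : ∀ H : Subgroup G, H.index ≠ 2)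
    (hw : ∀ g, g * z * g⁻¹ ∈ Q → g * z * g⁻¹ = z) :
    ∃ y' s' θ, (y' = y ∨ y' = y * z) ∧ (s' = s ∨ s' = s * z) ∧ Fus Q z i j k l x₁ x₂ y' s' θ := by
  obtain ⟨t, ht8, ht⟩ := exists_tw h
  have ht0 := twist_zero h hG hw ht8 ht
  subst ht0
  have hy := conj_y h ht hG hw
  obtain ⟨a, ha, b, hb, t1, t2, t3, t4⟩ := types h ht hw hy
  have hzz := h.large.z_sq
  have hyy : y * y = 1 := by simpa using ht.yy
  have hss : s * s = 1 := by simpa using ht.ss
  obtain ⟨c1, c2, c3, c4, c5⟩ := E_z h ht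
  have hyz2 : y * z * (y * z) = 1 := by
    calc y * z * (y * z) = y * (z * y) * z := by group
      _ = (y * y) * (z * z) := by rw [c1]; group
      _ = 1 := by rw [hyy, hzz, one_mul]
  have hsz2 : s * z * (s * z) = 1 := by
    calc s * z * (s * z) = s * (z * s) * z := by group
      _ = (s * s) * (z * z) := by rw [← c4]; group
      _ = 1 := by rw [hss, hzz, one_mul]
  have hyzc : IsConj z (y * z) := by
    have := (isConj_rp h ht (m := mm 0 288 16) (by decide +kernel) (by decide +kernel) (by decide +kernel)).1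
    rw [dec_dyz.2.2, F_288, F_mul h ht (by norm_num) (by norm_num), F_288, F_16] at this
    exact hy.trans this.symm
  simp only [List.mem_cons, List.not_mem_nil, or_false] at ha hb
  rcases ha with rfl | rfl <;> rcases hb with rfl | rfl
  · rw [F_576] at t1
    rw [F_864] at t2
    obtain ⟨θ, hθ⟩ := exists_theta h ht hw hy t1 t2
    exact ⟨y, s, θ, Or.inl rfl, Or.inl rfl, hθ⟩
  · rw [F_576] at t1
    rw [F_880] at t2
    have e : y * z * s = z * (y * s) := by rw [← c1, mul_assoc]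
    obtain ⟨θ, hθ⟩ := exists_theta (sign_y h) (tw_zero hyz2 hss (by
      rw [← c1]
      calc s * (z * y) = (s * z) * y := by group
        _ = z * (s * y) := by rw [c4]; group
        _ = z * y * s := by rw [c5]; group)) hw hyzc t1 (by rw [e]; exact t2)
    exact ⟨y * z, s, θ, Or.inr rfl, Or.inl rfl, hθ⟩
  · rw [F_592, ← c4] at t1
    rw [F_864] at t2
    have e : y * z * (s * z) = y * s := by
      calc y * z * (s * z) = y * (z * s) * z := by group
        _ = (y * s) * (z * z) := by rw [← c4]; group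
        _ = y * s := by rw [hzz, mul_one]
    obtain ⟨θ, hθ⟩ := exists_theta (sign_s (sign_y h)) (tw_zero hyz2 hsz2 (by
      calc s * z * (y * z) = s * (z * y) * z := by group
        _ = s * y * (z * z) := by rw [c1]; group
        _ = y * s * (z * z) := by rw [c5]
        _ = y * (s * z) * z := by group
        _ = y * (z * s) * z := by rw [c4]
        _ = y * z * (s * z) := by group)) hw hyzc t1 (by rw [e]; exact t2)
    exact ⟨y * z, s * z, θ, Or.inr rfl, Or.inr rfl, hθ⟩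
  · rw [F_592, ← c4] at t1
    rw [F_880] at t2
    have e : y * (s * z) = z * (y * s) := by
      calc y * (s * z) = y * (z * s) := by rw [c4]
        _ = (y * z) * s := by group
        _ = z * (y * s) := by rw [← c1]; group
    obtain ⟨θ, hθ⟩ := exists_theta (sign_s h) (tw_zero hyy hsz2 (by
      calc s * z * y = s * (z * y) := by group
        _ = (s * y) * z := by rw [c1]; group
        _ = y * (s * z) := by rw [c5]; group)) hw hy t1 (by rw [e]; exact t2)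
    exact ⟨y, s * z, θ, Or.inl rfl, Or.inr rfl, hθ⟩

/-- a simple group has no subgroup of index two -/
theorem index_ne_two [IsSimpleGroup G] (h : Case9aa Q z i j k l x₁ x₂ y s) (H : Subgroup G) : H.index ≠ 2 := by
  intro h2
  have hn := Subgroup.normal_of_index_eq_two h2
  rcases hn.eq_bot_or_eq_top with h1 | h1
  · subst h1
    rw [Subgroup.index_bot] at h2
    have h3 : Nat.card Q ∣ Nat.card G := Subgroup.card_subgroup_dvd_card Q
    rw [h2, h.card] at h3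
    norm_num at h3
  · subst h1
    rw [Subgroup.index_top] at h2
    norm_num at h2

/-- **[B]** for simple groups. -/
theorem exists_fus' [IsSimpleGroup G] (h : Case9aa Q z i j k l x₁ x₂ y s)
    (hw : ∀ g, g * z * g⁻¹ ∈ Q → g * z * g⁻¹ = z) :
    ∃ y' s' θ, (y' = y ∨ y' = y * z) ∧ (s' = s ∨ s' = s * z) ∧ Fus Q z i j k l x₁ x₂ y' s' θ :=
  exists_fus h (index_ne_two h) hw

end

end Cfsg.Agent.LargeExtra.W2.LFour.Fusion
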