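import Cfsg.Agent.LargeExtra.W2.LFour.PresOf

/-!
# S1759, `L₄(3)`: assembly modulo closing and identification (helper465)
-/

set_option autoImplicit false

universe u

namespace Cfsg.Agent.LargeExtra.W2.LFour.MainOf

open Cfsg.Agent.LargeExtra.W2.LFour.PresDef

/-- `Case9aa`, `z` weakly closed in `Q`: `G ≃ PSL₄(3)`, from the closing and the identification. -/
theorem recognize_of {G : Type u} [Group G] [Finite G] [IsSimpleGroup G]
    (closing : ∀ (Q : Subgroup G) (z i j k l x₁ x₂ y s θ w w' : G), Elem2 Q z i j k l x₁ x₂ y s θ w w' →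
      Subgroup.closure ({i, j, k, l, x₁, x₂, y, s, w, w'} : Set G) = ⊤)
    (ident : ∀ (Q : Subgroup G) (z i j k l x₁ x₂ y s θ w w' : G), Pres Q z i j k l x₁ x₂ y s θ w w' →
      Nonempty (↥(Subgroup.closure ({i, j, k, l, x₁, x₂, y, s, w, w'} : Set G)) ≃*
        Matrix.ProjectiveSpecialLinearGroup (Fin 4) (ZMod 3)))
    (Q : Subgroup G) (z i j k l x₁ x₂ y s : G) (h : Case9aa Q z i j k l x₁ x₂ y s)
    (hw : ∀ g : G, g * z * g⁻¹ ∈ Q → g * z * g⁻¹ = z) :
    ∃ (F : Type) (_ : Field F) (_ : Fintype F), Fintype.card F = 3 ∧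
      Nonempty (G ≃* Matrix.ProjectiveSpecialLinearGroup (Fin 4) F) := by
  have h3 : Fact (Nat.Prime 3) := ⟨Nat.prime_three⟩
  obtain ⟨y', s', θ, w, w', hP⟩ := PresOf.exists_pres h hw
  obtain ⟨e⟩ := ident _ _ _ _ _ _ _ _ _ _ _ _ _ hP
  refine ⟨ZMod 3, inferInstance, inferInstance, ZMod.card 3, ⟨?_⟩⟩
  have htop := closing _ _ _ _ _ _ _ _ _ _ _ _ _ hP.toElem2
  exact ((Subgroup.topEquiv (G := G)).symm.trans (MulEquiv.subgroupCongr htop.symm)).trans e

end Cfsg.Agent.LargeExtra.W2.LFour.MainOf
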