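import Cfsg.Agent.LargeExtra.W2.LFour.PEnd
import Cfsg.Agent.LargeExtra.W2.LFour.Cox
import Cfsg.Agent.LargeExtra.W2.LFour.Bridge
import Cfsg.Agent.LargeExtra.W2.LFour.FusionC

/-!
# S1759, `L₄(3)`: `Case9aa` with `z` weakly closed in `Q` gives the presentation (helper465)
-/

set_option autoImplicit false

namespace Cfsg.Agent.LargeExtra.W2.LFour.PresOf

open Cfsg.Agent.LargeExtra.W2.LFour.PresDef

variable {G : Type*} [Group G] {Q : Subgroup G} {z i j k l x₁ x₂ y s θ w w' : G}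

theorem pres_of_elem2 [Finite G] (h : Elem2 Q z i j k l x₁ x₂ y s θ w w') :
    Pres Q z i j k l x₁ x₂ y s θ w w' :=
  { h with
    cox := Cox.cox h
    cox' := Cox.cox' h
    five := (PEnd.five_four h).1
    four := (PEnd.five_four h).2 }

/-- The presentation in case I. -/
theorem exists_pres [Finite G] [IsSimpleGroup G] (h : Case9aa Q z i j k l x₁ x₂ y s)
    (hw : ∀ g : G, g * z * g⁻¹ ∈ Q → g * z * g⁻¹ = z) :
    ∃ y' s' θ w w', Pres Q z i j k l x₁ x₂ y' s' θ w w' := by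
  obtain ⟨y', s', θ, -, -, hF⟩ := Fusion.exists_fus' h hw
  obtain ⟨w, w', hE⟩ := Bridge.exists_elem2 hF
  exact ⟨y', s', θ, w, w', pres_of_elem2 hE⟩

end Cfsg.Agent.LargeExtra.W2.LFour.PresOf
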