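import Cfsg.Agent.LargeExtra.W2.LFour.Iface

/-!
# S1759, `L₄(3)`: the twelve root subgroups (helper995)

`Rt z y d s θ n x`: `V = ⟨z, y⟩`, `E = ⟨z, y, d, s⟩`, `θ` of order three, `n` an involution inverting `θ` and
`x`. The twelve root elements are the conjugates of `x` under `θ ^ a * d ^ p * s ^ q`.
-/

set_option autoImplicit false
set_option linter.unusedSimpArgs false

namespace Cfsg.Agent.LargeExtra.W2.LFour.Root

variable {G : Type*} [Group G]

/-- The configuration. -/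
structure Rt (z y d s θ n x : G) : Prop where
  x3 : x ^ 3 = 1
  x_ne : x ≠ 1
  z_ne : z ≠ 1
  zz : z * z = 1
  yy : y * y = 1
  dd : d * d = 1
  ss : s * s = 1
  nn : n * n = 1
  zy : y * z = z * y
  zd : d * z = z * d
  zs : s * z = z * s
  yd : d * y = y * d
  ys : s * y = y * s
  ds : s * d = d * s
  z_x : z * x * z⁻¹ = x
  y_x : y * x * y⁻¹ = x⁻¹
  n_x : n * x * n⁻¹ = x⁻¹
  θ3 : θ ^ 3 = 1
  θ_z : θ * z * θ⁻¹ = y
  θ_y : θ * y * θ⁻¹ = z * y
  θ_d : θ * d * θ⁻¹ = s * y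
  θ_s : θ * s * θ⁻¹ = d * s * z
  n_z : n * z * n⁻¹ = z
  n_y : n * y * n⁻¹ = y * z
  n_d : n * d * n⁻¹ = d
  n_s : n * s * n⁻¹ = s * d * z
  n_θ : n * θ * n⁻¹ = θ⁻¹
  m : x * (d * x * d⁻¹) * x * (d * y * n) = 1
  c34 : x * (s * x * s⁻¹) = s * x * s⁻¹ * x
  c43 : x * (d * s * x * (d * s)⁻¹) = d * s * x * (d * s)⁻¹ * x

/-- Index set of the root subgroups. -/
abbrev R := Fin 3 × Bool × Bool

/-- `θ ^ a * d ^ p * s ^ q` -/
def g (d s θ : G) (r : R) : G := θ ^ (r.1 : ℕ) * (if r.2.1 then d else 1) * (if r.2.2 then s else 1)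

/-- The root elements (before the choice of signs). -/
def X (d s θ x : G) (r : R) : G := g d s θ r * x * (g d s θ r)⁻¹

/-- The root subgroups. -/
def Sub (d s θ x : G) (r : R) : Subgroup G := Subgroup.zpowers (X d s θ x r)

/-- action of `θ` -/
def pθ (r : R) : R :=
  match r.1 with
  | 0 => (1, r.2)
  | 1 => (2, r.2)
  | 2 => (0, r.2)
/-- action of `d` -/
def pd (r : R) : R :=
  match r.1 with
  | 0 => (0, !r.2.1, r.2.2)
  | 1 => (1, !r.2.1, !r.2.2)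
  | 2 => (2, r.2.1, !r.2.2)
/-- action of `s` -/
def ps (r : R) : R :=
  match r.1 with
  | 0 => (0, r.2.1, !r.2.2)
  | 1 => (1, !r.2.1, r.2.2)
  | 2 => (2, !r.2.1, !r.2.2)
/-- action of `n` -/
def pn (r : R) : R :=
  match r.1 with
  | 0 => (0, xor r.2.1 r.2.2, r.2.2)
  | 1 => (2, xor r.2.1 r.2.2, r.2.2)
  | 2 => (1, xor r.2.1 r.2.2, r.2.2)

/-- `g` permutes the root subgroups as `π`. -/
def Nrm (d s θ x : G) (h : G) (π : R → R) : Prop :=
  ∀ r a, h * a * h⁻¹ ∈ Sub d s θ x (π r) ↔ a ∈ Sub d s θ x r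

section nrm

variable {d s θ x : G}

theorem nrm_of (h : G) (π : R → R)
    (H : ∀ r, h * X d s θ x r * h⁻¹ = X d s θ x (π r) ∨ h * X d s θ x r * h⁻¹ = (X d s θ x (π r))⁻¹) :
    Nrm d s θ x h π := by
  intro r a
  have e : Sub d s θ x (π r) = (Sub d s θ x r).map (MulAut.conj h).toMonoidHom := by
    unfold Sub
    rw [MonoidHom.map_zpowers]
    show Subgroup.zpowers _ = Subgroup.zpowers (h * X d s θ x r * h⁻¹)
    rcases H r with e | e
    · rw [e]
    · rw [e, Subgroup.zpowers_inv]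
  rw [e]
  constructor
  · rintro ⟨b, hb, hb'⟩
    have : b = a := by
      have : h * b * h⁻¹ = h * a * h⁻¹ := hb'
      simpa using this
    rw [← this]; exact hb
  · intro ha
    exact ⟨a, ha, rfl⟩

theorem Nrm.mul {h₁ h₂ : G} {π₁ π₂ : R → R} (H₁ : Nrm d s θ x h₁ π₁) (H₂ : Nrm d s θ x h₂ π₂) :
    Nrm d s θ x (h₁ * h₂) (fun r => π₁ (π₂ r)) := by
  intro r a
  have e : h₁ * h₂ * a * (h₁ * h₂)⁻¹ = h₁ * (h₂ * a * h₂⁻¹) * h₁⁻¹ := by group
  rw [e, H₁ (π₂ r), H₂ r]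

theorem Nrm.inv {h : G} {π π' : R → R} (H : Nrm d s θ x h π) (hπ : ∀ r, π (π' r) = r) :
    Nrm d s θ x h⁻¹ π' := by
  intro r a
  rw [← H (π' r), hπ]
  have e : h * (h⁻¹ * a * h⁻¹⁻¹) * h⁻¹ = a := by group
  rw [e]

theorem Nrm.one : Nrm d s θ x 1 (fun r => r) := by
  intro r a
  simp

theorem Nrm.congr {h h' : G} {π π' : R → R} (H : Nrm d s θ x h π) (e : h = h') (e' : ∀ r, π r = π' r) :
    Nrm d s θ x h' π' := by
  intro r a
  rw [← e, ← e']
  exact H r a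

theorem mem_Sub (r : R) : X d s θ x r ∈ Sub d s θ x r := Subgroup.mem_zpowers _

theorem X_def (r : R) : X d s θ x r = g d s θ r * x * (g d s θ r)⁻¹ := rfl

/-- if `h * g r = g r' * c` with `c x c⁻¹ = x` or `x⁻¹` then `h` maps `X r` to `X r'` up to inversion -/
theorem X_of_eq {h c : G} {r r' : R} (e : h * g d s θ r = g d s θ r' * c)
    (hc : c * x * c⁻¹ = x ∨ c * x * c⁻¹ = x⁻¹) :
    h * X d s θ x r * h⁻¹ = X d s θ x r' ∨ h * X d s θ x r * h⁻¹ = (X d s θ x r')⁻¹ := by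
  have e1 : h * X d s θ x r * h⁻¹ = g d s θ r' * (c * x * c⁻¹) * (g d s θ r')⁻¹ := by
    rw [X_def]
    calc h * (g d s θ r * x * (g d s θ r)⁻¹) * h⁻¹ = (h * g d s θ r) * x * (h * g d s θ r)⁻¹ := by group
      _ = _ := by rw [e]; group
  rw [e1]
  rcases hc with hc | hc
  · left; rw [hc]; rfl
  · right; rw [hc, X_def]; group

end nrm

namespace Rt

variable {z y d s θ n x : G} (h : Rt z y d s θ n x)

include h

theorem zx : z * x = x * z := by
  have := h.z_x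
  rw [mul_inv_eq_iff_eq_mul] at this
  exact this

theorem z_inv : z⁻¹ = z := inv_eq_of_mul_eq_one_left h.zz
theorem y_inv : y⁻¹ = y := inv_eq_of_mul_eq_one_left h.yy
theorem d_inv : d⁻¹ = d := inv_eq_of_mul_eq_one_left h.dd
theorem s_inv : s⁻¹ = s := inv_eq_of_mul_eq_one_left h.ss
theorem n_inv : n⁻¹ = n := inv_eq_of_mul_eq_one_left h.nn

theorem θz : θ * z = y * θ := mul_inv_eq_iff_eq_mul.1 h.θ_z
theorem θy : θ * y = z * y * θ := mul_inv_eq_iff_eq_mul.1 h.θ_y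
theorem θd : θ * d = s * y * θ := mul_inv_eq_iff_eq_mul.1 h.θ_d
theorem θs : θ * s = d * s * z * θ := mul_inv_eq_iff_eq_mul.1 h.θ_s
theorem nz : n * z = z * n := mul_inv_eq_iff_eq_mul.1 h.n_z
theorem ny : n * y = y * z * n := mul_inv_eq_iff_eq_mul.1 h.n_y
theorem nd : n * d = d * n := mul_inv_eq_iff_eq_mul.1 h.n_d
theorem ns : n * s = s * d * z * n := mul_inv_eq_iff_eq_mul.1 h.n_s

theorem θθθ : θ * (θ * θ) = 1 := by rw [← h.θ3, pow_succ, pow_two, mul_assoc]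

theorem θinv : θ⁻¹ = θ * θ := by
  rw [inv_eq_iff_mul_eq_one, h.θθθ]

theorem nθ : n * θ = θ * θ * n := by
  have := mul_inv_eq_iff_eq_mul.1 h.n_θ
  rw [this, h.θinv]

/-- `z θ = θ z y` -/
theorem zθ : z * θ = θ * (y * z) := by
  have e : θ * (y * z) = z * y * (y * θ) := by
    rw [← mul_assoc, h.θy, mul_assoc (z * y), h.θz]
  rw [e]
  calc z * θ = z * (y * y) * θ := by rw [h.yy, mul_one]
    _ = _ := by group

/-- `y θ = θ z` -/
theorem yθ : y * θ = θ * z := h.θz.symm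

/-- `s θ = θ (d z)` -/
theorem sθ : s * θ = θ * (d * z) := by
  rw [← mul_assoc, h.θd, mul_assoc, h.θz, ← mul_assoc, mul_assoc s y y, h.yy, mul_one]

/-- `d θ = θ (d s y)` -/
theorem dθ : d * θ = θ * (d * (s * y)) := by
  have e : θ * (d * (s * y)) = (s * y) * (d * s * z) * (z * y) * θ := by
    calc θ * (d * (s * y)) = (θ * d) * s * y := by group
      _ = (s * y) * (θ * s) * y := by rw [h.θd]; group
      _ = (s * y) * (d * s * z) * (θ * y) := by rw [h.θs]; group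
      _ = _ := by rw [h.θy]; group
  rw [e]
  have : (s * y) * (d * s * z) * (z * y) = d := by
    calc (s * y) * (d * s * z) * (z * y) = s * (y * d) * s * (z * z) * y := by group
      _ = s * (d * y) * s * y := by rw [h.zz, mul_one, h.yd]
      _ = (s * d) * (y * s) * y := by group
      _ = (d * s) * (s * y) * y := by rw [h.ds, h.ys]
      _ = d * (s * s) * (y * y) := by group
      _ = d := by rw [h.ss, h.yy, mul_one, mul_one]
  rw [this]

/-! ### The rewriting system: words in `θ, d, s, y, z, n` -/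

omit h in
theorem lc {a b c : G} (e : a * b = c) (t : G) : a * (b * t) = c * t := by rw [← mul_assoc, e]

theorem yz : z * y = y * z := h.zy.symm
theorem zd' : z * d = d * z := h.zd.symm
theorem zs' : z * s = s * z := h.zs.symm
theorem yd' : y * d = d * y := h.yd.symm
theorem ys' : y * s = s * y := h.ys.symm
theorem nn' (t : G) : n * (n * t) = t := by rw [← mul_assoc, h.nn, one_mul]
theorem zz' (t : G) : z * (z * t) = t := by rw [← mul_assoc, h.zz, one_mul]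
theorem yy' (t : G) : y * (y * t) = t := by rw [← mul_assoc, h.yy, one_mul]
theorem dd' (t : G) : d * (d * t) = t := by rw [← mul_assoc, h.dd, one_mul]
theorem ss' (t : G) : s * (s * t) = t := by rw [← mul_assoc, h.ss, one_mul]
theorem θθθ' (t : G) : θ * (θ * (θ * t)) = t := by
  have := h.θθθ
  calc θ * (θ * (θ * t)) = (θ * (θ * θ)) * t := by group
    _ = t := by rw [this, one_mul]

omit h in
theorem g0 (p q : Bool) : g d s θ (0, p, q) = (if p then d else 1) * (if q then s else 1) := by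
  simp [g]

omit h in
theorem g1 (p q : Bool) : g d s θ (1, p, q) = θ * ((if p then d else 1) * (if q then s else 1)) := by
  simp [g, mul_assoc]

omit h in
theorem g2 (p q : Bool) : g d s θ (2, p, q) = θ * (θ * ((if p then d else 1) * (if q then s else 1))) := by
  simp only [g]
  show θ ^ 2 * _ * _ = _
  rw [pow_two]; simp only [mul_assoc]

/-- The action of `θ` on the root elements. -/
theorem θ_X (r : R) : θ * X d s θ x r * θ⁻¹ = X d s θ x (pθ r) ∨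
    θ * X d s θ x r * θ⁻¹ = (X d s θ x (pθ r))⁻¹ := by
  refine X_of_eq (c := 1) ?_ (by simp)
  obtain ⟨a, p, q⟩ := r
  fin_cases a
  · show θ * g d s θ (0, p, q) = g d s θ (1, p, q) * 1
    rw [g0, g1, mul_one]
  · show θ * g d s θ (1, p, q) = g d s θ (2, p, q) * 1
    rw [g1, g2, mul_one]
  · show θ * g d s θ (2, p, q) = g d s θ (0, p, q) * 1
    rw [g0, g2, mul_one, h.θθθ']

theorem y_x' : y * x * y⁻¹ = x ∨ y * x * y⁻¹ = x⁻¹ := Or.inr h.y_x
theorem z_x' : z * x * z⁻¹ = x ∨ z * x * z⁻¹ = x⁻¹ := Or.inl h.z_x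
theorem n_x' : n * x * n⁻¹ = x ∨ n * x * n⁻¹ = x⁻¹ := Or.inr h.n_x
theorem zn_x' : z * n * x * (z * n)⁻¹ = x ∨ z * n * x * (z * n)⁻¹ = x⁻¹ := by
  right
  have : z * n * x * (z * n)⁻¹ = z * (n * x * n⁻¹) * z⁻¹ := by group
  rw [this, h.n_x]
  have : z * x⁻¹ * z⁻¹ = (z * x * z⁻¹)⁻¹ := by group
  rw [this, h.z_x]

/-- The action of `d` on the root elements. -/
theorem d_X (r : R) : d * X d s θ x r * d⁻¹ = X d s θ x (pd r) ∨
    d * X d s θ x r * d⁻¹ = (X d s θ x (pd r))⁻¹ := by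
  obtain ⟨a, p, q⟩ := r
  fin_cases a
  · refine X_of_eq (c := 1) ?_ (by simp)
    show d * g d s θ (0, p, q) = g d s θ (0, !p, q) * 1
    rw [g0, g0]
    cases p <;> cases q <;>
      simp only [if_true, if_false, Bool.not_true, Bool.not_false, Bool.false_eq_true, mul_assoc, mul_one, one_mul, h.zθ, lc h.zθ, h.yθ, lc h.yθ, h.sθ, lc h.sθ, h.dθ, lc h.dθ, h.nθ, lc h.nθ, h.nz, lc h.nz, h.ny, lc h.ny, h.nd, lc h.nd, h.ns, lc h.ns, h.ds, lc h.ds, h.yd', lc h.yd', h.ys', lc h.ys', h.zd', lc h.zd', h.zs', lc h.zs', h.yz, lc h.yz, h.zz, h.zz', h.yy, h.yy', h.dd, h.dd', h.ss, h.ss', h.nn, h.nn', h.θθθ, h.θθθ']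
  · refine X_of_eq (c := y) ?_ h.y_x'
    show d * g d s θ (1, p, q) = g d s θ (1, !p, !q) * y
    rw [g1, g1]
    cases p <;> cases q <;>
      simp only [if_true, if_false, Bool.not_true, Bool.not_false, Bool.false_eq_true, mul_assoc, mul_one, one_mul, h.zθ, lc h.zθ, h.yθ, lc h.yθ, h.sθ, lc h.sθ, h.dθ, lc h.dθ, h.nθ, lc h.nθ, h.nz, lc h.nz, h.ny, lc h.ny, h.nd, lc h.nd, h.ns, lc h.ns, h.ds, lc h.ds, h.yd', lc h.yd', h.ys', lc h.ys', h.zd', lc h.zd', h.zs', lc h.zs', h.yz, lc h.yz, h.zz, h.zz', h.yy, h.yy', h.dd, h.dd', h.ss, h.ss', h.nn, h.nn', h.θθθ, h.θθθ']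
  · refine X_of_eq (c := y) ?_ h.y_x'
    show d * g d s θ (2, p, q) = g d s θ (2, p, !q) * y
    rw [g2, g2]
    cases p <;> cases q <;>
      simp only [if_true, if_false, Bool.not_true, Bool.not_false, Bool.false_eq_true, mul_assoc, mul_one, one_mul, h.zθ, lc h.zθ, h.yθ, lc h.yθ, h.sθ, lc h.sθ, h.dθ, lc h.dθ, h.nθ, lc h.nθ, h.nz, lc h.nz, h.ny, lc h.ny, h.nd, lc h.nd, h.ns, lc h.ns, h.ds, lc h.ds, h.yd', lc h.yd', h.ys', lc h.ys', h.zd', lc h.zd', h.zs', lc h.zs', h.yz, lc h.yz, h.zz, h.zz', h.yy, h.yy', h.dd, h.dd', h.ss, h.ss', h.nn, h.nn', h.θθθ, h.θθθ']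

/-- The action of `s` on the root elements. -/
theorem s_X (r : R) : s * X d s θ x r * s⁻¹ = X d s θ x (ps r) ∨
    s * X d s θ x r * s⁻¹ = (X d s θ x (ps r))⁻¹ := by
  obtain ⟨a, p, q⟩ := r
  fin_cases a
  · refine X_of_eq (c := 1) ?_ (by simp)
    show s * g d s θ (0, p, q) = g d s θ (0, p, !q) * 1
    rw [g0, g0]
    cases p <;> cases q <;>
      simp only [if_true, if_false, Bool.not_true, Bool.not_false, Bool.false_eq_true, mul_assoc, mul_one, one_mul, h.zθ, lc h.zθ, h.yθ, lc h.yθ, h.sθ, lc h.sθ, h.dθ, lc h.dθ, h.nθ, lc h.nθ, h.nz, lc h.nz, h.ny, lc h.ny, h.nd, lc h.nd, h.ns, lc h.ns, h.ds, lc h.ds, h.yd', lc h.yd', h.ys', lc h.ys', h.zd', lc h.zd', h.zs', lc h.zs', h.yz, lc h.yz, h.zz, h.zz', h.yy, h.yy', h.dd, h.dd', h.ss, h.ss', h.nn, h.nn', h.θθθ, h.θθθ']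
  · refine X_of_eq (c := z) ?_ h.z_x'
    show s * g d s θ (1, p, q) = g d s θ (1, !p, q) * z
    rw [g1, g1]
    cases p <;> cases q <;>
      simp only [if_true, if_false, Bool.not_true, Bool.not_false, Bool.false_eq_true, mul_assoc, mul_one, one_mul, h.zθ, lc h.zθ, h.yθ, lc h.yθ, h.sθ, lc h.sθ, h.dθ, lc h.dθ, h.nθ, lc h.nθ, h.nz, lc h.nz, h.ny, lc h.ny, h.nd, lc h.nd, h.ns, lc h.ns, h.ds, lc h.ds, h.yd', lc h.yd', h.ys', lc h.ys', h.zd', lc h.zd', h.zs', lc h.zs', h.yz, lc h.yz, h.zz, h.zz', h.yy, h.yy', h.dd, h.dd', h.ss, h.ss', h.nn, h.nn', h.θθθ, h.θθθ']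
  · refine X_of_eq (c := z) ?_ h.z_x'
    show s * g d s θ (2, p, q) = g d s θ (2, !p, !q) * z
    rw [g2, g2]
    cases p <;> cases q <;>
      simp only [if_true, if_false, Bool.not_true, Bool.not_false, Bool.false_eq_true, mul_assoc, mul_one, one_mul, h.zθ, lc h.zθ, h.yθ, lc h.yθ, h.sθ, lc h.sθ, h.dθ, lc h.dθ, h.nθ, lc h.nθ, h.nz, lc h.nz, h.ny, lc h.ny, h.nd, lc h.nd, h.ns, lc h.ns, h.ds, lc h.ds, h.yd', lc h.yd', h.ys', lc h.ys', h.zd', lc h.zd', h.zs', lc h.zs', h.yz, lc h.yz, h.zz, h.zz', h.yy, h.yy', h.dd, h.dd', h.ss, h.ss', h.nn, h.nn', h.θθθ, h.θθθ']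

/-- The action of `n` on the root elements. -/
theorem n_X (r : R) : n * X d s θ x r * n⁻¹ = X d s θ x (pn r) ∨
    n * X d s θ x r * n⁻¹ = (X d s θ x (pn r))⁻¹ := by
  obtain ⟨a, p, q⟩ := r
  have key : n * g d s θ (a, p, q) = g d s θ (pn (a, p, q)) * (if q then z * n else n) := by
    fin_cases a
    · show n * g d s θ (0, p, q) = g d s θ (0, xor p q, q) * _
      rw [g0, g0]
      cases p <;> cases q <;>
        simp only [if_true, if_false, Bool.xor_true, Bool.xor_false, Bool.not_true, Bool.not_false, Bool.false_eq_true, mul_assoc, mul_one, one_mul, h.zθ, lc h.zθ, h.yθ, lc h.yθ, h.sθ, lc h.sθ, h.dθ, lc h.dθ, h.nθ, lc h.nθ, h.nz, lc h.nz, h.ny, lc h.ny, h.nd, lc h.nd, h.ns, lc h.ns, h.ds, lc h.ds, h.yd', lc h.yd', h.ys', lc h.ys', h.zd', lc h.zd', h.zs', lc h.zs', h.yz, lc h.yz, h.zz, h.zz', h.yy, h.yy', h.dd, h.dd', h.ss, h.ss', h.nn, h.nn', h.θθθ, h.θθθ']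
    · show n * g d s θ (1, p, q) = g d s θ (2, xor p q, q) * _
      rw [g1, g2]
      cases p <;> cases q <;>
        simp only [if_true, if_false, Bool.xor_true, Bool.xor_false, Bool.not_true, Bool.not_false, Bool.false_eq_true, mul_assoc, mul_one, one_mul, h.zθ, lc h.zθ, h.yθ, lc h.yθ, h.sθ, lc h.sθ, h.dθ, lc h.dθ, h.nθ, lc h.nθ, h.nz, lc h.nz, h.ny, lc h.ny, h.nd, lc h.nd, h.ns, lc h.ns, h.ds, lc h.ds, h.yd', lc h.yd', h.ys', lc h.ys', h.zd', lc h.zd', h.zs', lc h.zs', h.yz, lc h.yz, h.zz, h.zz', h.yy, h.yy', h.dd, h.dd', h.ss, h.ss', h.nn, h.nn', h.θθθ, h.θθθ']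
    · show n * g d s θ (2, p, q) = g d s θ (1, xor p q, q) * _
      rw [g2, g1]
      cases p <;> cases q <;>
        simp only [if_true, if_false, Bool.xor_true, Bool.xor_false, Bool.not_true, Bool.not_false, Bool.false_eq_true, mul_assoc, mul_one, one_mul, h.zθ, lc h.zθ, h.yθ, lc h.yθ, h.sθ, lc h.sθ, h.dθ, lc h.dθ, h.nθ, lc h.nθ, h.nz, lc h.nz, h.ny, lc h.ny, h.nd, lc h.nd, h.ns, lc h.ns, h.ds, lc h.ds, h.yd', lc h.yd', h.ys', lc h.ys', h.zd', lc h.zd', h.zs', lc h.zs', h.yz, lc h.yz, h.zz, h.zz', h.yy, h.yy', h.dd, h.dd', h.ss, h.ss', h.nn, h.nn', h.θθθ, h.θθθ']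
  refine X_of_eq key ?_
  cases q
  · exact h.n_x'
  · exact h.zn_x'

end Rt

end Cfsg.Agent.LargeExtra.W2.LFour.Root
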