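import Cfsg.Agent.LargeExtra.W2.LFour.RootRel
import Mathlib.Algebra.Group.Commutator

/-!
# S1759, `L₄(3)`: the Steinberg relations up to signs (helper995)
-/

set_option autoImplicit false

namespace Cfsg.Agent.LargeExtra.W2.LFour.Root

open scoped commutatorElement

variable {G : Type*} [Group G]

theorem mem_zpowers_symm {a b : G} (hb : b ^ 3 = 1) (ha : a ≠ 1) (h : a ∈ Subgroup.zpowers b) :
    b ∈ Subgroup.zpowers a := by
  obtain ⟨k, rfl⟩ := h
  have hk : (b ^ k : G) = b ^ (k % 3) := by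
    have e : k = 3 * (k / 3) + k % 3 := by omega
    conv_lhs => rw [e, zpow_add, zpow_mul]
    have : (b ^ (3 : ℤ)) = 1 := by
      have := hb; rw [← zpow_natCast] at this; exact_mod_cast this
    rw [this, one_zpow, one_mul]
  have h3 : k % 3 = 0 ∨ k % 3 = 1 ∨ k % 3 = 2 := by omega
  show b ∈ Subgroup.zpowers (b ^ k)
  have ha' : (b ^ k : G) ≠ 1 := ha
  rw [hk] at ha' ⊢
  rcases h3 with e | e | e
  · rw [e, zpow_zero] at ha'; exact absurd rfl ha'
  · rw [e, zpow_one]; exact Subgroup.mem_zpowers _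
  · rw [e]
    refine ⟨2, ?_⟩
    show (b ^ (2 : ℤ)) ^ (2 : ℤ) = b
    rw [← zpow_mul]
    have : b ^ ((2 : ℤ) * 2) = b ^ 3 * b := by
      rw [show ((2 : ℤ) * 2) = ((4 : ℕ) : ℤ) by norm_num, zpow_natCast, ← pow_succ]
    rw [this, hb, one_mul]

namespace RK

variable {z y d s θ n x : G} {K : Subgroup G} (h : RK z y d s θ n x K)

include h

/-- The alternative configuration is impossible. -/
theorem no_alt (h31 : X d s θ x (1, true, false) ∈ K) (h24 : X d s θ x (1, true, true) ∈ K) : False := by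
  have h41 : X d s θ x (2, true, false) ∈ K := h.mem_n h31
  have h23 : X d s θ x (2, false, true) ∈ K := h.mem_n h24
  have R := h.toRt
  -- the facts
  have fa : Comm d s θ x (0, true, false) (1, false, false) := R.comm_T (h.comm_12 h24)
  have fc : Comm d s θ x (0, false, false) (2, true, false) := h.comm_12 h41
  have fe : Comm d s θ x (2, true, false) (1, false, false) := R.comm_T (h.comm_12 (by
    have : pT (2, true, false) (1, false, false) ∈ [(1, true, false), (1, true, true), (2, true, false), (2, false, true)] := by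
      decide
    have e : ∀ r ∈ [((1 : Fin 3), true, false), (1, true, true), (2, true, false), (2, false, true)],
        X d s θ x r ∈ K := by
      intro r hr
      fin_cases hr
      · exact h31
      · exact h24
      · exact h41
      · exact h23
    exact e _ this))
  have inK : ∀ r ∈ [((1 : Fin 3), true, false), (1, true, true), (2, true, false), (2, false, true)],
      X d s θ x r ∈ K := by
    intro r hr
    fin_cases hr
    · exact h31
    · exact h24
    · exact h41
    · exact h23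
  have fb : Br d s θ x (0, false, false) (1, false, false) (2, true, false) :=
    R.br_T (h.br_12 (inK _ (by decide)) (inK _ (by decide)))
  have fd : Br d s θ x (0, true, false) (2, true, false) (1, false, false) :=
    R.br_T (h.br_12 (inK _ (by decide)) (inK _ (by decide)))
  set v := X d s θ x (1, false, false) with hv
  have hvm : v ∈ Sub d s θ x (1, false, false) := mem_Sub _
  have x0 : x ∈ Sub d s θ x (0, false, false) := by
    have := mem_Sub (d := d) (s := s) (θ := θ) (x := x) (0, false, false)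
    rwa [R.X0] at this
  have x1 : d * x * d⁻¹ ∈ Sub d s θ x (0, true, false) := by
    have := mem_Sub (d := d) (s := s) (θ := θ) (x := x) (0, true, false)
    rwa [R.X01] at this
  set x' := d * x * d⁻¹ with hx'
  set u := x * v * x⁻¹ * v⁻¹ with hu
  have hum : u ∈ Sub d s θ x (2, true, false) := fb x x0 v hvm
  set b := x' * u * x'⁻¹ * u⁻¹ with hb
  have hbm : b ∈ Sub d s θ x (1, false, false) := fd x' x1 u hum
  have cxu : x * u = u * x := fc x x0 u hum
  have cxv : x' * v = v * x' := fa x' x1 v hvm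
  have cuv : u * v = v * u := fe u hum v hvm
  obtain ⟨m, hm⟩ := hbm
  have hm' : v ^ m = b := hm
  -- `x v x⁻¹ = u v`
  have e1 : x * v * x⁻¹ = u * v := by rw [hu]; group
  have e2 : x' * (u * v) * x'⁻¹ = b * u * v := by
    calc x' * (u * v) * x'⁻¹ = x' * u * (v * x'⁻¹) := by group
      _ = x' * u * (x'⁻¹ * v) := by
        have : v * x'⁻¹ = x'⁻¹ * v := by
          have := cxv
          calc v * x'⁻¹ = x'⁻¹ * (x' * v) * x'⁻¹ := by group
            _ = x'⁻¹ * (v * x') * x'⁻¹ := by rw [this]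
            _ = _ := by group
        rw [this]
      _ = _ := by rw [hb]; group
  have e3 : x * b * x⁻¹ = (u * v) ^ m := by
    rw [← hm', ← e1, conj_zpow]
  have e4 : x * (b * u * v) * x⁻¹ = u ^ (m + 2) * v ^ (m + 1) := by
    have c : Commute u v := cuv
    calc x * (b * u * v) * x⁻¹ = (x * b * x⁻¹) * (x * u * x⁻¹) * (x * v * x⁻¹) := by group
      _ = (u * v) ^ m * u * (u * v) := by
        rw [e3, e1]
        have : x * u * x⁻¹ = u := by rw [cxu]; group
        rw [this]
      _ = u ^ m * v ^ m * u * (u * v) := by rw [c.mul_zpow]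
      _ = u ^ m * (v ^ m * u) * (u * v) := by group
      _ = u ^ m * (u * v ^ m) * (u * v) := by rw [(c.symm.zpow_left m).eq]
      _ = u ^ m * u * (v ^ m * u) * v := by group
      _ = u ^ m * u * (u * v ^ m) * v := by rw [(c.symm.zpow_left m).eq]
      _ = u ^ (m + 2) * v ^ (m + 1) := by
        rw [zpow_add, zpow_add, zpow_one]
        have : u ^ (2 : ℤ) = u * u := by rw [zpow_two]
        rw [this]; group
  -- the conjugate of `v`
  set g0 := (x * x' * x) * v * (x * x' * x)⁻¹ with hg0
  have e5 : g0 = u ^ (m + 2) * v ^ (m + 1) := by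
    rw [← e4, ← e2, ← e1, hg0]; group
  have e6 : g0 ∈ Sub d s θ x (2, false, true) := by
    have N := R.nrm_m
    have emu : x * x' * x = (d * y * n)⁻¹ := eq_inv_of_mul_eq_one_left R.m
    have := (N (2, false, true) g0).1 (by
      show d * y * n * g0 * (d * y * n)⁻¹ ∈ Sub d s θ x (1, false, false)
      have : d * y * n * g0 * (d * y * n)⁻¹ = v := by rw [hg0, emu]; group
      rw [this]; exact hvm)
    exact this
  have e7 : g0 ≠ 1 := by
    intro e
    apply R.X_ne (1, false, false)
    rw [← hv]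
    have : v = (x * x' * x)⁻¹ * g0 * (x * x' * x) := by rw [hg0]; group
    rw [this, e]; group
  -- the action of `z` and `y`
  have zr : ∀ (t : G) (r : Root.R), t * X d s θ x r * t⁻¹ = (X d s θ x r)⁻¹ → ∀ a ∈ Sub d s θ x r, t * a * t⁻¹ = a⁻¹ := by
    rintro t r ht _ ⟨k, rfl⟩
    show t * (X d s θ x r) ^ k * t⁻¹ = _
    rw [← conj_zpow, ht, inv_zpow]
  have yr : ∀ (t : G) (r : Root.R), t * X d s θ x r * t⁻¹ = X d s θ x r → ∀ a ∈ Sub d s θ x r, t * a * t⁻¹ = a := by
    rintro t r ht _ ⟨k, rfl⟩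
    show t * (X d s θ x r) ^ k * t⁻¹ = _
    rw [← conj_zpow, ht]
  have z1 : z * g0 * z⁻¹ = g0⁻¹ := zr z _ (R.z_X2 false true) _ e6
  have y1 : y * g0 * y⁻¹ = g0⁻¹ := zr y _ (R.y_X2 false true) _ e6
  have z2 : z * u * z⁻¹ = u⁻¹ := zr z _ (R.z_X2 true false) _ hum
  have y2 : y * u * y⁻¹ = u⁻¹ := zr y _ (R.y_X2 true false) _ hum
  have z3 : z * v * z⁻¹ = v⁻¹ := R.z_X1 false false
  have y3 : y * v * y⁻¹ = v := R.y_X1 false false
  have e8 : (v ^ (m + 1))⁻¹ = v ^ (m + 1) := by
    have a1 : z * g0 * z⁻¹ = (u ^ (m + 2))⁻¹ * (v ^ (m + 1))⁻¹ := by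
      rw [e5]
      calc z * (u ^ (m + 2) * v ^ (m + 1)) * z⁻¹ = (z * u ^ (m + 2) * z⁻¹) * (z * v ^ (m + 1) * z⁻¹) := by group
        _ = _ := by rw [← conj_zpow, ← conj_zpow, z2, z3, inv_zpow, inv_zpow]
    have a2 : y * g0 * y⁻¹ = (u ^ (m + 2))⁻¹ * v ^ (m + 1) := by
      rw [e5]
      calc y * (u ^ (m + 2) * v ^ (m + 1)) * y⁻¹ = (y * u ^ (m + 2) * y⁻¹) * (y * v ^ (m + 1) * y⁻¹) := by group
        _ = _ := by rw [← conj_zpow, ← conj_zpow, y2, y3, inv_zpow]
    rw [z1, ← y1, a2] at a1
    exact (mul_left_cancel a1).symm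
  have e9 : v ^ (m + 1) = 1 := by
    have c3 : (v ^ (m + 1)) ^ 3 = 1 := by
      rw [← zpow_natCast, ← zpow_mul, mul_comm, zpow_mul, zpow_natCast, hv, R.X3, one_zpow]
    have c2 : v ^ (m + 1) * v ^ (m + 1) = 1 := by nth_rw 1 [← e8]; group
    rw [pow_succ, pow_two, c2, one_mul] at c3
    exact c3
  have e10 : g0 ∈ Sub d s θ x (2, true, false) := by
    rw [e5, e9, mul_one]; exact Subgroup.zpow_mem _ hum _
  have e11 : X d s θ x (2, false, true) ∈ Sub d s θ x (2, true, false) := by
    have := mem_zpowers_symm (R.X3 (2, false, true)) e7 e6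
    obtain ⟨k, hk⟩ := this
    have hk' : g0 ^ k = X d s θ x (2, false, true) := hk
    rw [← hk']; exact Subgroup.zpow_mem _ e10 _
  have f1 : Comm d s θ x (2, true, false) (2, true, true) := R.comm_T (by
    have : pT (2, true, false) (2, true, true) = (0, false, true) ∨
        pT (2, true, false) (2, true, true) = (0, true, true) := by decide
    rcases this with e | e
    · rw [e]; exact R.comm_34
    · rw [e]; exact R.comm_43)
  have f2 : Comm d s θ x (2, false, true) (2, true, true) := by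
    apply comm_of
    exact f1 _ e11 _ (mem_Sub _)
  have f3 := (R.nrm_g_inv (2, false, true)).comm.2 f2
  have e12 : pT (2, false, true) (2, false, true) = (0, false, false) := by decide
  have e13 : pT (2, false, true) (2, true, true) = (0, true, false) := by decide
  rw [e12, e13] at f3
  exact R.ncomm f3

/-- the elements of `K` -/
theorem mem_K : ∀ r ∈ [((1 : Fin 3), false, false), (1, false, true), (2, false, false), (2, true, true)],
    X d s θ x r ∈ K := by
  have R := h.toRt
  obtain ⟨p, q, h1, h2⟩ := h.mem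
  cases p <;> cases q
  · intro r hr
    fin_cases hr
    · exact h1
    · exact h2
    · exact h.mem_n h1
    · exact h.mem_n h2
  · exfalso
    apply R.false_of_comm (h.comm_12 h1)
    exact R.comm_T (by
      have e : pT (0, true, false) (1, false, false) = (1, true, true) := by decide
      rw [e]; exact h.comm_12 h2)
  · exfalso
    apply R.false_of_comm (h.comm_12 h1)
    exact R.comm_T (by
      have e : pT (0, true, false) (1, true, false) = (1, false, true) := by decide
      rw [e]; exact h.comm_12 h2)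
  · exact (h.no_alt h1 h2).elim

end RK

/-- The index of the ordered pair `(a, b)`, `a ≠ b`. -/
def idx (a b : Fin 4) : R :=
  match a, b with
  | 0, 1 => (0, false, false)
  | 1, 0 => (0, true, false)
  | 2, 3 => (0, false, true)
  | 3, 2 => (0, true, true)
  | 0, 2 => (1, false, false)
  | 2, 0 => (1, true, false)
  | 3, 1 => (1, false, true)
  | 1, 3 => (1, true, true)
  | 0, 3 => (2, false, false)
  | 3, 0 => (2, true, false)
  | 1, 2 => (2, false, true)
  | 2, 1 => (2, true, true)
  | _, _ => (0, false, false)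

/-- The root elements with signs. -/
def rt (d s θ x : G) (a b : Fin 4) : G :=
  if (idx a b).2.1 then (X d s θ x (idx a b))⁻¹ else X d s θ x (idx a b)

/-- commuting list -/
def cl : List R := [(0, false, false), (0, false, true), (0, true, true), (1, false, false), (1, false, true),
  (2, false, false), (2, true, true)]

theorem dec_comm : ∀ i j k l : Fin 4, i ≠ j → k ≠ l → j ≠ k → i ≠ l → pT (idx i j) (idx k l) ∈ cl := by decide

theorem dec_br : ∀ i j k : Fin 4, i ≠ j → j ≠ k → i ≠ k →
    (pT (idx i k) (idx i j) = (1, false, false) ∧ pT (idx i k) (idx j k) = (2, true, true)) ∨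
    (pT (idx i k) (idx i j) = (2, false, false) ∧ pT (idx i k) (idx j k) = (1, false, true)) := by decide

theorem dec_opp : ∀ i j : Fin 4, i ≠ j →
    idx j i = ((idx i j).1, !(idx i j).2.1, (idx i j).2.2) := by decide

theorem dec_mon : ∀ i j k : Fin 4, i ≠ j → i ≠ k → j ≠ k →
    pG (idx i j) (pd (pn (pT (idx i j) (idx i k)))) = idx j k ∧
    pG (idx i j) (pd (pn (pT (idx i j) (idx k j)))) = idx k i ∧
    pG (idx i j) (pn (pd (pT (idx i j) (idx i k)))) = idx j k ∧
    pG (idx i j) (pn (pd (pT (idx i j) (idx k j)))) = idx k i := by decide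

theorem rt_mem (d s θ x : G) (a b : Fin 4) : rt d s θ x a b ∈ Sub d s θ x (idx a b) := by
  unfold rt
  split
  · exact Subgroup.inv_mem _ (mem_Sub _)
  · exact mem_Sub _

theorem Sub_eq (d s θ x : G) (a b : Fin 4) : Sub d s θ x (idx a b) = Subgroup.zpowers (rt d s θ x a b) := by
  unfold rt Sub
  split
  · rw [Subgroup.zpowers_inv]
  · rfl

namespace RK

variable {z y d s θ n x : G} {K : Subgroup G} (h : RK z y d s θ n x K)

include h

theorem comm_cl : ∀ r ∈ cl, Comm d s θ x (0, false, false) r := by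
  intro r hr
  fin_cases hr
  · exact h.toRt.comm_1
  · exact h.toRt.comm_34
  · exact h.toRt.comm_43
  · exact h.comm_12 (h.mem_K _ (by decide))
  · exact h.comm_12 (h.mem_K _ (by decide))
  · exact h.comm_12 (h.mem_K _ (by decide))
  · exact h.comm_12 (h.mem_K _ (by decide))

theorem comm (i j k l : Fin 4) (h1 : i ≠ j) (h2 : k ≠ l) (h3 : j ≠ k) (h4 : i ≠ l) :
    Comm d s θ x (idx i j) (idx k l) :=
  h.toRt.comm_T (h.comm_cl _ (dec_comm i j k l h1 h2 h3 h4))

theorem rt_comm (i j k l : Fin 4) (h1 : i ≠ j) (h2 : k ≠ l) (h3 : j ≠ k) (h4 : i ≠ l) :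
    rt d s θ x i j * rt d s θ x k l = rt d s θ x k l * rt d s θ x i j :=
  h.comm i j k l h1 h2 h3 h4 _ (rt_mem _ _ _ _ _ _) _ (rt_mem _ _ _ _ _ _)

theorem rt3 (i j : Fin 4) : rt d s θ x i j ^ 3 = 1 := by
  unfold rt
  split
  · rw [inv_pow, h.toRt.X3, inv_one]
  · exact h.toRt.X3 _

theorem rt_ne (i j : Fin 4) : rt d s θ x i j ≠ 1 := by
  unfold rt
  split
  · intro e; exact h.toRt.X_ne _ (inv_eq_one.1 e)
  · exact h.toRt.X_ne _

theorem br (i j k : Fin 4) (h1 : i ≠ j) (h2 : j ≠ k) (h3 : i ≠ k) : Br d s θ x (idx i j) (idx j k) (idx i k) := by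
  apply h.toRt.br_T
  rcases dec_br i j k h1 h2 h3 with ⟨e1, e2⟩ | ⟨e1, e2⟩
  · rw [e1, e2]; exact h.br_12 (h.mem_K _ (by decide)) (h.mem_K _ (by decide))
  · rw [e1, e2]; exact h.br_12 (h.mem_K _ (by decide)) (h.mem_K _ (by decide))

/-- the base commutators are not trivial -/
theorem ncomm1 : ¬ Comm d s θ x (1, false, false) (2, true, true) := by
  intro H
  -- `31` and `32` commute
  have H2 : Comm d s θ x (1, true, false) (2, true, true) := by
    have := h.comm 2 0 2 1 (by decide) (by decide) (by decide) (by decide)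
    exact this
  have hy := h.toRt.y_mem (H := Subgroup.centralizer {X d s θ x (2, true, true)}) false
    (by rw [Subgroup.mem_centralizer_singleton_iff]; exact H _ (mem_Sub _) _ (mem_Sub _))
    (by rw [Subgroup.mem_centralizer_singleton_iff]; exact H2 _ (mem_Sub _) _ (mem_Sub _))
  rw [Subgroup.mem_centralizer_singleton_iff] at hy
  apply h.toRt.false_of_inv (h.toRt.y_X2 true true)
  rw [hy]; group

theorem ncomm2 : ¬ Comm d s θ x (2, false, false) (1, false, true) := by
  intro H
  -- `14` and `24` commute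
  have H2 : Comm d s θ x (2, false, false) (1, true, true) := by
    have := h.comm 0 3 1 3 (by decide) (by decide) (by decide) (by decide)
    exact this
  have hy := h.toRt.y_mem (H := Subgroup.centralizer {X d s θ x (2, false, false)}) true
    (by rw [Subgroup.mem_centralizer_singleton_iff]; exact (H _ (mem_Sub _) _ (mem_Sub _)).symm)
    (by rw [Subgroup.mem_centralizer_singleton_iff]; exact (H2 _ (mem_Sub _) _ (mem_Sub _)).symm)
  rw [Subgroup.mem_centralizer_singleton_iff] at hy
  apply h.toRt.false_of_inv (h.toRt.y_X2 false false)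
  rw [hy]; group

theorem ncomm (i j k : Fin 4) (h1 : i ≠ j) (h2 : j ≠ k) (h3 : i ≠ k) :
    ¬ Comm d s θ x (idx i j) (idx j k) := by
  intro H
  have H' := (h.toRt.nrm_g_inv (idx i k)).comm.2 H
  rcases dec_br i j k h1 h2 h3 with ⟨e1, e2⟩ | ⟨e1, e2⟩
  · rw [e1, e2] at H'; exact h.ncomm1 H'
  · rw [e1, e2] at H'; exact h.ncomm2 H'

theorem rt_br (i j k : Fin 4) (h1 : i ≠ j) (h2 : j ≠ k) (h3 : i ≠ k) :
    ⁅rt d s θ x i j, rt d s θ x j k⁆ = rt d s θ x i k ∨ ⁅rt d s θ x i j, rt d s θ x j k⁆ = (rt d s θ x i k)⁻¹ := by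
  have m1 := h.br i j k h1 h2 h3 _ (rt_mem _ _ _ _ _ _) _ (rt_mem _ _ _ _ _ _)
  rw [Sub_eq] at m1
  rw [commutatorElement_def]
  have hne : rt d s θ x i j * rt d s θ x j k * (rt d s θ x i j)⁻¹ * (rt d s θ x j k)⁻¹ ≠ 1 := by
    intro e
    apply h.ncomm i j k h1 h2 h3
    have c : Commute (rt d s θ x i j) (rt d s θ x j k) := by
      rw [← commutatorElement_eq_one_iff_commute, commutatorElement_def]; exact e
    intro a ha b hb
    rw [Sub_eq] at ha hb
    obtain ⟨k1, rfl⟩ := ha
    obtain ⟨k2, rfl⟩ := hb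
    exact (c.zpow_zpow k1 k2).eq
  obtain ⟨m, hm⟩ := m1
  have hm' : rt d s θ x i k ^ m = rt d s θ x i j * rt d s θ x j k * (rt d s θ x i j)⁻¹ * (rt d s θ x j k)⁻¹ := hm
  have h3' := h.rt3 i k
  have hk : rt d s θ x i k ^ m = rt d s θ x i k ^ (m % 3) := by
    have e : m = 3 * (m / 3) + m % 3 := by omega
    conv_lhs => rw [e, zpow_add, zpow_mul]
    have : rt d s θ x i k ^ (3 : ℤ) = 1 := by
      have := h3'; rw [← zpow_natCast] at this; exact_mod_cast this
    rw [this, one_zpow, one_mul]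
  rw [← hm'] at hne ⊢
  rw [hk] at hne ⊢
  have h3m : m % 3 = 0 ∨ m % 3 = 1 ∨ m % 3 = 2 := by omega
  rcases h3m with e | e | e
  · rw [e, zpow_zero] at hne; exact absurd rfl hne
  · left; rw [e, zpow_one]
  · right; rw [e, eq_inv_iff_mul_eq_one]
    have : rt d s θ x i k ^ (2 : ℤ) * rt d s θ x i k = rt d s θ x i k ^ 3 := by
      rw [zpow_two, pow_succ, pow_two]
    rw [this, h3']

/-- `m = r i j * (r j i)⁻¹ * r i j` -/
theorem m_eq (i j : Fin 4) (h1 : i ≠ j) :
    rt d s θ x i j * (rt d s θ x j i)⁻¹ * rt d s θ x i j =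
      g d s θ (idx i j) * (d * y * n)⁻¹ * (g d s θ (idx i j))⁻¹ ∨
    rt d s θ x i j * (rt d s θ x j i)⁻¹ * rt d s θ x i j =
      g d s θ (idx i j) * (d * y * n) * (g d s θ (idx i j))⁻¹ := by
  have R := h.toRt
  have key : X d s θ x (idx i j) * X d s θ x (idx j i) * X d s θ x (idx i j) =
      g d s θ (idx i j) * (d * y * n)⁻¹ * (g d s θ (idx i j))⁻¹ := by
    have e1 : X d s θ x (idx j i) = g d s θ (idx i j) * (d * x * d⁻¹) * (g d s θ (idx i j))⁻¹ := by
      rw [dec_opp i j h1, X_def]
      obtain ⟨a, p, q⟩ := idx i j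
      have e2 : g d s θ (a, !p, q) = g d s θ (a, p, q) * d := by
        unfold g
        cases p <;> cases q <;> simp [mul_assoc, R.dd, R.ds, R.dd']
      show g d s θ (a, !p, q) * x * (g d s θ (a, !p, q))⁻¹ = _
      rw [e2]; group
    have e3 : (d * y * n)⁻¹ = x * (d * x * d⁻¹) * x := (eq_inv_of_mul_eq_one_left R.m).symm
    rw [e1, e3, X_def]; group
  by_cases hp : (idx i j).2.1 = true
  · right
    have hp' : (idx j i).2.1 = false := by rw [dec_opp i j h1]; simp [hp]
    unfold rt
    rw [if_pos hp, if_neg (by rw [hp']; simp)]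
    calc (X d s θ x (idx i j))⁻¹ * (X d s θ x (idx j i))⁻¹ * (X d s θ x (idx i j))⁻¹
        = (X d s θ x (idx i j) * X d s θ x (idx j i) * X d s θ x (idx i j))⁻¹ := by group
      _ = _ := by rw [key]; group
  · left
    have hp0 : (idx i j).2.1 = false := by simpa using hp
    have hp' : (idx j i).2.1 = true := by rw [dec_opp i j h1]; simp [hp0]
    unfold rt
    rw [if_neg hp, if_pos hp', inv_inv, key]

theorem rt_mon (i j k : Fin 4) (h1 : i ≠ j) (h2 : i ≠ k) (h3 : j ≠ k) :
    (rt d s θ x i j * (rt d s θ x j i)⁻¹ * rt d s θ x i j) * rt d s θ x i k *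
      (rt d s θ x i j * (rt d s θ x j i)⁻¹ * rt d s θ x i j)⁻¹ ∈ Subgroup.zpowers (rt d s θ x j k) ∧
    (rt d s θ x i j * (rt d s θ x j i)⁻¹ * rt d s θ x i j) * rt d s θ x k j *
      (rt d s θ x i j * (rt d s θ x j i)⁻¹ * rt d s θ x i j)⁻¹ ∈ Subgroup.zpowers (rt d s θ x k i) := by
  have R := h.toRt
  obtain ⟨d1, d2, d3, d4⟩ := dec_mon i j k h1 h2 h3
  have Ni : Nrm d s θ x (d * y * n)⁻¹ (fun r => pn (pd r)) := R.nrm_m.inv (by
    intro r; show pd (pn (pn (pd r))) = r; rw [pn_pn, pd_pd])
  rw [← Sub_eq, ← Sub_eq]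
  rcases h.m_eq i j h1 with e | e
  · have N := ((R.nrm_g (idx i j)).mul Ni).mul (R.nrm_g_inv (idx i j))
    rw [e]
    constructor
    · have := (N (idx i k) _).2 (rt_mem d s θ x i k)
      rw [← d3]; exact this
    · have := (N (idx k j) _).2 (rt_mem d s θ x k j)
      rw [← d4]; exact this
  · have N := ((R.nrm_g (idx i j)).mul R.nrm_m).mul (R.nrm_g_inv (idx i j))
    rw [e]
    constructor
    · have := (N (idx i k) _).2 (rt_mem d s θ x i k)
      rw [← d1]; exact this
    · have := (N (idx k j) _).2 (rt_mem d s θ x k j)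
      rw [← d2]; exact this

end RK

end Cfsg.Agent.LargeExtra.W2.LFour.Root
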