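import Cfsg.Agent.LargeExtra.W2.LFour.Root

/-!
# S1759, `L₄(3)`: relations between the root subgroups (helper995)
-/

set_option autoImplicit false
set_option linter.unusedSectionVars false

namespace Cfsg.Agent.LargeExtra.W2.LFour.Root

variable {G : Type*} [Group G]

/-- `g r` acts as -/
def pG (r : R) (t : R) : R :=
  let t₁ := if r.2.2 then ps t else t
  let t₂ := if r.2.1 then pd t₁ else t₁
  match r.1 with
  | 0 => t₂
  | 1 => pθ t₂
  | 2 => pθ (pθ t₂)

/-- `(g r)⁻¹` acts as -/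
def pT (r : R) (t : R) : R :=
  let t₂ := match r.1 with
    | 0 => t
    | 1 => pθ (pθ t)
    | 2 => pθ t
  let t₁ := if r.2.1 then pd t₂ else t₂
  if r.2.2 then ps t₁ else t₁

theorem pG_pT : ∀ r t, pG r (pT r t) = t := by decide
theorem pT_pG : ∀ r t, pT r (pG r t) = t := by decide
theorem pT_self : ∀ r, pT r r = (0, false, false) := by decide
theorem pn_pn : ∀ t, pn (pn t) = t := by decide
theorem pd_pd : ∀ t, pd (pd t) = t := by decide

/-- elementwise commuting root subgroups -/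
def Comm (d s θ x : G) (r t : R) : Prop := ∀ a ∈ Sub d s θ x r, ∀ b ∈ Sub d s θ x t, a * b = b * a

/-- commutators of `r, t` lie in `u` -/
def Br (d s θ x : G) (r t u : R) : Prop :=
  ∀ a ∈ Sub d s θ x r, ∀ b ∈ Sub d s θ x t, a * b * a⁻¹ * b⁻¹ ∈ Sub d s θ x u

section

variable {d s θ x : G}

theorem Nrm.comm {h : G} {π : R → R} (H : Nrm d s θ x h π) {r t : R} :
    Comm d s θ x (π r) (π t) ↔ Comm d s θ x r t := by
  constructor
  · intro hc a ha b hb
    have := hc _ ((H r a).2 ha) _ ((H t b).2 hb)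
    have e : h * (a * b) * h⁻¹ = h * (b * a) * h⁻¹ := by
      calc h * (a * b) * h⁻¹ = h * a * h⁻¹ * (h * b * h⁻¹) := by group
        _ = h * b * h⁻¹ * (h * a * h⁻¹) := this
        _ = _ := by group
    simpa using e
  · intro hc a ha b hb
    have ea : h * (h⁻¹ * a * h) * h⁻¹ = a := by group
    have eb : h * (h⁻¹ * b * h) * h⁻¹ = b := by group
    have ha' : h⁻¹ * a * h ∈ Sub d s θ x r := by rw [← H r, ea]; exact ha
    have hb' : h⁻¹ * b * h ∈ Sub d s θ x t := by rw [← H t, eb]; exact hb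
    have := hc _ ha' _ hb'
    calc a * b = h * ((h⁻¹ * a * h) * (h⁻¹ * b * h)) * h⁻¹ := by group
      _ = h * ((h⁻¹ * b * h) * (h⁻¹ * a * h)) * h⁻¹ := by rw [this]
      _ = _ := by group

theorem Nrm.br {h : G} {π : R → R} (H : Nrm d s θ x h π) {r t u : R} :
    Br d s θ x (π r) (π t) (π u) ↔ Br d s θ x r t u := by
  constructor
  · intro hc a ha b hb
    have := hc _ ((H r a).2 ha) _ ((H t b).2 hb)
    rw [← H u]
    convert this using 1
    group
  · intro hc a ha b hb
    have ea : h * (h⁻¹ * a * h) * h⁻¹ = a := by group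
    have eb : h * (h⁻¹ * b * h) * h⁻¹ = b := by group
    have ha' : h⁻¹ * a * h ∈ Sub d s θ x r := by rw [← H r, ea]; exact ha
    have hb' : h⁻¹ * b * h ∈ Sub d s θ x t := by rw [← H t, eb]; exact hb
    have := (H u _).2 (hc _ ha' _ hb')
    convert this using 1
    group

theorem Comm.symm {r t : R} (H : Comm d s θ x r t) : Comm d s θ x t r :=
  fun a ha b hb => (H b hb a ha).symm

theorem comm_of {r t : R} (H : X d s θ x r * X d s θ x t = X d s θ x t * X d s θ x r) :
    Comm d s θ x r t := by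
  rintro _ ⟨m, rfl⟩ _ ⟨n, rfl⟩
  exact ((show Commute (X d s θ x r) (X d s θ x t) from H).zpow_zpow m n).eq

end

/-- The configuration together with the odd core `K` of `C_G(x)`. -/
structure RK (z y d s θ n x : G) (K : Subgroup G) : Prop extends Rt z y d s θ n x where
  le : ∀ a ∈ K, a * x = x * a
  x_mem : x ∈ K
  inv : ∀ a ∈ K, z * a * z⁻¹ * a ∈ Subgroup.zpowers x
  conj_n : ∀ a ∈ K, n * a * n⁻¹ ∈ K
  mem : ∃ p q, X d s θ x (1, p, false) ∈ K ∧ X d s θ x (1, q, true) ∈ K

namespace Rt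

variable {z y d s θ n x : G} (h : Rt z y d s θ n x)

include h

theorem nrm_θ : Nrm d s θ x θ pθ := nrm_of _ _ h.θ_X
theorem nrm_d : Nrm d s θ x d pd := nrm_of _ _ h.d_X
theorem nrm_s : Nrm d s θ x s ps := nrm_of _ _ h.s_X
theorem nrm_n : Nrm d s θ x n pn := nrm_of _ _ h.n_X

theorem nrm_g (r : R) : Nrm d s θ x (g d s θ r) (pG r) := by
  have hs : Nrm d s θ x (if r.2.2 then s else 1) (fun t => if r.2.2 then ps t else t) := by
    cases r.2.2
    · exact Nrm.one
    · exact h.nrm_s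
  have hd : Nrm d s θ x (if r.2.1 then d else 1) (fun t => if r.2.1 then pd t else t) := by
    cases r.2.1
    · exact Nrm.one
    · exact h.nrm_d
  have hθ : Nrm d s θ x (θ ^ (r.1 : ℕ)) (fun t => match r.1 with
    | 0 => t
    | 1 => pθ t
    | 2 => pθ (pθ t)) := by
    obtain ⟨a, p, q⟩ := r
    fin_cases a
    · simp only [Fin.zero_eta, Fin.isValue]
      exact Nrm.one.congr (pow_zero _).symm (fun _ => rfl)
    · exact h.nrm_θ.congr (pow_one _).symm (fun _ => rfl)
    · exact (h.nrm_θ.mul h.nrm_θ).congr (pow_two _).symm (fun _ => rfl)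
  have := (hθ.mul hd).mul hs
  exact this.congr rfl (fun t => by
    obtain ⟨a, p, q⟩ := r
    fin_cases a <;> rfl)

theorem nrm_g_inv (r : R) : Nrm d s θ x (g d s θ r)⁻¹ (pT r) := (h.nrm_g r).inv (pG_pT r)

theorem X3 (r : R) : X d s θ x r ^ 3 = 1 := by
  unfold X
  rw [← MulAut.conj_apply, ← map_pow, h.x3, map_one]

theorem X_ne (r : R) : X d s θ x r ≠ 1 := by
  intro e
  apply h.x_ne
  unfold X at e
  rw [← MulAut.conj_apply] at e
  exact (MulEquiv.map_eq_one_iff _).1 e

theorem comm_T {r t : R} (H : Comm d s θ x (0, false, false) (pT r t)) : Comm d s θ x r t := by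
  have e : pT r r = (0, false, false) := pT_self r
  rw [← e] at H
  exact (h.nrm_g_inv r).comm.1 H

theorem br_T {r t u : R} (H : Br d s θ x (pT u r) (pT u t) (0, false, false)) : Br d s θ x r t u := by
  have e : pT u u = (0, false, false) := pT_self u
  rw [← e] at H
  exact (h.nrm_g_inv u).br.1 H

theorem X0 : X d s θ x (0, false, false) = x := by
  rw [X_def, g0]; simp

theorem X01 : X d s θ x (0, true, false) = d * x * d⁻¹ := by
  rw [X_def, g0]; simp

theorem X02 : X d s θ x (0, false, true) = s * x * s⁻¹ := by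
  rw [X_def, g0]; simp

theorem X03 : X d s θ x (0, true, true) = d * s * x * (d * s)⁻¹ := by
  rw [X_def, g0]; simp

theorem comm_1 : Comm d s θ x (0, false, false) (0, false, false) := comm_of rfl
theorem comm_34 : Comm d s θ x (0, false, false) (0, false, true) :=
  comm_of (by rw [h.X0, h.X02]; exact h.c34)
theorem comm_43 : Comm d s θ x (0, false, false) (0, true, true) :=
  comm_of (by rw [h.X0, h.X03]; exact h.c43)

/-- `(d y n)² = z` -/
theorem dyn_sq : (d * y * n) * (d * y * n) = z := by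
  calc (d * y * n) * (d * y * n) = d * y * (n * d) * y * n := by group
    _ = d * (y * d) * (n * y) * n := by rw [h.nd]; group
    _ = d * (d * y) * (y * z * n) * n := by rw [h.yd', h.ny]
    _ = (d * d) * (y * y) * z * (n * n) := by group
    _ = z := by rw [h.dd, h.yy, h.nn]; group

/-- `z` lies in every subgroup containing `x` and `d x d⁻¹` -/
theorem z_mem {H : Subgroup G} (h1 : x ∈ H) (h2 : d * x * d⁻¹ ∈ H) : d * y * n ∈ H ∧ z ∈ H := by
  have e : d * y * n = (x * (d * x * d⁻¹) * x)⁻¹ := by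
    rw [eq_comm, inv_eq_iff_mul_eq_one]; exact h.m
  have m1 : d * y * n ∈ H := by
    rw [e]; exact H.inv_mem (H.mul_mem (H.mul_mem h1 h2) h1)
  exact ⟨m1, by rw [← h.dyn_sq]; exact H.mul_mem m1 m1⟩

/-- `x` and `d x d⁻¹` do not commute -/
theorem ncomm : ¬ Comm d s θ x (0, false, false) (0, true, false) := by
  intro H
  have H' := H _ (mem_Sub _) _ (mem_Sub _)
  rw [h.X0, h.X01] at H'
  -- `(d y n)⁻¹ = x x' x` has cube one
  have e : (x * (d * x * d⁻¹) * x) ^ 3 = 1 := by
    have c1 : Commute x (d * x * d⁻¹) := H'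
    have e3 : (d * x * d⁻¹) ^ 3 = 1 := by rw [← MulAut.conj_apply, ← map_pow, h.x3, map_one]
    have c2 : Commute (x * (d * x * d⁻¹)) x := (Commute.refl x).mul_left c1.symm
    rw [c2.mul_pow, c1.mul_pow, e3, h.x3, mul_one, mul_one]
  have e' : d * y * n = (x * (d * x * d⁻¹) * x)⁻¹ := by
    rw [eq_comm, inv_eq_iff_mul_eq_one]; exact h.m
  have e3 : (d * y * n) ^ 3 = 1 := by rw [e', inv_pow, e, inv_one]
  have e4 : (d * y * n) ^ 4 = 1 := by
    have : (d * y * n) ^ 4 = ((d * y * n) * (d * y * n)) * ((d * y * n) * (d * y * n)) := by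
      simp only [pow_succ, pow_zero, one_mul, mul_assoc]
    rw [this, h.dyn_sq, h.zz]
  have e1 : d * y * n = 1 := by
    have : (d * y * n) ^ 4 = (d * y * n) ^ 3 * (d * y * n) := pow_succ _ _
    rw [e4, e3, one_mul] at this
    exact this.symm
  apply h.z_ne
  rw [← h.dyn_sq, e1, one_mul]

theorem z_X1 (p q : Bool) : z * X d s θ x (1, p, q) * z⁻¹ = (X d s θ x (1, p, q))⁻¹ := by
  have e : z * g d s θ (1, p, q) = g d s θ (1, p, q) * (y * z) := by
    rw [g1]
    cases p <;> cases q <;>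
      simp only [if_true, if_false, Bool.false_eq_true, mul_assoc, mul_one, one_mul, h.zθ, lc h.zθ, h.yθ, lc h.yθ,
        h.sθ, lc h.sθ, h.dθ, lc h.dθ, h.ds, lc h.ds, h.yd', lc h.yd', h.ys', lc h.ys', h.zd', lc h.zd', h.zs', lc h.zs',
        h.yz, lc h.yz, h.zz, h.zz', h.yy, h.yy', h.dd, h.dd', h.ss, h.ss', h.θθθ, h.θθθ']
  have e1 : (y * z) * x * (y * z)⁻¹ = x⁻¹ := by
    have : (y * z) * x * (y * z)⁻¹ = y * (z * x * z⁻¹) * y⁻¹ := by group
    rw [this, h.z_x, h.y_x]
  calc z * X d s θ x (1, p, q) * z⁻¹ = (z * g d s θ (1, p, q)) * x * (z * g d s θ (1, p, q))⁻¹ := by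
        rw [X_def]; group
    _ = g d s θ (1, p, q) * ((y * z) * x * (y * z)⁻¹) * (g d s θ (1, p, q))⁻¹ := by rw [e]; group
    _ = _ := by rw [e1, X_def]; group

theorem y_X1 (p q : Bool) : y * X d s θ x (1, p, q) * y⁻¹ = X d s θ x (1, p, q) := by
  have e : y * g d s θ (1, p, q) = g d s θ (1, p, q) * z := by
    rw [g1]
    cases p <;> cases q <;>
      simp only [if_true, if_false, Bool.false_eq_true, mul_assoc, mul_one, one_mul, h.zθ, lc h.zθ, h.yθ, lc h.yθ,
        h.sθ, lc h.sθ, h.dθ, lc h.dθ, h.ds, lc h.ds, h.yd', lc h.yd', h.ys', lc h.ys', h.zd', lc h.zd', h.zs', lc h.zs',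
        h.yz, lc h.yz, h.zz, h.zz', h.yy, h.yy', h.dd, h.dd', h.ss, h.ss', h.θθθ, h.θθθ']
  calc y * X d s θ x (1, p, q) * y⁻¹ = (y * g d s θ (1, p, q)) * x * (y * g d s θ (1, p, q))⁻¹ := by
        rw [X_def]; group
    _ = g d s θ (1, p, q) * (z * x * z⁻¹) * (g d s θ (1, p, q))⁻¹ := by rw [e]; group
    _ = _ := by rw [h.z_x, X_def]

theorem z_X2 (p q : Bool) : z * X d s θ x (2, p, q) * z⁻¹ = (X d s θ x (2, p, q))⁻¹ := by
  have e : z * g d s θ (2, p, q) = g d s θ (2, p, q) * y := by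
    rw [g2]
    cases p <;> cases q <;>
      simp only [if_true, if_false, Bool.false_eq_true, mul_assoc, mul_one, one_mul, h.zθ, lc h.zθ, h.yθ, lc h.yθ,
        h.sθ, lc h.sθ, h.dθ, lc h.dθ, h.ds, lc h.ds, h.yd', lc h.yd', h.ys', lc h.ys', h.zd', lc h.zd', h.zs', lc h.zs',
        h.yz, lc h.yz, h.zz, h.zz', h.yy, h.yy', h.dd, h.dd', h.ss, h.ss', h.θθθ, h.θθθ']
  calc z * X d s θ x (2, p, q) * z⁻¹ = (z * g d s θ (2, p, q)) * x * (z * g d s θ (2, p, q))⁻¹ := by
        rw [X_def]; group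
    _ = g d s θ (2, p, q) * (y * x * y⁻¹) * (g d s θ (2, p, q))⁻¹ := by rw [e]; group
    _ = _ := by rw [h.y_x, X_def]; group

theorem y_X2 (p q : Bool) : y * X d s θ x (2, p, q) * y⁻¹ = (X d s θ x (2, p, q))⁻¹ := by
  have e : y * g d s θ (2, p, q) = g d s θ (2, p, q) * (y * z) := by
    rw [g2]
    cases p <;> cases q <;>
      simp only [if_true, if_false, Bool.false_eq_true, mul_assoc, mul_one, one_mul, h.zθ, lc h.zθ, h.yθ, lc h.yθ,
        h.sθ, lc h.sθ, h.dθ, lc h.dθ, h.ds, lc h.ds, h.yd', lc h.yd', h.ys', lc h.ys', h.zd', lc h.zd', h.zs', lc h.zs',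
        h.yz, lc h.yz, h.zz, h.zz', h.yy, h.yy', h.dd, h.dd', h.ss, h.ss', h.θθθ, h.θθθ']
  have e1 : (y * z) * x * (y * z)⁻¹ = x⁻¹ := by
    have : (y * z) * x * (y * z)⁻¹ = y * (z * x * z⁻¹) * y⁻¹ := by group
    rw [this, h.z_x, h.y_x]
  calc y * X d s θ x (2, p, q) * y⁻¹ = (y * g d s θ (2, p, q)) * x * (y * g d s θ (2, p, q))⁻¹ := by
        rw [X_def]; group
    _ = g d s θ (2, p, q) * ((y * z) * x * (y * z)⁻¹) * (g d s θ (2, p, q))⁻¹ := by rw [e]; group
    _ = _ := by rw [e1, X_def]; group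

/-- `y` normalises all root subgroups -/
theorem nrm_y : Nrm d s θ x y (fun r => r) := by
  apply nrm_of
  rintro ⟨a, p, q⟩
  fin_cases a
  · right
    show y * X d s θ x (0, p, q) * y⁻¹ = (X d s θ x (0, p, q))⁻¹
    have e : y * g d s θ (0, p, q) = g d s θ (0, p, q) * y := by
      rw [Rt.g0]
      cases p <;> cases q <;> simp [h.yd', h.ys', mul_assoc, lc h.yd']
    calc y * X d s θ x (0, p, q) * y⁻¹ = (y * g d s θ (0, p, q)) * x * (y * g d s θ (0, p, q))⁻¹ := by
          rw [X_def]; group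
      _ = g d s θ (0, p, q) * (y * x * y⁻¹) * (g d s θ (0, p, q))⁻¹ := by rw [e]; group
      _ = _ := by rw [h.y_x, X_def]; group
  · left; exact h.y_X1 p q
  · right; exact h.y_X2 p q

theorem nrm_m : Nrm d s θ x (d * y * n) (fun r => pd (pn r)) :=
  ((h.nrm_d.mul h.nrm_y).mul h.nrm_n).congr rfl (fun _ => rfl)

/-- an element of order three cannot be inverted and centralised by the same element -/
theorem false_of_inv {r : R} {t : G} (h1 : t * X d s θ x r * t⁻¹ = (X d s θ x r)⁻¹)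
    (h2 : t * X d s θ x r * t⁻¹ = X d s θ x r) : False := by
  rw [h2] at h1
  have h3 := h.X3 r
  have h4 : X d s θ x r * X d s θ x r = 1 := by
    nth_rw 1 [h1]; group
  apply h.X_ne r
  have : X d s θ x r ^ 3 = (X d s θ x r * X d s θ x r) * X d s θ x r := by
    rw [pow_succ, pow_two]
  rw [this, h4, one_mul] at h3
  exact h3

theorem sub_le {r : R} {K : Subgroup G} (hr : X d s θ x r ∈ K) : Sub d s θ x r ≤ K := by
  unfold Sub
  rwa [Subgroup.zpowers_le]

/-- no root element outside `C(z)` commutes with `x` and `d x d⁻¹` -/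
theorem false_of_comm {p q : Bool} (h1 : Comm d s θ x (0, false, false) (1, p, q))
    (h2 : Comm d s θ x (0, true, false) (1, p, q)) : False := by
  have hz := (h.z_mem (H := Subgroup.centralizer {X d s θ x (1, p, q)})
    (by rw [Subgroup.mem_centralizer_singleton_iff]
        have := h1 _ (mem_Sub _) _ (mem_Sub _)
        rw [h.X0] at this
        exact this)
    (by rw [Subgroup.mem_centralizer_singleton_iff]
        have := h2 _ (mem_Sub _) _ (mem_Sub _)
        rw [h.X01] at this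
        exact this)).2
  rw [Subgroup.mem_centralizer_singleton_iff] at hz
  apply h.false_of_inv (h.z_X1 p q)
  rw [hz]
  group

/-- `y` lies in every subgroup containing `X13, X31` -/
theorem y_mem {H : Subgroup G} (q : Bool) (h1 : X d s θ x (1, false, q) ∈ H) (h2 : X d s θ x (1, true, q) ∈ H) :
    y ∈ H := by
  have key := (h.z_mem (H := H.map (MulAut.conj (g d s θ (1, false, q))⁻¹).toMonoidHom)
    ⟨X d s θ x (1, false, q), h1, by
      show (g d s θ (1, false, q))⁻¹ * X d s θ x (1, false, q) * (g d s θ (1, false, q))⁻¹⁻¹ = x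
      rw [X_def]; group⟩
    ⟨X d s θ x (1, true, q), h2, by
      show (g d s θ (1, false, q))⁻¹ * X d s θ x (1, true, q) * (g d s θ (1, false, q))⁻¹⁻¹ = d * x * d⁻¹
      have e : g d s θ (1, true, q) = g d s θ (1, false, q) * d := by
        rw [g1, g1]
        cases q
        · simp
        · simp [mul_assoc, h.ds]
      rw [X_def, e]; group⟩).2
  obtain ⟨w, hw, hw'⟩ := key
  have e : w = y := by
    have hw'' : (g d s θ (1, false, q))⁻¹ * w * (g d s θ (1, false, q))⁻¹⁻¹ = z := hw'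
    have : w = g d s θ (1, false, q) * z * (g d s θ (1, false, q))⁻¹ := by
      rw [← hw'']; group
    rw [this, g1]
    have e2 : (if q = true then s else 1) * z = z * (if q = true then s else 1) := by
      cases q
      · simp
      · simp [h.zs]
    have : θ * ((if (false : Bool) = true then d else 1) * if q = true then s else 1) * z *
        (θ * ((if (false : Bool) = true then d else 1) * if q = true then s else 1))⁻¹ =
        θ * ((if q = true then s else 1) * z * (if q = true then s else 1)⁻¹) * θ⁻¹ := by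
      simp only [Bool.false_eq_true, if_false, one_mul, mul_inv_rev, mul_assoc]
    rw [this, e2]
    have : z * (if q = true then s else 1) * (if q = true then s else 1)⁻¹ = z := by group
    rw [this, h.θ_z]
  rw [← e]; exact hw

end Rt

namespace RK

variable {z y d s θ n x : G} {K : Subgroup G} (h : RK z y d s θ n x K)

include h

theorem comm_mem {a b : G} (ha : a ∈ K) (hb : b ∈ K) : a * b * a⁻¹ * b⁻¹ ∈ Subgroup.zpowers x := by
  -- `z a z⁻¹ = c a⁻¹`, `c` central in `K`
  have cen : ∀ c ∈ Subgroup.zpowers x, ∀ t ∈ K, c * t = t * c := by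
    rintro _ ⟨m, rfl⟩ t ht
    exact ((show Commute t x from h.le t ht).zpow_right m).eq.symm
  have zpm : ∀ c ∈ Subgroup.zpowers x, c ∈ K := by
    rintro _ ⟨m, rfl⟩; exact K.zpow_mem h.x_mem m
  -- apply with inverses
  have key : ∀ a ∈ K, ∀ b ∈ K, a⁻¹ * b⁻¹ * a * b ∈ Subgroup.zpowers x := by
    intro a ha b hb
    obtain ⟨ca, hca, ea⟩ : ∃ c ∈ Subgroup.zpowers x, z * a * z⁻¹ = c * a⁻¹ :=
      ⟨_, h.inv a ha, by group⟩
    obtain ⟨cb, hcb, eb⟩ : ∃ c ∈ Subgroup.zpowers x, z * b * z⁻¹ = c * b⁻¹ :=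
      ⟨_, h.inv b hb, by group⟩
    obtain ⟨cc, hcc, ec⟩ : ∃ c ∈ Subgroup.zpowers x, z * (a * b) * z⁻¹ = c * (a * b)⁻¹ :=
      ⟨_, h.inv _ (K.mul_mem ha hb), by group⟩
    have e : cc * (b⁻¹ * a⁻¹) = (ca * cb) * (a⁻¹ * b⁻¹) := by
      calc cc * (b⁻¹ * a⁻¹) = z * (a * b) * z⁻¹ := by rw [ec, mul_inv_rev]
        _ = (z * a * z⁻¹) * (z * b * z⁻¹) := by group
        _ = ca * (a⁻¹ * cb) * b⁻¹ := by rw [ea, eb]; group
        _ = ca * (cb * a⁻¹) * b⁻¹ := by rw [cen cb hcb a⁻¹ (K.inv_mem ha)]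
        _ = _ := by group
    have e2 : a⁻¹ * b⁻¹ * a * b = (ca * cb)⁻¹ * cc := by
      have : a⁻¹ * b⁻¹ = (ca * cb)⁻¹ * (cc * (b⁻¹ * a⁻¹)) := by rw [e]; group
      rw [this]; group
    rw [e2]
    exact (Subgroup.zpowers x).mul_mem ((Subgroup.zpowers x).inv_mem ((Subgroup.zpowers x).mul_mem hca hcb)) hcc
  have := key a⁻¹ (K.inv_mem ha) b⁻¹ (K.inv_mem hb)
  simpa using this

theorem comm_12 {r : R} (hr : X d s θ x r ∈ K) : Comm d s θ x (0, false, false) r := by
  apply comm_of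
  rw [h.X0]
  exact (h.le _ hr).symm

theorem br_12 {r t : R} (hr : X d s θ x r ∈ K) (ht : X d s θ x t ∈ K) : Br d s θ x r t (0, false, false) := by
  intro a ha b hb
  have := h.comm_mem (h.toRt.sub_le hr ha) (h.toRt.sub_le ht hb)
  unfold Sub
  rw [h.X0]; exact this

theorem mem_n {r : R} (hr : X d s θ x r ∈ K) : X d s θ x (pn r) ∈ K := by
  have := h.conj_n _ hr
  rcases h.toRt.n_X r with e | e
  · rw [← e]; exact this
  · have e' : X d s θ x (pn r) = (n * X d s θ x r * n⁻¹)⁻¹ := by rw [e, inv_inv]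
    rw [e']; exact K.inv_mem this

end RK

end Cfsg.Agent.LargeExtra.W2.LFour.Root
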