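import Mathlib
import Cfsg.Agent.AGraded.Steinberg

/-!
# The sign lemma for `PSL(4,3)`

Elements `r i j` of order three with commutator relations up to inverse, and with the monomial condition,
can be changed by signs so that they satisfy the Steinberg relations over `ZMod 3`.
-/

set_option autoImplicit false

namespace Cfsg.Agent.LargeExtra.W2.LFour.Sign

open scoped commutatorElement

variable {G : Type*} [Group G]

/-- power with exponent in `ZMod 3` -/
def pw (g : G) (a : ZMod 3) : G := g ^ a.val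

theorem pow_congr {g : G} (hg : g ^ 3 = 1) {m n : ℕ} (h : m % 3 = n % 3) : g ^ m = g ^ n := by
  rw [← Nat.mod_add_div m 3, ← Nat.mod_add_div n 3, pow_add, pow_add, pow_mul, pow_mul, hg, one_pow, one_pow, h]

theorem pw_add {g : G} (hg : g ^ 3 = 1) (a b : ZMod 3) : pw g (a + b) = pw g a * pw g b := by
  unfold pw
  rw [← pow_add]
  apply pow_congr hg
  rw [ZMod.val_add, Nat.mod_mod]

theorem pw_pow {g : G} (hg : g ^ 3 = 1) (a : ZMod 3) (n : ℕ) : (pw g a) ^ n = pw g (a * n) := by
  unfold pw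
  rw [← pow_mul]
  apply pow_congr hg
  rw [ZMod.val_mul, Nat.mod_mod, ZMod.val_natCast, Nat.mul_mod_mod]

theorem pw_one {g : G} : pw g 1 = g := by
  unfold pw
  rw [show (1 : ZMod 3).val = 1 from rfl, pow_one]

theorem pw_zero {g : G} : pw g 0 = 1 := by
  unfold pw
  rw [show (0 : ZMod 3).val = 0 from rfl, pow_zero]

theorem pw_neg_one {g : G} (hg : g ^ 3 = 1) : pw g (-1) = g⁻¹ := by
  have h := pw_add hg 1 (-1)
  rw [add_neg_cancel, pw_zero, pw_one] at h
  exact (inv_eq_of_mul_eq_one_right h.symm).symm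

theorem pw_inj {g : G} (hg : g ^ 3 = 1) (h1 : g ≠ 1) {a b : ZMod 3} (h : pw g a = pw g b) : a = b := by
  have hord : orderOf g = 3 := orderOf_eq_prime hg h1
  unfold pw at h
  rw [pow_inj_mod, hord, Nat.mod_eq_of_lt (ZMod.val_lt a), Nat.mod_eq_of_lt (ZMod.val_lt b)] at h
  exact ZMod.val_injective 3 h

theorem pw_commute {g h : G} (hc : Commute g h) (a b : ZMod 3) : Commute (pw g a) (pw h b) :=
  (hc.pow_pow _ _)

theorem conj_pw (g h : G) (a : ZMod 3) : g * pw h a * g⁻¹ = pw (g * h * g⁻¹) a := by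
  unfold pw
  rw [conj_pow]

theorem comm_pow_left {g h k : G} (hk : ⁅g, h⁆ = k) (h1 : Commute k g) (n : ℕ) : ⁅g ^ n, h⁆ = k ^ n := by
  induction n with
  | zero => simp
  | succ n ih =>
    have h2 : g * h * g⁻¹ * h⁻¹ = k := by rw [← hk, commutatorElement_def]
    have h3 : g ^ n * h * (g ^ n)⁻¹ * h⁻¹ = k ^ n := by rw [← ih, commutatorElement_def]
    have h4 : g ^ n * k = k * g ^ n := (h1.symm.pow_left n).eq
    rw [commutatorElement_def, pow_succ]
    have : g ^ n * g * h * (g ^ n * g)⁻¹ * h⁻¹ = (g ^ n * (g * h * g⁻¹ * h⁻¹) * (g ^ n)⁻¹) * (g ^ n * h * (g ^ n)⁻¹ * h⁻¹) := by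
      group
    rw [this, h2, h3, h4, pow_succ']
    group

theorem comm_pow_right {g h k : G} (hk : ⁅g, h⁆ = k) (h1 : Commute k h) (n : ℕ) : ⁅g, h ^ n⁆ = k ^ n := by
  have h2 : ⁅h, g⁆ = k⁻¹ := by rw [← hk, commutatorElement_inv]
  have h3 := comm_pow_left h2 (h1.inv_left) n
  rw [← commutatorElement_inv, h3, inv_pow, inv_inv]

theorem comm_pow_pow {g h k : G} (hk : ⁅g, h⁆ = k) (h1 : Commute k g) (h2 : Commute k h) (m n : ℕ) :
    ⁅g ^ m, h ^ n⁆ = k ^ (m * n) := by
  rw [comm_pow_right (comm_pow_left hk h1 m) (h2.pow_left m) n, pow_mul]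

theorem comm_pw {g h k : G} (hg : k ^ 3 = 1) {c : ZMod 3} (hk : ⁅g, h⁆ = pw k c) (h1 : Commute k g) (h2 : Commute k h)
    (a b : ZMod 3) : ⁅pw g a, pw h b⁆ = pw k (c * a * b) := by
  have h3 : Commute (pw k c) g := h1.pow_left _
  have h4 : Commute (pw k c) h := h2.pow_left _
  have := comm_pow_pow hk h3 h4 a.val b.val
  unfold pw at this ⊢
  rw [this, ← pow_mul]
  apply pow_congr hg
  rw [ZMod.val_mul, ZMod.val_mul, Nat.mod_mod, Nat.mod_mul_mod, ← mul_assoc]

/-- The hypotheses of the sign lemma. -/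
structure Hyp (r : Fin 4 → Fin 4 → G) : Prop where
  cube : ∀ i j, i ≠ j → r i j ^ 3 = 1
  comm : ∀ i j k l, i ≠ j → k ≠ l → j ≠ k → i ≠ l → r i j * r k l = r k l * r i j
  br : ∀ i j k, i ≠ j → j ≠ k → i ≠ k → ⁅r i j, r j k⁆ = r i k ∨ ⁅r i j, r j k⁆ = (r i k)⁻¹
  mon : ∀ i j k, i ≠ j → j ≠ k → i ≠ k →
    (r i j * (r j i)⁻¹ * r i j) * r i k * (r i j * (r j i)⁻¹ * r i j)⁻¹ ∈ Subgroup.zpowers (r j k) ∧
      (r i j * (r j i)⁻¹ * r i j) * r k j * (r i j * (r j i)⁻¹ * r i j)⁻¹ ∈ Subgroup.zpowers (r k i)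
  ne : ∀ i j, i ≠ j → r i j ≠ 1

variable {r : Fin 4 → Fin 4 → G}

theorem exists_sign (H : Hyp r) : ∃ c : Fin 4 → Fin 4 → Fin 4 → ZMod 3,
    ∀ i j k, i ≠ j → j ≠ k → i ≠ k → (c i j k) * (c i j k) = 1 ∧ ⁅r i j, r j k⁆ = pw (r i k) (c i j k) := by
  classical
  refine ⟨fun i j k => if ⁅r i j, r j k⁆ = r i k then 1 else -1, fun i j k hij hjk hik => ?_⟩
  by_cases h : ⁅r i j, r j k⁆ = r i k
  · simp only [h, if_true, pw_one]
    exact ⟨by decide, trivial⟩
  · simp only [h, if_false]
    refine ⟨by decide, ?_⟩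
    rw [pw_neg_one (H.cube i k hik)]
    exact (H.br i j k hij hjk hik).resolve_left h

theorem zpowers_pw {g : G} (hg : g ^ 3 = 1) {x : G} (hx : x ∈ Subgroup.zpowers g) : ∃ a : ZMod 3, x = pw g a := by
  obtain ⟨n, rfl⟩ := Subgroup.mem_zpowers_iff.1 hx
  refine ⟨(n : ZMod 3), ?_⟩
  unfold pw
  have h1 : ((((n : ZMod 3).val : ℕ) : ℤ) : ZMod 3) = (n : ZMod 3) := by
    push_cast
    exact ZMod.natCast_zmod_val _
  have h2 : (3 : ℤ) ∣ n - ((n : ZMod 3).val : ℤ) := by
    have h5 : ((n - ((n : ZMod 3).val : ℤ) : ℤ) : ZMod 3) = 0 := by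
      push_cast
      rw [ZMod.natCast_zmod_val, sub_self]
    exact_mod_cast (ZMod.intCast_zmod_eq_zero_iff_dvd _ 3).1 h5
  obtain ⟨t, ht⟩ := h2
  have h3 : n = 3 * t + ((n : ZMod 3).val : ℤ) := by omega
  conv_lhs => rw [h3, zpow_add, zpow_mul]
  have h4 : g ^ (3 : ℤ) = 1 := by exact_mod_cast hg
  rw [h4, one_zpow, one_mul, zpow_natCast]

section

variable (H : Hyp r) {c : Fin 4 → Fin 4 → Fin 4 → ZMod 3}
  (hc : ∀ i j k, i ≠ j → j ≠ k → i ≠ k → (c i j k) * (c i j k) = 1 ∧ ⁅r i j, r j k⁆ = pw (r i k) (c i j k))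

include H hc

/-- action of `r i j` on `r j k` -/
theorem act₁ {i j k : Fin 4} (hij : i ≠ j) (hjk : j ≠ k) (hik : i ≠ k) (a b : ZMod 3) :
    pw (r i j) a * pw (r j k) b * (pw (r i j) a)⁻¹ = pw (r i k) (c i j k * a * b) * pw (r j k) b := by
  have h1 : Commute (r i k) (r i j) := (H.comm i k i j hik hij hik.symm hij)
  have h2 : Commute (r i k) (r j k) := (H.comm i k j k hik hjk hjk.symm hik)
  have h3 := comm_pw (H.cube i k hik) (hc i j k hij hjk hik).2 h1 h2 a b
  rw [commutatorElement_def] at h3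
  rw [← h3]
  group

/-- action of `r i j` on `r k i` -/
theorem act₂ {i j k : Fin 4} (hij : i ≠ j) (hjk : j ≠ k) (hik : i ≠ k) (a b : ZMod 3) :
    pw (r i j) a * pw (r k i) b * (pw (r i j) a)⁻¹ = pw (r k j) (-(c k i j * a * b)) * pw (r k i) b := by
  have h1 : Commute (r k j) (r k i) := (H.comm k j k i hjk.symm hik.symm hjk hik.symm)
  have h2 : Commute (r k j) (r i j) := (H.comm k j i j hjk.symm hij hij.symm hjk.symm)
  have h3 := comm_pw (H.cube k j hjk.symm) (hc k i j hik.symm hij hjk.symm).2 h1 h2 b a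
  have h4 : ⁅pw (r i j) a, pw (r k i) b⁆ = (pw (r k j) (c k i j * b * a))⁻¹ := by
    rw [← h3, commutatorElement_inv]
  have h5 : (pw (r k j) (c k i j * b * a))⁻¹ = pw (r k j) (-(c k i j * a * b)) := by
    apply inv_eq_of_mul_eq_one_right
    rw [← pw_add (H.cube k j hjk.symm)]
    have : c k i j * b * a + -(c k i j * a * b) = 0 := by ring
    rw [this, pw_zero]
  rw [commutatorElement_def, h5] at h4
  rw [← h4]
  group

theorem indep₁ {i j k : Fin 4} (hij : i ≠ j) (hjk : j ≠ k) (hik : i ≠ k) {a b : ZMod 3}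
    (h : pw (r i k) a = pw (r j k) b) : a = 0 := by
  -- `r j i` commutes with `r j k` but not with `r i k`
  have h1 := act₁ H hc hij.symm hik hjk 1 a
  rw [pw_one] at h1
  have h2 : r j i * pw (r i k) a * (r j i)⁻¹ = pw (r i k) a := by
    have h3 : Commute (r j i) (r j k) := (H.comm j i j k hij.symm hjk hij hjk)
    have h4 : r j i * pw (r j k) b = pw (r j k) b * r j i := (h3.pow_right _).eq
    rw [h, h4, mul_inv_cancel_right]
  rw [h2] at h1
  have h4 : pw (r j k) (c j i k * 1 * a) = pw (r j k) 0 := by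
    rw [pw_zero]
    exact (mul_eq_right.1 h1.symm)
  have h5 := pw_inj (H.cube j k hjk) (H.ne j k hjk) h4
  have h6 := (hc j i k hij.symm hik hjk).1
  calc a = (c j i k * c j i k) * a := by rw [h6, one_mul]
    _ = c j i k * (c j i k * 1 * a) := by ring
    _ = 0 := by rw [h5, mul_zero]

theorem indep₂ {i j k : Fin 4} (hij : i ≠ j) (hjk : j ≠ k) (hik : i ≠ k) {a b : ZMod 3}
    (h : pw (r k j) a = pw (r k i) b) : a = 0 := by
  have h1 := act₂ H hc hij.symm hik hjk 1 a
  rw [pw_one] at h1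
  have h2 : r j i * pw (r k j) a * (r j i)⁻¹ = pw (r k j) a := by
    have h3 : Commute (r j i) (r k i) := (H.comm j i k i hij.symm hik.symm hik hij.symm)
    have h4 : r j i * pw (r k i) b = pw (r k i) b * r j i := (h3.pow_right _).eq
    rw [h, h4, mul_inv_cancel_right]
  rw [h2] at h1
  have h4 : pw (r k i) (-(c k j i * 1 * a)) = pw (r k i) 0 := by
    rw [pw_zero]
    exact (mul_eq_right.1 h1.symm)
  have h5 := pw_inj (H.cube k i hik.symm) (H.ne k i hik.symm) h4
  have h6 := (hc k j i hjk.symm hij.symm hik.symm).1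
  calc a = (c k j i * c k j i) * a := by rw [h6, one_mul]
    _ = -(c k j i * (-(c k j i * 1 * a))) := by ring
    _ = 0 := by rw [h5, mul_zero, neg_zero]

omit H hc in
theorem conj_comp (x y z g : G) : (x * y⁻¹ * z) * g * (x * y⁻¹ * z)⁻¹ = x * (y⁻¹ * (z * g * z⁻¹) * y) * x⁻¹ := by
  group

theorem symm₁ {i j k : Fin 4} (hij : i ≠ j) (hjk : j ≠ k) (hik : i ≠ k) : c i j k = c j i k := by
  have hm := (H.mon i j k hij hjk hik).1
  obtain ⟨t, ht⟩ := zpowers_pw (H.cube j k hjk) hm
  have e1 : r i j * r i k * (r i j)⁻¹ = r i k := by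
    rw [H.comm i j i k hij hik hij.symm hik, mul_inv_cancel_right]
  have e2 : (r j i)⁻¹ * r i k * r j i = pw (r j k) (-(c j i k)) * r i k := by
    have := act₁ H hc hij.symm hik hjk (-1) 1
    rw [pw_neg_one (H.cube j i hij.symm), pw_one, inv_inv] at this
    rw [this]
    congr 2
    ring
  have e3 : r i j * (pw (r j k) (-(c j i k)) * r i k) * (r i j)⁻¹ =
      pw (r i k) (c i j k * (-(c j i k)) + 1) * pw (r j k) (-(c j i k)) := by
    have h1 := act₁ H hc hij hjk hik 1 (-(c j i k))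
    rw [pw_one, mul_one] at h1
    have h2 : Commute (r i k) (r j k) := (H.comm i k j k hik hjk hjk.symm hik)
    have h3 : r i j * (pw (r j k) (-(c j i k)) * r i k) * (r i j)⁻¹ =
        (r i j * pw (r j k) (-(c j i k)) * (r i j)⁻¹) * (r i j * r i k * (r i j)⁻¹) := by group
    rw [h3, h1, e1, pw_add (H.cube i k hik), pw_one, mul_assoc, mul_assoc]
    congr 1
    exact ((h2.pow_right _).eq).symm
  rw [conj_comp, e1, e2, e3] at ht
  have h4 : pw (r i k) (c i j k * (-(c j i k)) + 1) = pw (r j k) (t + c j i k) := by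
    rw [pw_add (H.cube j k hjk), ← ht, mul_assoc, ← pw_add (H.cube j k hjk), neg_add_cancel, pw_zero, mul_one]
  have h5 := indep₁ H hc hij hjk hik h4
  have h6 := (hc j i k hij.symm hik hjk).1
  have h7 := (hc i j k hij hjk hik).1
  calc c i j k = c i j k * (c j i k * c j i k) := by rw [h6, mul_one]
    _ = -(c i j k * (-(c j i k)) + 1) * c j i k + c j i k := by ring
    _ = c j i k := by rw [h5]; ring

theorem symm₂ {i j k : Fin 4} (hij : i ≠ j) (hjk : j ≠ k) (hik : i ≠ k) : c k i j = c k j i := by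
  have hm := (H.mon i j k hij hjk hik).2
  obtain ⟨t, ht⟩ := zpowers_pw (H.cube k i hik.symm) hm
  have e1 : r i j * r k j * (r i j)⁻¹ = r k j := by
    rw [H.comm i j k j hij hjk.symm hjk hij, mul_inv_cancel_right]
  have e2 : (r j i)⁻¹ * r k j * r j i = pw (r k i) (c k j i) * r k j := by
    have := act₂ H hc hij.symm hik hjk (-1) 1
    rw [pw_neg_one (H.cube j i hij.symm), pw_one, inv_inv] at this
    rw [this]
    congr 2
    ring
  have e3 : r i j * (pw (r k i) (c k j i) * r k j) * (r i j)⁻¹ =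
      pw (r k j) (-(c k i j * c k j i) + 1) * pw (r k i) (c k j i) := by
    have h1 := act₂ H hc hij hjk hik 1 (c k j i)
    rw [pw_one, mul_one] at h1
    have h2 : Commute (r k j) (r k i) := (H.comm k j k i hjk.symm hik.symm hjk hik.symm)
    have h3 : r i j * (pw (r k i) (c k j i) * r k j) * (r i j)⁻¹ =
        (r i j * pw (r k i) (c k j i) * (r i j)⁻¹) * (r i j * r k j * (r i j)⁻¹) := by group
    rw [h3, h1, e1, pw_add (H.cube k j hjk.symm), pw_one, mul_assoc, mul_assoc]
    congr 1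
    exact ((h2.pow_right _).eq).symm
  rw [conj_comp, e1, e2, e3] at ht
  have h4 : pw (r k j) (-(c k i j * c k j i) + 1) = pw (r k i) (t + -(c k j i)) := by
    rw [pw_add (H.cube k i hik.symm), ← ht, mul_assoc, ← pw_add (H.cube k i hik.symm), add_neg_cancel, pw_zero, mul_one]
  have h5 := indep₂ H hc hij hjk hik h4
  have h6 := (hc k j i hjk.symm hij.symm hik.symm).1
  calc c k i j = c k i j * (c k j i * c k j i) := by rw [h6, mul_one]
    _ = -(-(c k i j * c k j i) + 1) * c k j i + c k j i := by ring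
    _ = c k j i := by rw [h5]; ring

theorem jacobi {i j k l : Fin 4} (hij : i ≠ j) (hjk : j ≠ k) (hik : i ≠ k) (hil : i ≠ l) (hjl : j ≠ l) (hkl : k ≠ l) :
    c i j k * c i k l = c j k l * c i j l := by
  -- conjugate `⁅r i j, r j k⁆ = r i k ^ c` by `r k l`
  have ha : Commute (r k l) (r i j) := (H.comm k l i j hkl hij hil.symm hjk.symm)
  have h1 : r k l * r j k * (r k l)⁻¹ = pw (r j l) (-(c j k l)) * r j k := by
    have := act₂ H hc hkl hjl.symm hjk.symm 1 1
    simp only [pw_one, mul_one] at this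
    exact this
  have h2 : r k l * pw (r i k) (c i j k) * (r k l)⁻¹ = pw (r i l) (-(c i k l * c i j k)) * pw (r i k) (c i j k) := by
    have := act₂ H hc hkl hil.symm hik.symm 1 (c i j k)
    simp only [pw_one, mul_one] at this
    exact this
  have h3 : ⁅r i j, r k l * r j k * (r k l)⁻¹⁆ = r k l * pw (r i k) (c i j k) * (r k l)⁻¹ := by
    rw [← (hc i j k hij hjk hik).2, commutatorElement_def, commutatorElement_def]
    have h4 : r i j = r k l * r i j * (r k l)⁻¹ := by rw [ha.eq, mul_inv_cancel_right]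
    conv_lhs => rw [h4]
    group
  rw [h1, h2] at h3
  have h5 : ⁅r i j, pw (r j l) (-(c j k l)) * r j k⁆ =
      pw (r i l) (-(c j k l * c i j l)) * pw (r i k) (c i j k) := by
    have e1 := act₁ H hc hij hjl hil 1 (-(c j k l))
    have e2 := act₁ H hc hij hjk hik 1 1
    simp only [pw_one, mul_one] at e1 e2
    have h6 : Commute (r i k) (r j l) := (H.comm i k j l hik hjl hjk.symm hil)
    rw [commutatorElement_def]
    have h7 : r i j * (pw (r j l) (-(c j k l)) * r j k) * (r i j)⁻¹ * (pw (r j l) (-(c j k l)) * r j k)⁻¹ =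
        (r i j * pw (r j l) (-(c j k l)) * (r i j)⁻¹) * (r i j * r j k * (r i j)⁻¹) *
          (pw (r j l) (-(c j k l)) * r j k)⁻¹ := by group
    rw [h7, e1, e2]
    have h8 : pw (r j l) (-(c j k l)) * pw (r i k) (c i j k) = pw (r i k) (c i j k) * pw (r j l) (-(c j k l)) :=
      (pw_commute h6.symm _ _).eq
    have h9 : c i j l * -(c j k l) = -(c j k l * c i j l) := by ring
    rw [h9]
    calc pw (r i l) (-(c j k l * c i j l)) * pw (r j l) (-(c j k l)) * (pw (r i k) (c i j k) * r j k) *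
          (pw (r j l) (-(c j k l)) * r j k)⁻¹ =
        pw (r i l) (-(c j k l * c i j l)) * (pw (r j l) (-(c j k l)) * pw (r i k) (c i j k)) * r j k *
          (pw (r j l) (-(c j k l)) * r j k)⁻¹ := by group
      _ = _ := by rw [h8]; group
  rw [h5] at h3
  have h10 := pw_inj (H.cube i l hil) (H.ne i l hil) (mul_right_cancel h3)
  have h11 : c j k l * c i j l = c i k l * c i j k := neg_injective h10
  rw [h11]
  ring

end

/-- **Sign lemma.** -/
theorem exists_steinRel (H : Hyp r) : ∃ x : Fin 4 → Fin 4 → ZMod 3 → G, AGraded.SteinRel x ∧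
    ∀ i j, i ≠ j → x i j 1 = r i j ∨ x i j 1 = (r i j)⁻¹ := by
  classical
  obtain ⟨c, hc⟩ := exists_sign H
  let e : Fin 4 → Fin 4 → ZMod 3 := fun i j => if i = 3 ∨ j = 3 then 1 else c i j 3
  have he : ∀ i j, i ≠ j → e i j * e i j = 1 := by
    intro i j hij
    by_cases h : i = 3 ∨ j = 3
    · simp only [e, h, if_true]; decide
    · simp only [e, h, if_false]
      push Not at h
      exact (hc i j 3 hij h.2 h.1).1
  have key : ∀ i j k, i ≠ j → j ≠ k → i ≠ k → c i j k * e i j * e j k = e i k := by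
    intro i j k hij hjk hik
    by_cases hi : i = 3
    · subst hi
      have h1 : e 3 j = 1 := by simp [e]
      have h2 : e 3 k = 1 := by simp [e]
      have h3 : e j k = c j k 3 := by simp [e, hij.symm, hik.symm]
      have h4 : c 3 j k = c j k 3 := by
        rw [symm₁ H hc hij hjk hik, symm₂ H hc hik hjk.symm hij]
      rw [h1, h2, h3, h4, mul_one]
      exact (hc j k 3 hjk hik.symm hij.symm).1
    by_cases hj : j = 3
    · subst hj
      have h1 : e i 3 = 1 := by simp [e]
      have h2 : e 3 k = 1 := by simp [e]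
      have h3 : e i k = c i k 3 := by simp [e, hij, hjk.symm]
      rw [h1, h2, h3, mul_one, mul_one, symm₂ H hc hjk hik.symm hij.symm]
    by_cases hk : k = 3
    · subst hk
      have h1 : e i j = c i j 3 := by simp [e, hik, hjk]
      have h2 : e j 3 = 1 := by simp [e]
      have h3 : e i 3 = 1 := by simp [e]
      rw [h1, h2, h3, mul_one]
      exact (hc i j 3 hij hjk hik).1
    · have h1 : e i j = c i j 3 := by simp [e, hi, hj]
      have h2 : e j k = c j k 3 := by simp [e, hk, hj]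
      have h3 : e i k = c i k 3 := by simp [e, hi, hk]
      have h4 := jacobi H hc hij hjk hik hi hj hk
      have h5 := (hc i j k hij hjk hik).1
      rw [h1, h2, h3]
      calc c i j k * c i j 3 * c j k 3 = c i j k * (c j k 3 * c i j 3) := by ring
        _ = (c i j k * c i j k) * c i k 3 := by rw [← h4]; ring
        _ = c i k 3 := by rw [h5, one_mul]
  refine ⟨fun i j a => pw (r i j) (e i j * a), ⟨?_, ?_, ?_⟩, ?_⟩
  · intro i j hij a b
    simp only [mul_add]
    exact pw_add (H.cube i j hij) _ _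
  · intro i j k l hij hkl hjk hil a b
    exact (pw_commute (H.comm i j k l hij hkl hjk hil) _ _).eq
  · intro i j k hij hjk hik a b
    have h1 : Commute (r i k) (r i j) := (H.comm i k i j hik hij hik.symm hij)
    have h2 : Commute (r i k) (r j k) := (H.comm i k j k hik hjk hjk.symm hik)
    rw [comm_pw (H.cube i k hik) (hc i j k hij hjk hik).2 h1 h2]
    congr 1
    rw [← key i j k hij hjk hik]
    ring
  · intro i j hij
    simp only [mul_one]
    have h1 : e i j = 1 ∨ e i j = -1 := by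
      have := he i j hij
      revert this
      generalize e i j = t
      revert t
      decide
    rcases h1 with h1 | h1
    · left; rw [h1, pw_one]
    · right; rw [h1, pw_neg_one (H.cube i j hij)]

end Cfsg.Agent.LargeExtra.W2.LFour.Sign
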