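import Cfsg.Agent.SmallExtra438.TwistA
import Cfsg.Agent.LargeExtra.TransferFour
import Cfsg.Agent.LargeExtra.TwoCentral
import Cfsg.Agent.J2Type.SimpleRed
import Cfsg.Agent.LargeExtra.W2.LFour.Iface

/-!
# S1759, case `9aa`, case I: `z` weakly closed in `Q` ⇒ `C_G(z)` is untwisted (helper221)

If the twist is not `0` then one of `y, s, y s` is a square root of `z`, and it lies outside a subgroup of index two of
`C_G(z)`; the transfer lemma `TransferFour.exists_odd` gives a conjugate `≠ z` of `z` in `C_G(z)` whose class in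
`C_G(z)` has length not divisible by four. But all involutions outside `Q` have classes of length divisible by four.
-/

set_option autoImplicit false

namespace Cfsg.Agent.LargeExtra.W2.LFour.TwistK

open Cfsg.Agent.LargeExtra.W2 Cfsg.Agent.SmallExtra438.ModelA Cfsg.Agent.SmallExtra438.FrameA
open Cfsg.Agent.SmallExtra438.ClassA

variable {G : Type*} [Group G] [Finite G] {Q : Subgroup G} {z i j k l x₁ x₂ y s : G}

section

/-- The subgroup of `C_G(z)` of the elements with `f = 0`. -/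
def kerN (h : Case9aa Q z i j k l x₁ x₂ y s) (f : ℕ → ℕ) (hf0 : f 0 = 0)
    (hf : ∀ n < 36, ∀ m < 36, f (km n m) = (f n + f m) % 2) (hf2 : ∀ n < 36, f n < 2) : Subgroup G where
  carrier := {g | ∃ m < 1152, f (m / 32) = 0 ∧ F z i j k l x₁ x₂ y s m = g}
  one_mem' := ⟨0, by norm_num, by simpa using hf0, F_0⟩
  mul_mem' := by
    rintro _ _ ⟨m, hm, hm2, rfl⟩ ⟨n, hn, hn2, rfl⟩
    obtain ⟨t, -, ht⟩ := exists_tw h
    refine ⟨mm t m n, mm_lt hm hn, ?_, F_mul h ht hm hn⟩
    have h1 := act_lt (m / 32) (by omega) (n % 32) (by omega)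
    have h2 := Cfsg.Agent.SmallExtra438.Model.qm_lt (m % 32) (by omega) _ h1
    have h3 := (xor_tw _ h2 (tw t (m / 32) (n / 32)) (tw_lt _ _ _)).1
    have h8 : mm t m n / 32 = km (m / 32) (n / 32) := by unfold mm; omega
    rw [h8, hf _ (by omega) _ (by omega), hm2, hn2]
  inv_mem' := by
    rintro _ ⟨m, hm, hm2, rfl⟩
    obtain ⟨t, -, ht⟩ := exists_tw h
    obtain ⟨n, hn, hn2⟩ := exists_code h (c := (F z i j k l x₁ x₂ y s m)⁻¹)
      ((show Commute (F z i j k l x₁ x₂ y s m) z from F_comm h m).inv_left).eq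
    refine ⟨n, hn, ?_, hn2⟩
    have e1 : mm t m n = 0 := F_inj h (mm_lt hm hn) (by norm_num) (by
      rw [F_mul h ht hm hn, hn2, mul_inv_cancel, F_0])
    have h1 := act_lt (m / 32) (by omega) (n % 32) (by omega)
    have h2 := Cfsg.Agent.SmallExtra438.Model.qm_lt (m % 32) (by omega) _ h1
    have h3 := (xor_tw _ h2 (tw t (m / 32) (n / 32)) (tw_lt _ _ _)).1
    have h8 : mm t m n / 32 = km (m / 32) (n / 32) := by unfold mm; omega
    rw [e1, Nat.zero_div] at h8
    have h9 := hf (m / 32) (by omega) (n / 32) (by omega)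
    rw [← h8, hf0, hm2, zero_add] at h9
    have h10 := hf2 (n / 32) (by omega)
    omega

end

/-- character of `C_G(z)`: exponent of `y` -/
def fy (n : ℕ) : ℕ := n / 9 % 2
/-- character of `C_G(z)`: exponent of `s` -/
def fs (n : ℕ) : ℕ := n / 18

theorem fy_mul : ∀ n < 36, ∀ m < 36, fy (km n m) = (fy n + fy m) % 2 := by decide +kernel
theorem fs_mul : ∀ n < 36, ∀ m < 36, fs (km n m) = (fs n + fs m) % 2 := by decide +kernel
theorem fy_lt : ∀ n < 36, fy n < 2 := by decide +kernel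
theorem fs_lt : ∀ n < 36, fs n < 2 := by decide +kernel

section

variable (h : Case9aa Q z i j k l x₁ x₂ y s) {f : ℕ → ℕ} (hf0 : f 0 = 0)
    (hf : ∀ n < 36, ∀ m < 36, f (km n m) = (f n + f m) % 2) (hf2 : ∀ n < 36, f n < 2)

theorem mem_kerN_iff {m : ℕ} (hm : m < 1152) :
    F z i j k l x₁ x₂ y s m ∈ kerN h f hf0 hf hf2 ↔ f (m / 32) = 0 := by
  constructor
  · rintro ⟨n, hn, hn2, hn3⟩
    rwa [← F_inj h hn hm hn3]
  · intro h1
    exact ⟨m, hm, h1, rfl⟩

theorem kerN_le : kerN h f hf0 hf hf2 ≤ Subgroup.centralizer ({z} : Set G) := by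
  rintro _ ⟨m, hm, hm2, rfl⟩
  exact Subgroup.mem_centralizer_singleton_iff.2 (F_comm h m)

theorem relIndex_kerN {x : G} (hxz : x * z = z * x) (hx : x ∉ kerN h f hf0 hf hf2) :
    (kerN h f hf0 hf hf2).relIndex (Subgroup.centralizer ({z} : Set G)) = 2 := by
  rw [Subgroup.relIndex, Subgroup.index_eq_two_iff]
  refine ⟨⟨x, Subgroup.mem_centralizer_singleton_iff.2 hxz⟩, ?_⟩
  rintro ⟨b, hb⟩
  rw [Subgroup.mem_subgroupOf, Subgroup.mem_subgroupOf]
  change Xor (b * x ∈ kerN h f hf0 hf hf2) (b ∈ kerN h f hf0 hf hf2)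
  obtain ⟨t, -, ht⟩ := exists_tw h
  obtain ⟨m, hm, rfl⟩ := exists_code h hxz
  obtain ⟨n, hn, rfl⟩ := exists_code h (Subgroup.mem_centralizer_singleton_iff.1 hb)
  rw [mem_kerN_iff h hf0 hf hf2 hm] at hx
  rw [← F_mul h ht hn hm, mem_kerN_iff h hf0 hf hf2 (mm_lt hn hm), mem_kerN_iff h hf0 hf hf2 hn]
  have h1 := act_lt (n / 32) (by omega) (m % 32) (by omega)
  have h2 := Cfsg.Agent.SmallExtra438.Model.qm_lt (n % 32) (by omega) _ h1
  have h3 := (xor_tw _ h2 (tw t (n / 32) (m / 32)) (tw_lt _ _ _)).1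
  have h8 : mm t n m / 32 = km (n / 32) (m / 32) := by unfold mm; omega
  rw [h8, hf _ (by omega) _ (by omega)]
  have h4 := hf2 (m / 32) (by omega)
  have h5 := hf2 (n / 32) (by omega)
  have h6 : f (m / 32) = 1 := by omega
  rw [h6]
  have h7 : f (n / 32) = 0 ∨ f (n / 32) = 1 := by omega
  rcases h7 with h7 | h7 <;> rw [h7] <;> simp [Xor]

end

/-! ### squares of elements of order four lie in `Q` -/

theorem km_sq : ∀ n < 36, km (km n n) (km n n) = 0 → km n n = 0 := by decide +kernel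

theorem mm_div (t : ℕ) {m n : ℕ} (hm : m < 1152) (hn : n < 1152) : mm t m n / 32 = km (m / 32) (n / 32) := by
  have h1 := act_lt (m / 32) (by omega) (n % 32) (by omega)
  have h2 := Cfsg.Agent.SmallExtra438.Model.qm_lt (m % 32) (by omega) _ h1
  have h3 := (xor_tw _ h2 (tw t (m / 32) (n / 32)) (tw_lt _ _ _)).1
  unfold mm; omega

section

variable (h : Case9aa Q z i j k l x₁ x₂ y s)
include h

theorem sq_mem {x : G} (hx : x * z = z * x) (h4 : (x * x) * (x * x) = 1) : x * x ∈ Q := by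
  obtain ⟨t, -, ht⟩ := exists_tw h
  obtain ⟨m, hm, rfl⟩ := exists_code h hx
  rw [← F_mul h ht hm hm] at h4 ⊢
  have h0 := mm_lt (t := t) hm hm
  rw [← F_mul h ht h0 h0] at h4
  have h1 : mm t (mm t m m) (mm t m m) = 0 := F_inj h (mm_lt h0 h0) (by norm_num) (by rw [h4, F_0])
  rw [mem_Q_iff h h0]
  have h2 : km (mm t m m / 32) (mm t m m / 32) = 0 := by
    rw [← mm_div t h0 h0, h1]
  rw [mm_div t hm hm] at h2
  have h3 := km_sq (m / 32) (by omega) h2
  rw [← mm_div t hm hm] at h3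
  omega

end

/-! ### the classes of the involutions outside `Q` -/

/-- codes of `C_Q(F m)` -/
def cq (t m : ℕ) : Finset ℕ := (Finset.range 32).filter (fun x => mm t m x = mm t x m)

set_option maxRecDepth 100000 in
theorem cq_card : ∀ t < 8, ∀ m < 1152, mm t m m = 0 → 32 ≤ m → (cq t m).card ≤ 8 := by decide +kernel

section

variable (h : Case9aa Q z i j k l x₁ x₂ y s)
include h

theorem card_cq {x : G} (hx : x * z = z * x) (hxx : x * x = 1) (hxQ : x ∉ Q) :
    Nat.card ↥(Q ⊓ Subgroup.centralizer ({x} : Set G)) ≤ 8 := by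
  classical
  obtain ⟨t, ht8, ht⟩ := exists_tw h
  obtain ⟨m, hm, rfl⟩ := exists_code h hx
  rw [mem_Q_iff h hm] at hxQ
  have h1 := cq_card t ht8 m hm ((sq_iff h ht hm).1 hxx) (by omega)
  have h2 : ∀ a : ↥(Q ⊓ Subgroup.centralizer ({F z i j k l x₁ x₂ y s m} : Set G)),
      ∃ n ∈ cq t m, F z i j k l x₁ x₂ y s n = a := by
    rintro ⟨a, ha⟩
    obtain ⟨haQ, haC⟩ := Subgroup.mem_inf.1 ha
    obtain ⟨n, hn, hna⟩ := exists_code h (h.large.comm_z a haQ)
    subst hna
    rw [mem_Q_iff h hn] at haQ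
    rw [Subgroup.mem_centralizer_singleton_iff] at haC
    refine ⟨n, ?_, rfl⟩
    rw [cq, Finset.mem_filter, Finset.mem_range]
    exact ⟨haQ, ((comm_iff h ht hn hm).1 haC).symm⟩
  choose f hf1 hf2 using h2
  have h3 : Function.Injective (fun a => (⟨f a, hf1 a⟩ : cq t m)) := by
    intro a b hab
    have h4 : f a = f b := congrArg Subtype.val hab
    apply Subtype.ext
    rw [← hf2 a, ← hf2 b, h4]
  refine le_trans (Nat.card_le_card_of_injective _ h3) ?_
  rw [Nat.card_eq_fintype_card, Fintype.card_coe]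
  exact h1

/-- The class of an involution of `C_G(z) ∖ Q` in `C_G(z)` has length divisible by four. -/
theorem four_dvd {x : G} (hx : x * z = z * x) (hxx : x * x = 1) (hxQ : x ∉ Q) :
    4 ∣ (Subgroup.centralizer ({x} : Set G)).relIndex (Subgroup.centralizer ({z} : Set G)) := by
  classical
  have h8 := card_cq h hx hxx hxQ
  set A := Subgroup.centralizer ({z} : Set G) with hA
  set B := Subgroup.centralizer ({x} : Set G) with hB
  have hQA : Q ≤ A := fun q hq => Subgroup.mem_centralizer_singleton_iff.2 (h.large.comm_z q hq)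
  -- `|C_Q(x)|` divides eight
  have hd8 : Nat.card ↥(Q ⊓ B) ∣ 8 := by
    have h1 : Nat.card ↥(Q ⊓ B) ∣ 2 ^ 5 := by
      have := Subgroup.card_dvd_of_le (show Q ⊓ B ≤ Q from inf_le_left)
      rwa [h.card] at this
    obtain ⟨e, he, he2⟩ := (Nat.dvd_prime_pow Nat.prime_two).1 h1
    rw [he2] at h8 ⊢
    have : e ≤ 3 := by
      by_contra hcon
      have : 2 ^ 4 ≤ 2 ^ e := Nat.pow_le_pow_right (by norm_num) (by omega)
      omega
    exact pow_dvd_pow 2 this
  -- `|A ∩ B|` divides 288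
  have hn : (Q.subgroupOf A).Normal := by
    constructor
    rintro ⟨q, hqA⟩ hq ⟨c, hc⟩
    rw [Subgroup.mem_subgroupOf] at hq ⊢
    exact h.large.conj_mem _ (Subgroup.mem_centralizer_singleton_iff.1 hc) _ hq
  have h36 : (Q.subgroupOf A).index = 36 := by
    have h1 := (Q.subgroupOf A).card_mul_index
    rw [Nat.card_congr (Subgroup.subgroupOfEquivOfLe hQA).toEquiv, h.card] at h1
    have h2 : Nat.card A = 1152 := h.card_cent
    rw [h2] at h1
    omega
  have hrel : (Q.subgroupOf A).relIndex (B.subgroupOf A) ∣ 36 := by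
    rw [← h36]
    exact Subgroup.relIndex_dvd_index_of_normal _ _
  have hcard : Nat.card (B.subgroupOf A) ∣ 288 := by
    have h1 := Subgroup.card_mul_index ((Q.subgroupOf A).subgroupOf (B.subgroupOf A))
    have h2 : Nat.card ((Q.subgroupOf A).subgroupOf (B.subgroupOf A)) = Nat.card ↥(Q ⊓ B) := by
      have e1 : ((Q.subgroupOf A).subgroupOf (B.subgroupOf A)) ≃ ↥(Q ⊓ B) :=
        { toFun := fun a => ⟨((a : B.subgroupOf A) : A), a.2, (a : B.subgroupOf A).2⟩
          invFun := fun a => ⟨⟨⟨a, hQA (Subgroup.mem_inf.1 a.2).1⟩, (Subgroup.mem_inf.1 a.2).2⟩,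
            (Subgroup.mem_inf.1 a.2).1⟩
          left_inv := fun _ => rfl
          right_inv := fun _ => rfl }
      exact Nat.card_congr e1
    rw [h2] at h1
    rw [← h1]
    exact Nat.mul_dvd_mul hd8 hrel
  have h1 := (B.subgroupOf A).card_mul_index
  rw [hA, h.card_cent, ← hA] at h1
  change 4 ∣ (B.subgroupOf A).index
  obtain ⟨c, hc⟩ := hcard
  have h2 : Nat.card (B.subgroupOf A) * (B.subgroupOf A).index = Nat.card (B.subgroupOf A) * (c * 4) := by
    rw [h1, ← mul_assoc, ← hc]; norm_num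
  rw [Nat.eq_of_mul_eq_mul_left Nat.card_pos h2]
  exact ⟨c, by ring⟩

/-- No square root of `z` lies outside a subgroup of index two. -/
theorem false_of_sqrt (hG : ∀ H : Subgroup G, H.index ≠ 2) (hw : ∀ g, g * z * g⁻¹ ∈ Q → g * z * g⁻¹ = z)
    {f : ℕ → ℕ} (hf0 : f 0 = 0) (hf : ∀ n < 36, ∀ m < 36, f (km n m) = (f n + f m) % 2)
    (hf2 : ∀ n < 36, f n < 2) {t : ℕ} (ht : Tw t z y s) {m : ℕ} (hm : m < 1152) (hmf : f (m / 32) = 1)
    (hmz : mm t m m = 16) : False := by
  have hzz := h.large.z_sq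
  have hxz := F_comm h m
  have hxx : F z i j k l x₁ x₂ y s m * F z i j k l x₁ x₂ y s m = z := by
    rw [← F_mul h ht hm hm, hmz, F_16]
  have hxN : F z i j k l x₁ x₂ y s m ∉ kerN h f hf0 hf hf2 := by
    rw [mem_kerN_iff h hf0 hf hf2 hm, hmf]; exact one_ne_zero
  obtain ⟨g, hg1, hg2, hg3⟩ := TransferFour.exists_odd hG h.large.z_ne hzz (kerN h f hf0 hf hf2)
    (kerN_le h hf0 hf hf2) (relIndex_kerN h hf0 hf hf2 hxz hxN) hxx hxN (by
      intro g hg
      rw [Subgroup.mem_centralizer_singleton_iff] at hg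
      have e1 : (g⁻¹ * F z i j k l x₁ x₂ y s m * g) * (g⁻¹ * F z i j k l x₁ x₂ y s m * g) = g⁻¹ * z * g⁻¹⁻¹ := by
        calc _ = g⁻¹ * (F z i j k l x₁ x₂ y s m * F z i j k l x₁ x₂ y s m) * g⁻¹⁻¹ := by group
          _ = _ := by rw [hxx]
      have h1 := sq_mem h hg (by
        rw [e1]
        calc g⁻¹ * z * g⁻¹⁻¹ * (g⁻¹ * z * g⁻¹⁻¹) = g⁻¹ * (z * z) * g := by group
          _ = 1 := by rw [hzz]; group)
      rw [e1] at h1
      have h2 := hw _ h1
      rw [Subgroup.mem_centralizer_singleton_iff]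
      calc g * z = g * (g⁻¹ * z * g⁻¹⁻¹) := by rw [h2]
        _ = z * g := by group)
    (by
      have := (mem_kerN_iff h hf0 hf hf2 (m := 16) (by norm_num)).2 (by simpa using hf0)
      rwa [F_16] at this)
  apply hg3
  apply four_dvd h hg2
  · calc g * z * g⁻¹ * (g * z * g⁻¹) = g * (z * z) * g⁻¹ := by group
      _ = 1 := by rw [hzz]; group
  · intro hgQ
    apply hg1
    rw [Subgroup.mem_centralizer_singleton_iff]
    have h2 := hw g hgQ
    calc g * z = g * z * g⁻¹ * g := by group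
      _ = z * g := by rw [h2]

/-- **Case I: no twist.** -/
theorem twist_zero (hG : ∀ H : Subgroup G, H.index ≠ 2) (hw : ∀ g, g * z * g⁻¹ ∈ Q → g * z * g⁻¹ = z)
    {t : ℕ} (ht8 : t < 8) (ht : Tw t z y s) : t = 0 := by
  have key1 : ∀ t < 8, t % 2 = 1 → mm t 288 288 = 16 := by decide +kernel
  have key2 : ∀ t < 8, t / 2 % 2 = 1 → mm t 576 576 = 16 := by decide +kernel
  by_cases h1 : t % 2 = 1
  · exact (false_of_sqrt h hG hw (f := fy) rfl fy_mul fy_lt ht (m := 288) (by norm_num) rfl (key1 t ht8 h1)).elim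
  by_cases h2 : t / 2 % 2 = 1
  · exact (false_of_sqrt h hG hw (f := fs) rfl fs_mul fs_lt ht (m := 576) (by norm_num) rfl (key2 t ht8 h2)).elim
  by_cases h3 : t = 4
  · subst h3
    exact (false_of_sqrt h hG hw (f := fs) rfl fs_mul fs_lt ht (m := 864) (by norm_num) rfl
      (by decide +kernel)).elim
  · omega

end

end Cfsg.Agent.LargeExtra.W2.LFour.TwistK
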