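import Cfsg.Agent.LargeExtra.W2.LFour.Iface

/-!
# S1759, `L₄(3)`: the centraliser of `⟨z, d⟩`, `d = i j k l` (helper156)

`W7` is a rewriting system for the Sylow 2-subgroup `⟨i, j, k, l, y, s⟩` (order `128`) of `C_G(z)` in the split case;
`phi h : DihedralGroup 4 × DihedralGroup 4 →* G` is injective with range `C_G({z, d})`.
-/

set_option autoImplicit false
set_option linter.unusedSimpArgs false

namespace Cfsg.Agent.LargeExtra.W2.LFour.TwoT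

open Cfsg.Agent.LargeExtra.W2

variable {G : Type*} [Group G] {Q : Subgroup G} {z i j k l x₁ x₂ y s : G}

/-- rewriting rules for words in `i, j, k, l, z, y, s` (in this order) -/
structure W7 (z i j k l y s : G) : Prop where
  ii : i * i = z
  zi : z * i = i * z
  jj : j * j = z
  zj : z * j = j * z
  kk : k * k = z
  zk : z * k = k * z
  ll : l * l = z
  zl : z * l = l * z
  zz : z * z = 1
  ji : j * i = i * (j * z)
  ki : k * i = i * k
  li : l * i = i * l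
  kj : k * j = j * k
  lj : l * j = j * l
  lk : l * k = k * (l * z)
  yi : y * i = j * (z * y)
  yj : y * j = i * (z * y)
  yk : y * k = l * (z * y)
  yl : y * l = k * (z * y)
  yz : y * z = z * y
  yy : y * y = 1
  si : s * i = k * s
  sj : s * j = l * s
  sk : s * k = i * s
  sl : s * l = j * s
  sz : s * z = z * s
  sy : s * y = y * s
  ss : s * s = 1

namespace W7

theorem ii_ (h : W7 z i j k l y s) (g : G) : i * (i * g) = z * g := by
  rw [← mul_assoc, h.ii]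

theorem zi_ (h : W7 z i j k l y s) (g : G) : z * (i * g) = i * (z * g) := by
  rw [← mul_assoc, h.zi]; simp only [mul_assoc]

theorem jj_ (h : W7 z i j k l y s) (g : G) : j * (j * g) = z * g := by
  rw [← mul_assoc, h.jj]

theorem zj_ (h : W7 z i j k l y s) (g : G) : z * (j * g) = j * (z * g) := by
  rw [← mul_assoc, h.zj]; simp only [mul_assoc]

theorem kk_ (h : W7 z i j k l y s) (g : G) : k * (k * g) = z * g := by
  rw [← mul_assoc, h.kk]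

theorem zk_ (h : W7 z i j k l y s) (g : G) : z * (k * g) = k * (z * g) := by
  rw [← mul_assoc, h.zk]; simp only [mul_assoc]

theorem ll_ (h : W7 z i j k l y s) (g : G) : l * (l * g) = z * g := by
  rw [← mul_assoc, h.ll]

theorem zl_ (h : W7 z i j k l y s) (g : G) : z * (l * g) = l * (z * g) := by
  rw [← mul_assoc, h.zl]; simp only [mul_assoc]

theorem zz_ (h : W7 z i j k l y s) (g : G) : z * (z * g) = g := by
  rw [← mul_assoc, h.zz]; exact one_mul g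

theorem ji_ (h : W7 z i j k l y s) (g : G) : j * (i * g) = i * (j * (z * g)) := by
  rw [← mul_assoc, h.ji]; simp only [mul_assoc]

theorem ki_ (h : W7 z i j k l y s) (g : G) : k * (i * g) = i * (k * g) := by
  rw [← mul_assoc, h.ki]; simp only [mul_assoc]

theorem li_ (h : W7 z i j k l y s) (g : G) : l * (i * g) = i * (l * g) := by
  rw [← mul_assoc, h.li]; simp only [mul_assoc]

theorem kj_ (h : W7 z i j k l y s) (g : G) : k * (j * g) = j * (k * g) := by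
  rw [← mul_assoc, h.kj]; simp only [mul_assoc]

theorem lj_ (h : W7 z i j k l y s) (g : G) : l * (j * g) = j * (l * g) := by
  rw [← mul_assoc, h.lj]; simp only [mul_assoc]

theorem lk_ (h : W7 z i j k l y s) (g : G) : l * (k * g) = k * (l * (z * g)) := by
  rw [← mul_assoc, h.lk]; simp only [mul_assoc]

theorem yi_ (h : W7 z i j k l y s) (g : G) : y * (i * g) = j * (z * (y * g)) := by
  rw [← mul_assoc, h.yi]; simp only [mul_assoc]

theorem yj_ (h : W7 z i j k l y s) (g : G) : y * (j * g) = i * (z * (y * g)) := by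
  rw [← mul_assoc, h.yj]; simp only [mul_assoc]

theorem yk_ (h : W7 z i j k l y s) (g : G) : y * (k * g) = l * (z * (y * g)) := by
  rw [← mul_assoc, h.yk]; simp only [mul_assoc]

theorem yl_ (h : W7 z i j k l y s) (g : G) : y * (l * g) = k * (z * (y * g)) := by
  rw [← mul_assoc, h.yl]; simp only [mul_assoc]

theorem yz_ (h : W7 z i j k l y s) (g : G) : y * (z * g) = z * (y * g) := by
  rw [← mul_assoc, h.yz]; simp only [mul_assoc]

theorem yy_ (h : W7 z i j k l y s) (g : G) : y * (y * g) = g := by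
  rw [← mul_assoc, h.yy]; exact one_mul g

theorem si_ (h : W7 z i j k l y s) (g : G) : s * (i * g) = k * (s * g) := by
  rw [← mul_assoc, h.si]; simp only [mul_assoc]

theorem sj_ (h : W7 z i j k l y s) (g : G) : s * (j * g) = l * (s * g) := by
  rw [← mul_assoc, h.sj]; simp only [mul_assoc]

theorem sk_ (h : W7 z i j k l y s) (g : G) : s * (k * g) = i * (s * g) := by
  rw [← mul_assoc, h.sk]; simp only [mul_assoc]

theorem sl_ (h : W7 z i j k l y s) (g : G) : s * (l * g) = j * (s * g) := by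
  rw [← mul_assoc, h.sl]; simp only [mul_assoc]

theorem sz_ (h : W7 z i j k l y s) (g : G) : s * (z * g) = z * (s * g) := by
  rw [← mul_assoc, h.sz]; simp only [mul_assoc]

theorem sy_ (h : W7 z i j k l y s) (g : G) : s * (y * g) = y * (s * g) := by
  rw [← mul_assoc, h.sy]; simp only [mul_assoc]

theorem ss_ (h : W7 z i j k l y s) (g : G) : s * (s * g) = g := by
  rw [← mul_assoc, h.ss]; exact one_mul g

theorem inv_i (h : W7 z i j k l y s) : i⁻¹ = i * z := by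
  apply inv_eq_of_mul_eq_one_right
  rw [← mul_assoc, h.ii, h.zz]

theorem inv_j (h : W7 z i j k l y s) : j⁻¹ = j * z := by
  apply inv_eq_of_mul_eq_one_right
  rw [← mul_assoc, h.jj, h.zz]

theorem inv_k (h : W7 z i j k l y s) : k⁻¹ = k * z := by
  apply inv_eq_of_mul_eq_one_right
  rw [← mul_assoc, h.kk, h.zz]

theorem inv_l (h : W7 z i j k l y s) : l⁻¹ = l * z := by
  apply inv_eq_of_mul_eq_one_right
  rw [← mul_assoc, h.ll, h.zz]

theorem inv_z (h : W7 z i j k l y s) : z⁻¹ = z := inv_eq_of_mul_eq_one_right h.zz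
theorem inv_y (h : W7 z i j k l y s) : y⁻¹ = y := inv_eq_of_mul_eq_one_right h.yy
theorem inv_s (h : W7 z i j k l y s) : s⁻¹ = s := inv_eq_of_mul_eq_one_right h.ss

end W7

/-- the rules hold in the case `9aa` with trivial twists -/
theorem w7 (h : Case9aa Q z i j k l x₁ x₂ y s) (hy : y * y = 1) (hs : s * s = 1)
    (hsy : s * y = y * s) : W7 z i j k l y s := by
  have hQ : ∀ g ∈ ({i, j, k, l} : Set G), g * z = z * g := fun g hg =>
    h.large.comm_z _ (h.gen ▸ Subgroup.subset_closure hg)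
  have hi := hQ i (by simp)
  have hj := hQ j (by simp)
  have hk := hQ k (by simp)
  have hl := hQ l (by simp)
  have c : ∀ {a b c : G}, a * b * a⁻¹ = c → a * b = c * a := fun h => by rw [← h]; group
  refine ⟨h.ii, hi.symm, h.jj, hj.symm, h.kk, hk.symm, h.ll, hl.symm, h.large.z_sq, ?_, h.ki, h.li,
    h.kj, h.lj, ?_, ?_, ?_, ?_, ?_, ?_, hy, ?_, ?_, ?_, ?_, ?_, hsy, hs⟩
  · rw [h.ji, mul_assoc]
  · rw [h.lk, mul_assoc]
  · rw [c h.y_act.i, mul_assoc]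
  · rw [c h.y_act.j, mul_assoc]
  · rw [c h.y_act.k, mul_assoc]
  · rw [c h.y_act.l, mul_assoc]
  · exact c h.y_act.z
  · exact c h.s_act.i
  · exact c h.s_act.j
  · exact c h.s_act.k
  · exact c h.s_act.l
  · exact c h.s_act.z

/-! ### Homomorphisms from the dihedral group of order 8 -/

/-- powers of `a`, `a ^ 4 = 1`, indexed by `ZMod 4` -/
def pw (a : G) (n : ZMod 4) : G := a ^ n.val

theorem pw_add {a : G} (ha : a ^ 4 = 1) (m n : ZMod 4) : pw a (m + n) = pw a m * pw a n := by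
  unfold pw
  rw [ZMod.val_add, ← pow_add, ← pow_eq_pow_mod _ ha]

theorem pw_zero (a : G) : pw a 0 = 1 := by
  unfold pw; rw [ZMod.val_zero, pow_zero]

theorem pw_neg {a : G} (ha : a ^ 4 = 1) (m : ZMod 4) : pw a (-m) = (pw a m)⁻¹ := by
  apply eq_inv_of_mul_eq_one_left
  rw [← pw_add ha, neg_add_cancel, pw_zero]

theorem pw_sub {a : G} (ha : a ^ 4 = 1) (m n : ZMod 4) : pw a (m - n) = pw a m * (pw a n)⁻¹ := by
  rw [sub_eq_add_neg, pw_add ha, pw_neg ha]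

/-- the homomorphism `r 1 ↦ a`, `sr 0 ↦ b` -/
def d4 (a b : G) (ha : a ^ 4 = 1) (hb : b * b = 1) (hab : b * a = a⁻¹ * b) :
    DihedralGroup 4 →* G where
  toFun x := match x with
    | .r n => pw a n
    | .sr n => b * pw a n
  map_one' := pw_zero a
  map_mul' := by
    have hc : ∀ n : ZMod 4, pw a n * b = b * (pw a n)⁻¹ := by
      have h1 : ∀ n : ℕ, a ^ n * b = b * (a ^ n)⁻¹ := by
        intro n
        induction n with
        | zero => simp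
        | succ n ih =>
          have h2 : a * b = b * a⁻¹ := by
            have h3 : b * (a * b) = a⁻¹ := by rw [← mul_assoc, hab, mul_assoc, hb, mul_one]
            calc a * b = b * (b * (a * b)) := by rw [← mul_assoc, hb, one_mul]
              _ = b * a⁻¹ := by rw [h3]
          rw [pow_succ, mul_assoc, h2, ← mul_assoc, ih, mul_inv_rev, mul_assoc]
          congr 1
          rw [← mul_inv_rev, ← mul_inv_rev, ← pow_succ, ← pow_succ']
      intro n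
      exact h1 _
    rintro (m | m) (n | n)
    · rw [DihedralGroup.r_mul_r]; exact pw_add ha m n
    · rw [DihedralGroup.r_mul_sr]
      show b * pw a (n - m) = pw a m * (b * pw a n)
      rw [← mul_assoc, hc, mul_assoc, sub_eq_add_neg, add_comm, pw_add ha, pw_neg ha]
    · rw [DihedralGroup.sr_mul_r]
      show b * pw a (m + n) = b * pw a m * pw a n
      rw [pw_add ha, mul_assoc]
    · rw [DihedralGroup.sr_mul_sr]
      show pw a (n - m) = b * pw a m * (b * pw a n)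
      have h1 : b * pw a m * b = (pw a m)⁻¹ := by rw [mul_assoc, hc, ← mul_assoc, hb, one_mul]
      rw [← mul_assoc, h1, sub_eq_add_neg, add_comm, pw_add ha, pw_neg ha]

abbrev D4 := DihedralGroup 4
abbrev M := D4 × D4

open DihedralGroup

section

variable (h : W7 z i j k l y s)
include h

theorem rel_a : (y * (i * k)) ^ 4 = 1 := by
  rw [show (4 : ℕ) = 1 + 1 + 1 + 1 from rfl, pow_succ, pow_succ, pow_succ, pow_one]
  simp only [mul_assoc, h.ii, h.ii_, h.zi, h.zi_, h.jj, h.jj_, h.zj, h.zj_, h.kk, h.kk_, h.zk,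
      h.zk_, h.ll, h.ll_, h.zl, h.zl_, h.zz, h.zz_, h.ji, h.ji_, h.ki, h.ki_, h.li, h.li_, h.kj,
      h.kj_, h.lj, h.lj_, h.lk, h.lk_, h.yi, h.yi_, h.yj, h.yj_, h.yk, h.yk_, h.yl, h.yl_, h.yz,
      h.yz_, h.yy, h.yy_, h.si, h.si_, h.sj, h.sj_, h.sk, h.sk_, h.sl, h.sl_, h.sz, h.sz_, h.sy,
      h.sy_, h.ss, h.ss_, mul_inv_rev, h.inv_i, h.inv_j, h.inv_k, h.inv_l, h.inv_z, h.inv_y,
      h.inv_s, mul_one, one_mul]

theorem rel_a2 : (y * (i * l)) ^ 4 = 1 := by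
  rw [show (4 : ℕ) = 1 + 1 + 1 + 1 from rfl, pow_succ, pow_succ, pow_succ, pow_one]
  simp only [mul_assoc, h.ii, h.ii_, h.zi, h.zi_, h.jj, h.jj_, h.zj, h.zj_, h.kk, h.kk_, h.zk,
      h.zk_, h.ll, h.ll_, h.zl, h.zl_, h.zz, h.zz_, h.ji, h.ji_, h.ki, h.ki_, h.li, h.li_, h.kj,
      h.kj_, h.lj, h.lj_, h.lk, h.lk_, h.yi, h.yi_, h.yj, h.yj_, h.yk, h.yk_, h.yl, h.yl_, h.yz,
      h.yz_, h.yy, h.yy_, h.si, h.si_, h.sj, h.sj_, h.sk, h.sk_, h.sl, h.sl_, h.sz, h.sz_, h.sy,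
      h.sy_, h.ss, h.ss_, mul_inv_rev, h.inv_i, h.inv_j, h.inv_k, h.inv_l, h.inv_z, h.inv_y,
      h.inv_s, mul_one, one_mul]

theorem rel_b : (s * y) * (s * y) = 1 := by
  simp only [mul_assoc, h.ii, h.ii_, h.zi, h.zi_, h.jj, h.jj_, h.zj, h.zj_, h.kk, h.kk_, h.zk,
      h.zk_, h.ll, h.ll_, h.zl, h.zl_, h.zz, h.zz_, h.ji, h.ji_, h.ki, h.ki_, h.li, h.li_, h.kj,
      h.kj_, h.lj, h.lj_, h.lk, h.lk_, h.yi, h.yi_, h.yj, h.yj_, h.yk, h.yk_, h.yl, h.yl_, h.yz,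
      h.yz_, h.yy, h.yy_, h.si, h.si_, h.sj, h.sj_, h.sk, h.sk_, h.sl, h.sl_, h.sz, h.sz_, h.sy,
      h.sy_, h.ss, h.ss_, mul_inv_rev, h.inv_i, h.inv_j, h.inv_k, h.inv_l, h.inv_z, h.inv_y,
      h.inv_s, mul_one, one_mul]

theorem rel_ab : (s * y) * (y * (i * k)) = (y * (i * k))⁻¹ * (s * y) := by
  simp only [mul_assoc, h.ii, h.ii_, h.zi, h.zi_, h.jj, h.jj_, h.zj, h.zj_, h.kk, h.kk_, h.zk,
      h.zk_, h.ll, h.ll_, h.zl, h.zl_, h.zz, h.zz_, h.ji, h.ji_, h.ki, h.ki_, h.li, h.li_, h.kj,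
      h.kj_, h.lj, h.lj_, h.lk, h.lk_, h.yi, h.yi_, h.yj, h.yj_, h.yk, h.yk_, h.yl, h.yl_, h.yz,
      h.yz_, h.yy, h.yy_, h.si, h.si_, h.sj, h.sj_, h.sk, h.sk_, h.sl, h.sl_, h.sz, h.sz_, h.sy,
      h.sy_, h.ss, h.ss_, mul_inv_rev, h.inv_i, h.inv_j, h.inv_k, h.inv_l, h.inv_z, h.inv_y,
      h.inv_s, mul_one, one_mul]

theorem rel_ab2 : s * (y * (i * l)) = (y * (i * l))⁻¹ * s := by
  simp only [mul_assoc, h.ii, h.ii_, h.zi, h.zi_, h.jj, h.jj_, h.zj, h.zj_, h.kk, h.kk_, h.zk,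
      h.zk_, h.ll, h.ll_, h.zl, h.zl_, h.zz, h.zz_, h.ji, h.ji_, h.ki, h.ki_, h.li, h.li_, h.kj,
      h.kj_, h.lj, h.lj_, h.lk, h.lk_, h.yi, h.yi_, h.yj, h.yj_, h.yk, h.yk_, h.yl, h.yl_, h.yz,
      h.yz_, h.yy, h.yy_, h.si, h.si_, h.sj, h.sj_, h.sk, h.sk_, h.sl, h.sl_, h.sz, h.sz_, h.sy,
      h.sy_, h.ss, h.ss_, mul_inv_rev, h.inv_i, h.inv_j, h.inv_k, h.inv_l, h.inv_z, h.inv_y,
      h.inv_s, mul_one, one_mul]

/-- `D₁ = ⟨d, s y, s i k⟩` -/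
def phi1 : D4 →* G := d4 (y * (i * k)) (s * y) (rel_a h) (rel_b h) (rel_ab h)

/-- `D_L = ⟨d z, s, s y i l⟩` -/
def phi2 : D4 →* G := d4 (y * (i * l)) s (rel_a2 h) h.ss (rel_ab2 h)

theorem comm12 (a b : D4) : Commute (phi1 h a) (phi2 h b) := by
  have c1 : Commute (y * (i * k)) (y * (i * l)) := by
    show y * (i * k) * (y * (i * l)) = y * (i * l) * (y * (i * k))
    simp only [mul_assoc, h.ii, h.ii_, h.zi, h.zi_, h.jj, h.jj_, h.zj, h.zj_, h.kk, h.kk_, h.zk,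
        h.zk_, h.ll, h.ll_, h.zl, h.zl_, h.zz, h.zz_, h.ji, h.ji_, h.ki, h.ki_, h.li, h.li_, h.kj,
        h.kj_, h.lj, h.lj_, h.lk, h.lk_, h.yi, h.yi_, h.yj, h.yj_, h.yk, h.yk_, h.yl, h.yl_, h.yz,
        h.yz_, h.yy, h.yy_, h.si, h.si_, h.sj, h.sj_, h.sk, h.sk_, h.sl, h.sl_, h.sz, h.sz_, h.sy,
        h.sy_, h.ss, h.ss_, mul_inv_rev, h.inv_i, h.inv_j, h.inv_k, h.inv_l, h.inv_z, h.inv_y,
        h.inv_s, mul_one, one_mul]
  have c2 : Commute (y * (i * k)) s := by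
    show y * (i * k) * s = s * (y * (i * k))
    simp only [mul_assoc, h.ii, h.ii_, h.zi, h.zi_, h.jj, h.jj_, h.zj, h.zj_, h.kk, h.kk_, h.zk,
        h.zk_, h.ll, h.ll_, h.zl, h.zl_, h.zz, h.zz_, h.ji, h.ji_, h.ki, h.ki_, h.li, h.li_, h.kj,
        h.kj_, h.lj, h.lj_, h.lk, h.lk_, h.yi, h.yi_, h.yj, h.yj_, h.yk, h.yk_, h.yl, h.yl_, h.yz,
        h.yz_, h.yy, h.yy_, h.si, h.si_, h.sj, h.sj_, h.sk, h.sk_, h.sl, h.sl_, h.sz, h.sz_, h.sy,
        h.sy_, h.ss, h.ss_, mul_inv_rev, h.inv_i, h.inv_j, h.inv_k, h.inv_l, h.inv_z, h.inv_y,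
        h.inv_s, mul_one, one_mul]
  have c3 : Commute (s * y) (y * (i * l)) := by
    show s * y * (y * (i * l)) = y * (i * l) * (s * y)
    simp only [mul_assoc, h.ii, h.ii_, h.zi, h.zi_, h.jj, h.jj_, h.zj, h.zj_, h.kk, h.kk_, h.zk,
        h.zk_, h.ll, h.ll_, h.zl, h.zl_, h.zz, h.zz_, h.ji, h.ji_, h.ki, h.ki_, h.li, h.li_, h.kj,
        h.kj_, h.lj, h.lj_, h.lk, h.lk_, h.yi, h.yi_, h.yj, h.yj_, h.yk, h.yk_, h.yl, h.yl_, h.yz,
        h.yz_, h.yy, h.yy_, h.si, h.si_, h.sj, h.sj_, h.sk, h.sk_, h.sl, h.sl_, h.sz, h.sz_, h.sy,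
        h.sy_, h.ss, h.ss_, mul_inv_rev, h.inv_i, h.inv_j, h.inv_k, h.inv_l, h.inv_z, h.inv_y,
        h.inv_s, mul_one, one_mul]
  have c4 : Commute (s * y) s := by
    show s * y * s = s * (s * y)
    simp only [mul_assoc, h.ii, h.ii_, h.zi, h.zi_, h.jj, h.jj_, h.zj, h.zj_, h.kk, h.kk_, h.zk,
        h.zk_, h.ll, h.ll_, h.zl, h.zl_, h.zz, h.zz_, h.ji, h.ji_, h.ki, h.ki_, h.li, h.li_, h.kj,
        h.kj_, h.lj, h.lj_, h.lk, h.lk_, h.yi, h.yi_, h.yj, h.yj_, h.yk, h.yk_, h.yl, h.yl_, h.yz,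
        h.yz_, h.yy, h.yy_, h.si, h.si_, h.sj, h.sj_, h.sk, h.sk_, h.sl, h.sl_, h.sz, h.sz_, h.sy,
        h.sy_, h.ss, h.ss_, mul_inv_rev, h.inv_i, h.inv_j, h.inv_k, h.inv_l, h.inv_z, h.inv_y,
        h.inv_s, mul_one, one_mul]
  rcases a with m | m <;> rcases b with n | n
  · exact c1.pow_pow _ _
  · exact (c2.pow_left _).mul_right (c1.pow_pow _ _)
  · exact (c3.pow_right _).mul_left (c1.pow_pow _ _)
  · exact (c4.mul_right (c3.pow_right _)).mul_left ((c2.pow_left _).mul_right (c1.pow_pow _ _))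

/-- the parametrisation of `C_G({z, d})` -/
def phi : M →* G where
  toFun x := phi1 h x.1 * phi2 h x.2
  map_one' := by simp
  map_mul' x w := by
    show phi1 h (x.1 * w.1) * phi2 h (x.2 * w.2) = phi1 h x.1 * phi2 h x.2 * (phi1 h w.1 * phi2 h w.2)
    rw [map_mul, map_mul, mul_assoc, mul_assoc, ← mul_assoc (phi1 h w.1), (comm12 h w.1 x.2).eq,
      mul_assoc]

theorem phi_apply (a b : D4) : phi h (a, b) = phi1 h a * phi2 h b := rfl

/-! values -/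

theorem v_a (n : ZMod 4) : phi1 h (r n) = (y * (i * k)) ^ n.val := rfl
theorem v_b (n : ZMod 4) : phi1 h (sr n) = s * y * (y * (i * k)) ^ n.val := rfl
theorem v_c (n : ZMod 4) : phi2 h (r n) = (y * (i * l)) ^ n.val := rfl
theorem v_d (n : ZMod 4) : phi2 h (sr n) = s * (y * (i * l)) ^ n.val := rfl

theorem phi_d : phi h (r 2, 1) = i * j * k * l := by
  rw [phi_apply, map_one, v_a, show (2 : ZMod 4).val = 2 from rfl, pow_two]
  simp only [mul_assoc, h.ii, h.ii_, h.zi, h.zi_, h.jj, h.jj_, h.zj, h.zj_, h.kk, h.kk_, h.zk,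
      h.zk_, h.ll, h.ll_, h.zl, h.zl_, h.zz, h.zz_, h.ji, h.ji_, h.ki, h.ki_, h.li, h.li_, h.kj,
      h.kj_, h.lj, h.lj_, h.lk, h.lk_, h.yi, h.yi_, h.yj, h.yj_, h.yk, h.yk_, h.yl, h.yl_, h.yz,
      h.yz_, h.yy, h.yy_, h.si, h.si_, h.sj, h.sj_, h.sk, h.sk_, h.sl, h.sl_, h.sz, h.sz_, h.sy,
      h.sy_, h.ss, h.ss_, mul_inv_rev, h.inv_i, h.inv_j, h.inv_k, h.inv_l, h.inv_z, h.inv_y,
      h.inv_s, mul_one, one_mul]

theorem phi_dz : phi h (1, r 2) = i * j * k * l * z := by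
  rw [phi_apply, map_one, v_c, show (2 : ZMod 4).val = 2 from rfl, pow_two]
  simp only [mul_assoc, h.ii, h.ii_, h.zi, h.zi_, h.jj, h.jj_, h.zj, h.zj_, h.kk, h.kk_, h.zk,
      h.zk_, h.ll, h.ll_, h.zl, h.zl_, h.zz, h.zz_, h.ji, h.ji_, h.ki, h.ki_, h.li, h.li_, h.kj,
      h.kj_, h.lj, h.lj_, h.lk, h.lk_, h.yi, h.yi_, h.yj, h.yj_, h.yk, h.yk_, h.yl, h.yl_, h.yz,
      h.yz_, h.yy, h.yy_, h.si, h.si_, h.sj, h.sj_, h.sk, h.sk_, h.sl, h.sl_, h.sz, h.sz_, h.sy,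
      h.sy_, h.ss, h.ss_, mul_inv_rev, h.inv_i, h.inv_j, h.inv_k, h.inv_l, h.inv_z, h.inv_y,
      h.inv_s, mul_one, one_mul]

theorem phi_z : phi h (r 2, r 2) = z := by
  have h1 : phi h (r 2, r 2) = phi h (r 2, 1) * phi h (1, r 2) := by rw [← map_mul]; rfl
  rw [h1, phi_d, phi_dz]
  simp only [mul_assoc, h.ii, h.ii_, h.zi, h.zi_, h.jj, h.jj_, h.zj, h.zj_, h.kk, h.kk_, h.zk,
      h.zk_, h.ll, h.ll_, h.zl, h.zl_, h.zz, h.zz_, h.ji, h.ji_, h.ki, h.ki_, h.li, h.li_, h.kj,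
      h.kj_, h.lj, h.lj_, h.lk, h.lk_, h.yi, h.yi_, h.yj, h.yj_, h.yk, h.yk_, h.yl, h.yl_, h.yz,
      h.yz_, h.yy, h.yy_, h.si, h.si_, h.sj, h.sj_, h.sk, h.sk_, h.sl, h.sl_, h.sz, h.sz_, h.sy,
      h.sy_, h.ss, h.ss_, mul_inv_rev, h.inv_i, h.inv_j, h.inv_k, h.inv_l, h.inv_z, h.inv_y,
      h.inv_s, mul_one, one_mul]

theorem phi_sy : phi h (sr 0, 1) = s * y := by
  rw [phi_apply, map_one, v_b, show (0 : ZMod 4).val = 0 from rfl, pow_zero, mul_one, mul_one]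

theorem phi_s : phi h (1, sr 0) = s := by
  rw [phi_apply, map_one, v_d, show (0 : ZMod 4).val = 0 from rfl, pow_zero, mul_one, one_mul]

theorem phi_y : phi h (sr 0, sr 0) = y := by
  have h1 : phi h (sr 0, sr 0) = phi h (sr 0, 1) * phi h (1, sr 0) := by rw [← map_mul]; rfl
  rw [h1, phi_sy, phi_s]
  simp only [mul_assoc, h.ii, h.ii_, h.zi, h.zi_, h.jj, h.jj_, h.zj, h.zj_, h.kk, h.kk_, h.zk,
      h.zk_, h.ll, h.ll_, h.zl, h.zl_, h.zz, h.zz_, h.ji, h.ji_, h.ki, h.ki_, h.li, h.li_, h.kj,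
      h.kj_, h.lj, h.lj_, h.lk, h.lk_, h.yi, h.yi_, h.yj, h.yj_, h.yk, h.yk_, h.yl, h.yl_, h.yz,
      h.yz_, h.yy, h.yy_, h.si, h.si_, h.sj, h.sj_, h.sk, h.sk_, h.sl, h.sl_, h.sz, h.sz_, h.sy,
      h.sy_, h.ss, h.ss_, mul_inv_rev, h.inv_i, h.inv_j, h.inv_k, h.inv_l, h.inv_z, h.inv_y,
      h.inv_s, mul_one, one_mul]

theorem phi_yik : phi h (r 1, 1) = y * (i * k) := by
  rw [phi_apply, map_one, v_a, show (1 : ZMod 4).val = 1 from rfl, pow_one, mul_one]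

theorem phi_yil : phi h (1, r 1) = y * (i * l) := by
  rw [phi_apply, map_one, v_c, show (1 : ZMod 4).val = 1 from rfl, pow_one, one_mul]

theorem phi_sik : phi h (sr 1, 1) = s * (i * k) := by
  have h1 : phi h (sr 1, 1) = phi h (sr 0, 1) * phi h (r 1, 1) := by rw [← map_mul]; rfl
  rw [h1, phi_sy, phi_yik]
  simp only [mul_assoc, h.ii, h.ii_, h.zi, h.zi_, h.jj, h.jj_, h.zj, h.zj_, h.kk, h.kk_, h.zk,
      h.zk_, h.ll, h.ll_, h.zl, h.zl_, h.zz, h.zz_, h.ji, h.ji_, h.ki, h.ki_, h.li, h.li_, h.kj,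
      h.kj_, h.lj, h.lj_, h.lk, h.lk_, h.yi, h.yi_, h.yj, h.yj_, h.yk, h.yk_, h.yl, h.yl_, h.yz,
      h.yz_, h.yy, h.yy_, h.si, h.si_, h.sj, h.sj_, h.sk, h.sk_, h.sl, h.sl_, h.sz, h.sz_, h.sy,
      h.sy_, h.ss, h.ss_, mul_inv_rev, h.inv_i, h.inv_j, h.inv_k, h.inv_l, h.inv_z, h.inv_y,
      h.inv_s, mul_one, one_mul]

theorem phi_syil : phi h (1, sr 1) = s * y * (i * l) := by
  have h1 : phi h (1, sr 1) = phi h (1, sr 0) * phi h (1, r 1) := by rw [← map_mul]; rfl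
  rw [h1, phi_s, phi_yil]
  simp only [mul_assoc, h.ii, h.ii_, h.zi, h.zi_, h.jj, h.jj_, h.zj, h.zj_, h.kk, h.kk_, h.zk,
      h.zk_, h.ll, h.ll_, h.zl, h.zl_, h.zz, h.zz_, h.ji, h.ji_, h.ki, h.ki_, h.li, h.li_, h.kj,
      h.kj_, h.lj, h.lj_, h.lk, h.lk_, h.yi, h.yi_, h.yj, h.yj_, h.yk, h.yk_, h.yl, h.yl_, h.yz,
      h.yz_, h.yy, h.yy_, h.si, h.si_, h.sj, h.sj_, h.sk, h.sk_, h.sl, h.sl_, h.sz, h.sz_, h.sy,
      h.sy_, h.ss, h.ss_, mul_inv_rev, h.inv_i, h.inv_j, h.inv_k, h.inv_l, h.inv_z, h.inv_y,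
      h.inv_s, mul_one, one_mul]

theorem phi_ik : phi h (sr 1, sr 0) = i * k := by
  have h1 : phi h (sr 1, sr 0) = phi h (1, sr 0) * phi h (sr 1, 1) := by rw [← map_mul]; rfl
  rw [h1, phi_s, phi_sik]
  simp only [mul_assoc, h.ii, h.ii_, h.zi, h.zi_, h.jj, h.jj_, h.zj, h.zj_, h.kk, h.kk_, h.zk,
      h.zk_, h.ll, h.ll_, h.zl, h.zl_, h.zz, h.zz_, h.ji, h.ji_, h.ki, h.ki_, h.li, h.li_, h.kj,
      h.kj_, h.lj, h.lj_, h.lk, h.lk_, h.yi, h.yi_, h.yj, h.yj_, h.yk, h.yk_, h.yl, h.yl_, h.yz,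
      h.yz_, h.yy, h.yy_, h.si, h.si_, h.sj, h.sj_, h.sk, h.sk_, h.sl, h.sl_, h.sz, h.sz_, h.sy,
      h.sy_, h.ss, h.ss_, mul_inv_rev, h.inv_i, h.inv_j, h.inv_k, h.inv_l, h.inv_z, h.inv_y,
      h.inv_s, mul_one, one_mul]

theorem phi_il : phi h (sr 0, sr 1) = i * l := by
  have h1 : phi h (sr 0, sr 1) = phi h (sr 0, 1) * phi h (1, sr 1) := by rw [← map_mul]; rfl
  rw [h1, phi_sy, phi_syil]
  simp only [mul_assoc, h.ii, h.ii_, h.zi, h.zi_, h.jj, h.jj_, h.zj, h.zj_, h.kk, h.kk_, h.zk,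
      h.zk_, h.ll, h.ll_, h.zl, h.zl_, h.zz, h.zz_, h.ji, h.ji_, h.ki, h.ki_, h.li, h.li_, h.kj,
      h.kj_, h.lj, h.lj_, h.lk, h.lk_, h.yi, h.yi_, h.yj, h.yj_, h.yk, h.yk_, h.yl, h.yl_, h.yz,
      h.yz_, h.yy, h.yy_, h.si, h.si_, h.sj, h.sj_, h.sk, h.sk_, h.sl, h.sl_, h.sz, h.sz_, h.sy,
      h.sy_, h.ss, h.ss_, mul_inv_rev, h.inv_i, h.inv_j, h.inv_k, h.inv_l, h.inv_z, h.inv_y,
      h.inv_s, mul_one, one_mul]

end

/-! ### Injectivity -/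

theorem cen : ∀ x : M, x ≠ 1 → (x = (r 2, 1) ∨ x = (1, r 2) ∨ x = (r 2, r 2)) ∨
    ∃ c : M, x * c * x⁻¹ * c⁻¹ = (r 2, 1) ∨ x * c * x⁻¹ * c⁻¹ = (1, r 2) ∨
      x * c * x⁻¹ * c⁻¹ = (r 2, r 2) := by decide +kernel

theorem i_d (h : W7 z i j k l y s) : i * (i * j * k * l) * i⁻¹ = i * j * k * l * z := by
  simp only [mul_assoc, h.ii, h.ii_, h.zi, h.zi_, h.jj, h.jj_, h.zj, h.zj_, h.kk, h.kk_, h.zk,
      h.zk_, h.ll, h.ll_, h.zl, h.zl_, h.zz, h.zz_, h.ji, h.ji_, h.ki, h.ki_, h.li, h.li_, h.kj,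
      h.kj_, h.lj, h.lj_, h.lk, h.lk_, h.yi, h.yi_, h.yj, h.yj_, h.yk, h.yk_, h.yl, h.yl_, h.yz,
      h.yz_, h.yy, h.yy_, h.si, h.si_, h.sj, h.sj_, h.sk, h.sk_, h.sl, h.sl_, h.sz, h.sz_, h.sy,
      h.sy_, h.ss, h.ss_, mul_inv_rev, h.inv_i, h.inv_j, h.inv_k, h.inv_l, h.inv_z, h.inv_y,
      h.inv_s, mul_one, one_mul]

theorem phi_injective (h : W7 z i j k l y s) (hz : z ≠ 1) : Function.Injective (phi h) := by
  have hd : i * j * k * l ≠ 1 := by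
    intro h1
    have h2 := i_d h
    rw [h1, mul_one, mul_inv_cancel, one_mul] at h2
    exact hz h2.symm
  have hdz : i * j * k * l * z ≠ 1 := by
    intro h1
    have h2 := i_d h
    rw [h1, eq_inv_of_mul_eq_one_left h1] at h2
    apply hz
    have h3 : z⁻¹ = i⁻¹ * (i * z⁻¹ * i⁻¹) * i := by group
    rw [h2] at h3
    rw [← inv_inv z, h3]
    simp
  rw [injective_iff_map_eq_one]
  intro x hx
  by_contra hne
  have h3 : ∀ x : M, phi h x = 1 → (x = (r 2, 1) ∨ x = (1, r 2) ∨ x = (r 2, r 2)) → False := by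
    rintro x hx (rfl | rfl | rfl)
    · rw [phi_d] at hx; exact hd hx
    · rw [phi_dz] at hx; exact hdz hx
    · rw [phi_z] at hx; exact hz hx
  rcases cen x hne with h1 | ⟨c, h1⟩
  · exact h3 x hx h1
  · apply h3 _ _ h1
    rw [map_mul, map_mul, map_mul, hx, map_inv, map_inv, hx]
    simp

end Cfsg.Agent.LargeExtra.W2.LFour.TwoT
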